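import Cfsg.Agent.Lib.Spor.AutPSLFour.CentA

/-!
Either the group is solvable or the class of the involution has 315 members.
-/

set_option autoImplicit false
set_option linter.style.haveILetI false
set_option maxRecDepth 100000

namespace Cfsg.Agent.Spor.AutPSLFour

attribute [local irreducible] mulc

variable {G : Type*} [Group G] [Finite G] {z : G} {F : Fr G z 0} {M : Subgroup G}

/-- orbit and stabiliser for the class -/
theorem card_class_mul (z : G) :
    Nat.card G = (clsC z []).ncard * Nat.card (Subgroup.centralizer ({z} : Set G)) := by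
  have h := (MulAction.stabilizer (ConjAct G) z).card_mul_index
  rw [MulAction.index_stabilizer, ← Subgroup.nat_card_centralizer_nat_card_stabilizer z, mul_comm] at h
  rw [Nat.card_congr (ConjAct.toConjAct (G := G)).toEquiv, ← h]
  congr 2
  ext u
  rw [ConjAct.mem_orbit_conjAct]
  exact ⟨fun h => ⟨h.symm, fun g hg => absurd hg (by simp)⟩, fun h => h.1.symm⟩

theorem solvable_of_small_class (hH : Group.IsSolvable ↥(Subgroup.centralizer ({z} : Set G)))
    (h : (clsC z []).ncard ≤ 4) : Group.IsSolvable G := by
  haveI := hH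
  haveI := Perm.Fpf.solvable_perm_four
  classical
  haveI := Fintype.ofFinite ↥(clsC z [])
  have hmem : ∀ g : G, ∀ u : G, u ∈ clsC z [] ↔ MulAut.conj g u ∈ clsC z [] := fun g u => by
    have hc : IsConj u (MulAut.conj g u) := isConj_iff.2 ⟨g, rfl⟩
    exact ⟨fun h => ⟨h.1.trans hc, fun x hx => absurd hx (by simp)⟩,
      fun h => ⟨h.1.trans hc.symm, fun x hx => absurd hx (by simp)⟩⟩
  let act : G →* Equiv.Perm ↥(clsC z []) :=
    { toFun := fun g => (MulAut.conj g).toEquiv.subtypeEquiv (hmem g)
      map_one' := Equiv.ext fun u => Subtype.ext (by simp)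
      map_mul' := fun g g' => Equiv.ext fun u => Subtype.ext (by simp [mul_assoc]) }
  obtain ⟨ι⟩ : Nonempty (↥(clsC z []) ↪ Fin 4) := Function.Embedding.nonempty_of_card_le (by
    rw [← Nat.card_eq_fintype_card, Nat.card_coe_set_eq, Fintype.card_fin]; exact h)
  haveI : Group.IsSolvable (Equiv.Perm ↥(clsC z [])) :=
    Group.isSolvable_of_isSolvable_injective (Equiv.Perm.viaEmbeddingHom_injective ι)
  refine Group.isSolvable_of_ker_le_range (Subgroup.centralizer ({z} : Set G)).subtype act ?_
  intro g hg
  rw [Subgroup.range_subtype]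
  have h1 := congrArg Subtype.val (Equiv.ext_iff.1 (MonoidHom.mem_ker.1 hg) ⟨z, IsConj.refl z, fun x hx => absurd hx (by simp)⟩)
  exact Subgroup.mem_centralizer_singleton_iff.2 (mul_inv_eq_iff_eq_mul.1 h1)

namespace Kern

theorem split (K : Kern F M) (hH : Group.IsSolvable ↥(Subgroup.centralizer ({z} : Set G))) :
    Group.IsSolvable G ∨ (IsConj z (F.el 160) ∧ (clsC z []).ncard = 315) := by
  classical
  set b : Bool := decide (IsConj z (F.el 160)) with hbdef
  have hb : b = true ↔ IsConj z (F.el 160) := decide_eq_true_iff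
  obtain ⟨e1, e4, ep, e433⟩ := K.equations hb
  rw [K.card_centA, e433] at e1
  rw [ep] at e4
  set c := (clsC z [F.el 1, F.el 417]).ncard
  have hN : (clsC z [z]).ncard = cond b 27 3 := (K.jCount_eq hb [] (by simp)).trans (counts b).2.2.2.2.2.2
  have hle : clsC z [z] ⊆ clsC z [] := fun u hu => ⟨hu.1, fun g hg => absurd hg (by simp)⟩
  have hc0 : 0 < c := by
    rcases Nat.eq_zero_or_pos c with h | h
    · exfalso
      have hz : z ∈ clsC z [] := ⟨IsConj.refl z, fun g hg => absurd hg (by simp)⟩
      have := (Set.ncard_pos (Set.toFinite _)).2 ⟨z, hz⟩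
      rw [e1, h] at this
      simp at this
    · exact h
  cases hb' : b with
  | false =>
    rw [hb'] at e1 e4 hN
    simp only [cond_false] at e1 e4 hN
    have hc : c = 1 := by nlinarith
    refine Or.inl (solvable_of_small_class hH ?_)
    rw [e1, hc]
    norm_num
  | true =>
    rw [hb'] at e1 e4 hN
    simp only [cond_true] at e1 e4 hN
    have hc : c = 1 ∨ c = 3 := by
      have h3 : c * c + 3 = 4 * c := by nlinarith
      have : c ≤ 4 := by nlinarith
      interval_cases c <;> omega
    rcases hc with hc | hc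
    · exfalso
      rw [hc] at e1
      have heq : clsC z [z] = clsC z [] := Set.eq_of_subset_of_ncard_le hle (by rw [e1, hN]) (Set.toFinite _)
      have h160 : IsConj z (F.el 160) := hb.1 hb'
      obtain ⟨g, hg⟩ := isConj_iff.1 h160.symm
      have h163 : IsConj z (F.el 163) := (K.dH_iff hb (by norm_num)).2 (by rw [hb']; exact class_ok.2.2.2.2.2.2.2.1)
      have hmem : MulAut.conj g (F.el 163) ∈ clsC z [] :=
        ⟨h163.trans (isConj_iff.2 ⟨g, rfl⟩), fun x hx => absurd hx (by simp)⟩
      rw [← heq] at hmem
      have hc2 := hmem.2 z (List.mem_singleton_self z)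
      have hcm : Commute (F.el 163) (F.el 160) := by
        refine (MulAut.conj g).injective ?_
        rw [map_mul, map_mul, MulAut.conj_apply g (F.el 160), hg]
        exact hc2.eq
      have := (F.comm_iff (by norm_num) (by norm_num)).1 hcm.symm
      rw [class_ok.2.2.2.2.2.2.2.2.1] at this
      exact Bool.noConfusion this
    · exact Or.inr ⟨hb.1 hb', by rw [e1, hc]⟩

end Kern

end Cfsg.Agent.Spor.AutPSLFour
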