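import Cfsg.Prelude
import Cfsg.Agent.Lib.Char.ZStar
import Cfsg.Agent.Lib.Perm.Fpf.Solvable

/-!
The odd core is inverted by the involution; the group is solvable if the involution is isolated.
-/

set_option autoImplicit false
set_option linter.style.haveILetI false

namespace Cfsg.Agent.Spor.AutPSLFour

variable {G : Type*} [Group G] [Finite G]

/-- the odd core meets the centraliser trivially -/
theorem core_fixed (z : G) (E : Subgroup ↥(Subgroup.centralizer ({z} : Set G))) [hEn : E.Normal]
    (hE32 : Nat.card ↥E = 32) (hCE : Subgroup.centralizer (E : Set ↥(Subgroup.centralizer ({z} : Set G))) ≤ E)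
    {x : G} (hx : x ∈ Cfsg.oddCore G) (hxz : Commute x z) : x = 1 := by
  set O := (Cfsg.oddCore G).subgroupOf (Subgroup.centralizer ({z} : Set G))
  haveI : O.Normal := (inferInstance : (Cfsg.oddCore G).Normal).comap _
  have hco : (Nat.card O).Coprime (Nat.card E) := by
    rw [hE32, show (32 : ℕ) = 2 ^ 5 from rfl]
    refine Nat.Coprime.pow_right 5 ?_
    have h : Odd (Nat.card O) := by
      refine (Char.card_oddCore_odd G).of_dvd_nat ?_
      exact Subgroup.card_comap_dvd_of_injective _ _ Subtype.coe_injective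
    exact Nat.coprime_two_right.2 h
  have hdis : Disjoint O E := Subgroup.disjoint_of_coprime_natCard hco
  have hle : O ≤ E := fun o ho => hCE (Subgroup.mem_centralizer_iff.2 fun e he =>
    (Subgroup.commute_of_normal_of_disjoint O E inferInstance hEn hdis o e ho he).symm)
  have hxH : x ∈ Subgroup.centralizer ({z} : Set G) := Subgroup.mem_centralizer_singleton_iff.2 hxz.eq
  have : (⟨x, hxH⟩ : Subgroup.centralizer ({z} : Set G)) ∈ O ⊓ E := ⟨hx, hle hx⟩
  rw [hdis.eq_bot, Subgroup.mem_bot] at this
  exact congrArg Subtype.val this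

/-- conjugation by the involution inverts the odd core -/
theorem core_inverted (z : G) (hz : z * z = 1) (hfix : ∀ x ∈ Cfsg.oddCore G, Commute x z → x = 1)
    {x : G} (hx : x ∈ Cfsg.oddCore G) : z * x * z = x⁻¹ := by
  have zi : z⁻¹ = z := inv_eq_of_mul_eq_one_right hz
  haveI : (Cfsg.oddCore G).Normal := inferInstance
  have hff : MonoidHom.FixedPointFree
      ((MulAut.conjNormal z : MulAut (Cfsg.oddCore G)) : Cfsg.oddCore G → Cfsg.oddCore G) := by
    intro g hg
    have h := congrArg Subtype.val hg
    rw [MulAut.conjNormal_apply] at h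
    exact Subtype.ext (hfix g g.2 (mul_inv_eq_iff_eq_mul.1 h).symm)
  have hinv : Function.Involutive
      ((MulAut.conjNormal z : MulAut (Cfsg.oddCore G)) : Cfsg.oddCore G → Cfsg.oddCore G) := fun g => by
    rw [← MulAut.mul_apply, ← map_mul, hz, map_one, MulAut.one_apply]
  have := congrArg Subtype.val (congrFun (MonoidHom.FixedPointFree.coe_eq_inv_of_involutive hff hinv) ⟨x, hx⟩)
  rw [MulAut.conjNormal_apply, zi] at this
  exact this

theorem core_comm (z : G) (hz : z * z = 1) (hfix : ∀ x ∈ Cfsg.oddCore G, Commute x z → x = 1) :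
    IsMulCommutative ↥(Cfsg.oddCore G) := by
  refine ⟨⟨fun a b => Subtype.ext ?_⟩⟩
  have zi : ∀ y : G, z * (z * y) = y := fun y => by rw [← mul_assoc, hz, one_mul]
  have ha := core_inverted z hz hfix a.2
  have hb := core_inverted z hz hfix b.2
  have hab := core_inverted z hz hfix (mul_mem a.2 b.2)
  have h : z * ((a : G) * b) * z = (a : G)⁻¹ * (b : G)⁻¹ := by
    rw [← ha, ← hb]
    simp only [mul_assoc, zi]
  rw [hab, ← mul_inv_rev] at h
  exact inv_injective h

theorem centralizer_solvable (z : G) (E : Subgroup ↥(Subgroup.centralizer ({z} : Set G))) [hEn : E.Normal]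
    (hE32 : Nat.card ↥E = 32) (e : (↥(Subgroup.centralizer ({z} : Set G)) ⧸ E) ≃* Equiv.Perm (Fin 4)) :
    Group.IsSolvable ↥(Subgroup.centralizer ({z} : Set G)) := by
  haveI : Fact (Nat.Prime 2) := ⟨Nat.prime_two⟩
  haveI : Group.IsNilpotent E := (IsPGroup.of_card (p := 2) (n := 5) (by rw [hE32]; norm_num)).isNilpotent
  haveI : Group.IsSolvable E := inferInstance
  haveI := Perm.Fpf.solvable_perm_four
  refine Group.isSolvable_of_ker_le_range E.subtype (e.toMonoidHom.comp (QuotientGroup.mk' E)) ?_
  intro x hx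
  rw [Subgroup.range_subtype]
  rw [MonoidHom.mem_ker, MonoidHom.coe_comp, Function.comp_apply, MulEquiv.coe_toMonoidHom,
    EmbeddingLike.map_eq_one_iff] at hx
  exact (QuotientGroup.eq_one_iff x).1 hx

/-- the group is solvable if the involution is isolated -/
theorem solvable_of_isolated (z : G) (hz : z * z = 1) (hz1 : z ≠ 1)
    (hfix : ∀ x ∈ Cfsg.oddCore G, Commute x z → x = 1) (hH : Group.IsSolvable ↥(Subgroup.centralizer ({z} : Set G)))
    (hiso : ∀ g : G, Commute z (g * z * g⁻¹) → g * z * g⁻¹ = z) : Group.IsSolvable G := by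
  haveI : Fact (Nat.Prime 2) := ⟨Nat.prime_two⟩
  haveI := hH
  haveI : (Cfsg.oddCore G).Normal := inferInstance
  haveI : Group.IsSolvable ↥(Cfsg.oddCore G) :=
    Group.isSolvable_of_comm fun a b => (core_comm z hz hfix).is_comm.comm a b
  have hz2 : orderOf z = 2 := orderOf_eq_prime ((pow_two z).trans hz) hz1
  have hstar := Char.zStar_isolated (z := z) ⟨hz2, hiso⟩
  have hsurj : Function.Surjective
      ((QuotientGroup.mk' (Cfsg.oddCore G)).comp (Subgroup.centralizer ({z} : Set G)).subtype) := by
    intro q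
    obtain ⟨g, rfl⟩ := QuotientGroup.mk'_surjective (Cfsg.oddCore G) q
    set o : G := z * g * z⁻¹ * g⁻¹ with ho
    obtain ⟨j, hj⟩ := Char.card_oddCore_odd G
    set r : G := o ^ (j + 1)
    have hr : r * r = o := by
      rw [← pow_add, show j + 1 + (j + 1) = Nat.card (Cfsg.oddCore G) + 1 by omega, pow_succ,
        show o ^ Nat.card (Cfsg.oddCore G) = 1 from congrArg Subtype.val
          (pow_card_eq_one' (x := (⟨o, hstar g⟩ : Cfsg.oddCore G))), one_mul]
    have hrO : r ∈ Cfsg.oddCore G := pow_mem (hstar g) _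
    have hrz := core_inverted z hz hfix hrO
    have zi : z⁻¹ = z := inv_eq_of_mul_eq_one_right hz
    refine ⟨⟨r * g, Subgroup.mem_centralizer_singleton_iff.2 ?_⟩, ?_⟩
    · have e1 : z * r = r⁻¹ * z := by
        rw [← hrz]; simp [mul_assoc, hz]
      have e2 : z * g = o * g * z := by rw [ho]; group
      symm
      calc z * (r * g) = r⁻¹ * (z * g) := by rw [← mul_assoc, e1, mul_assoc]
        _ = r * g * z := by rw [e2, ← hr]; group
    · rw [MonoidHom.coe_comp, Function.comp_apply, QuotientGroup.mk'_apply, QuotientGroup.mk'_apply, eq_comm,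
        QuotientGroup.eq]
      exact (inferInstance : (Cfsg.oddCore G).Normal).conj_mem' r hrO g |> fun h => by simpa [mul_assoc] using h
  haveI : Group.IsSolvable (G ⧸ Cfsg.oddCore G) := Group.isSolvable_of_surjective hsurj
  exact Group.isSolvable_of_ker_le_range (Cfsg.oddCore G).subtype (QuotientGroup.mk' (Cfsg.oddCore G))
    (by rw [QuotientGroup.ker_mk', Subgroup.range_subtype])

end Cfsg.Agent.Spor.AutPSLFour
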