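import Cfsg.Agent.Lib.Spor.AutPSLFour.Count
import Cfsg.Agent.Lib.Spor.AutPSLFour.Core

/-!
The class inside the centraliser of the first involution outside the kernel: the central involution is isolated there,
and the odd core splits under a further commuting involution.
-/

set_option autoImplicit false
set_option linter.style.haveILetI false
set_option maxRecDepth 100000

namespace Cfsg.Agent.Spor.AutPSLFour

attribute [local irreducible] mulc

variable {G : Type*} [Group G] [Finite G] {z : G} {F : Fr G z 0} {M : Subgroup G}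

namespace Kern

/-- the odd core of the centraliser of the first involution -/
def coreA (F : Fr G z 0) : Subgroup G :=
  (Cfsg.oddCore ↥(Subgroup.centralizer ({F.el 1} : Set G))).map (Subgroup.centralizer ({F.el 1} : Set G)).subtype

theorem coreA_odd (F : Fr G z 0) : Odd (Nat.card (coreA F)) := by
  rw [coreA, ← Nat.card_congr ((Cfsg.oddCore _).equivMapOfInjective _ (Subgroup.subtype_injective _)).toEquiv]
  exact Char.card_oddCore_odd _

theorem coreA_comm_el (F : Fr G z 0) {o : G} (ho : o ∈ coreA F) : Commute o (F.el 1) := by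
  obtain ⟨k, -, rfl⟩ := ho
  exact Subgroup.mem_centralizer_singleton_iff.1 k.2

theorem coreA_conj (F : Fr G z 0) {o y : G} (ho : o ∈ coreA F) (hy : Commute y (F.el 1)) :
    y * o * y⁻¹ ∈ coreA F := by
  obtain ⟨k, hk, rfl⟩ := ho
  exact ⟨⟨y, Subgroup.mem_centralizer_singleton_iff.2 hy.eq⟩ * k *
    ⟨y, Subgroup.mem_centralizer_singleton_iff.2 hy.eq⟩⁻¹, (inferInstance : (Cfsg.oddCore _).Normal).conj_mem k hk _, rfl⟩

theorem coreA_fixed (F : Fr G z 0) {x : G} (hx : x ∈ coreA F) (hxz : Commute x z) : x = 1 := by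
  set N := coreA F ⊓ Subgroup.centralizer ({z} : Set G)
  have hxN : x ∈ N := ⟨hx, Subgroup.mem_centralizer_singleton_iff.2 hxz.eq⟩
  have hN : Nat.card N ∣ 3 := by
    have hle : N ≤ Subgroup.centralizer ({F.el 1} : Set G) ⊓ Subgroup.centralizer ({z} : Set G) :=
      inf_le_inf_right _ fun o ho => Subgroup.mem_centralizer_singleton_iff.2 (coreA_comm_el F ho).eq
    have hcard : Nat.card ↥(Subgroup.centralizer ({F.el 1} : Set G) ⊓ Subgroup.centralizer ({z} : Set G)) ∣ 2 ^ 5 * 3 := by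
      obtain ⟨hl, hc, -⟩ := syl_count (1, sylA, 12, 24) (by simp [sylOf])
      rw [F.card_eq (fun a => cm 0 a 1) (· ∈ Subgroup.centralizer ({F.el 1} : Set G) ⊓ Subgroup.centralizer ({z} : Set G)) (fun g hg => Subgroup.mem_centralizer_singleton_iff.1 hg.2) fun a ha => by
        simp [Subgroup.mem_inf, Subgroup.mem_centralizer_singleton_iff, ← F.comm_iff ha (by norm_num : 1 < 768),
          (F.el_comm ha).eq, commute_iff_eq]]
      rcases hc with h | h <;> rw [show ((els.filter fun a => cm 0 a 1).length) = _ from h] <;>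
        rcases hl with e | e <;> rw [e] <;> decide
    have hodd : Odd (Nat.card N) := (coreA_odd F).of_dvd_nat (Subgroup.card_dvd_of_le inf_le_left)
    exact ((Nat.coprime_two_right.2 hodd).pow_right 5).dvd_of_dvd_mul_left
      ((Subgroup.card_dvd_of_le hle).trans hcard)
  by_contra hx1
  obtain ⟨a, ha, rfl⟩ := F.el_surj hxz
  have h3 : powc a 3 = 0 := by
    refine F.el_inj (el_pow F ha 3).1 (by norm_num) ?_
    rw [(el_pow F ha 3).2, F.el_zero, ← orderOf_dvd_iff_pow_eq_one]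
    exact ((Subgroup.orderOf_coe ⟨_, hxN⟩).symm ▸ orderOf_dvd_natCard (⟨F.el a, hxN⟩ : N) :
      orderOf (F.el a) ∣ Nat.card N).trans hN
  have h := List.all_eq_true.1 no_core a (List.mem_range.2 ha)
  have ha0 : a ≠ 0 := fun e => hx1 (by rw [e, F.el_zero])
  simp only [(F.comm_iff ha (by norm_num : 1 < 768)).1 (coreA_comm_el F hx), h3, eqv, Nat.beq_refl, Bool.and_self,
    Bool.not_true, Bool.false_or, Bool.or_eq_true, Nat.beq_eq, ha0, false_or, List.any_eq_true, Bool.and_eq_true,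
    Bool.not_eq_true', Bool.eq_false_iff, ne_eq] at h
  obtain ⟨y, hy, ⟨hy1, hxy⟩, hxxy⟩ := h
  have hy := List.mem_range.1 hy
  set c := F.el y * F.el a * (F.el y)⁻¹ with hc
  have hcN : c ∈ N := ⟨coreA_conj F hx ((F.comm_iff hy (by norm_num)).2 hy1),
    Subgroup.mem_centralizer_singleton_iff.2 ((((F.el_comm hy).mul_left (F.el_comm ha)).mul_left
      (F.el_comm hy).inv_left).eq)⟩
  have e1 : c ≠ F.el a := fun e => hxy (F.el_inj (F.mul_lt hy ha) (F.mul_lt ha hy) (by
    rw [F.el_mul hy ha, F.el_mul ha hy]; exact mul_inv_eq_iff_eq_mul.1 e))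
  have e2 : c ≠ F.el a * F.el a := fun e => hxxy (F.el_inj (F.mul_lt hy ha) (F.mul_lt (F.mul_lt ha ha) hy) (by
    rw [F.el_mul hy ha, F.el_mul (F.mul_lt ha ha) hy, F.el_mul ha ha]; exact mul_inv_eq_iff_eq_mul.1 e))
  have e3 : c ≠ 1 := fun e => hx1 (conj_eq_one_iff.1 e)
  have a2 : F.el a * F.el a ≠ F.el a := fun e => hx1 (mul_eq_left.1 e)
  have a3 : F.el a * F.el a ≠ 1 := fun e => hx1 (by
    have h := (el_pow F ha 3).2
    rw [h3, F.el_zero, pow_succ, pow_two, e, one_mul] at h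
    exact h.symm)
  classical
  haveI := Fintype.ofFinite N
  have h4 : 4 ≤ Nat.card N := by
    rw [Nat.card_eq_fintype_card, ← Fintype.card_fin 4]
    refine Fintype.card_le_of_injective ![(1 : N), ⟨F.el a, hxN⟩, ⟨F.el a * F.el a, mul_mem hxN hxN⟩, ⟨c, hcN⟩] ?_
    intro i j hij
    fin_cases i <;> fin_cases j <;> first | rfl | (simp [Subtype.ext_iff, e1, e2, e3, e1.symm, e2.symm, e3.symm, a2,
      a2.symm, a3, a3.symm, hx1, Ne.symm hx1] at hij)
  exact absurd (Nat.le_of_dvd (by norm_num) hN) (by omega)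

theorem coreA_inv (F : Fr G z 0) :
    (∀ o ∈ coreA F, z * o * z = o⁻¹) ∧ ∀ o ∈ coreA F, ∀ o' ∈ coreA F, Commute o o' := by
  set zK : ↥(Subgroup.centralizer ({F.el 1} : Set G)) :=
    ⟨z, Subgroup.mem_centralizer_singleton_iff.2 (F.el_comm (by norm_num : 1 < 768)).symm.eq⟩
  have hz2 : zK * zK = 1 := Subtype.ext F.z_sq
  have hfix : ∀ x ∈ Cfsg.oddCore ↥(Subgroup.centralizer ({F.el 1} : Set G)), Commute x zK → x = 1 :=
    fun x hx hc => Subtype.ext (coreA_fixed F ⟨x, hx, rfl⟩ (congrArg Subtype.val hc.eq))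
  constructor
  · rintro _ ⟨k, hk, rfl⟩
    exact congrArg Subtype.val (core_inverted zK hz2 hfix hk)
  · rintro _ ⟨k, hk, rfl⟩ _ ⟨k', hk', rfl⟩
    exact congrArg (fun x : Cfsg.oddCore ↥(Subgroup.centralizer ({F.el 1} : Set G)) => (x.1 : G))
      ((core_comm zK hz2 hfix).is_comm.comm ⟨k, hk⟩ ⟨k', hk'⟩)

theorem coreA_class (K : Kern F M) {u : G} (hu : IsConj z u) (hua : Commute u (F.el 1)) : u * z ∈ coreA F := by
  set L := Subgroup.centralizer ({F.el 1} : Set G) with hL
  have hzL : z ∈ L := Subgroup.mem_centralizer_singleton_iff.2 (F.el_comm (by norm_num : 1 < 768)).symm.eq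
  have hiso : ∀ g : L, Commute (⟨z, hzL⟩ : L) (g * ⟨z, hzL⟩ * g⁻¹) → g * ⟨z, hzL⟩ * g⁻¹ = (⟨z, hzL⟩ : L) := by
    intro g hg
    refine Subtype.ext ?_
    have hga : Commute (g : G) (F.el 1) := Subgroup.mem_centralizer_singleton_iff.1 g.2
    set y := (g : G) * z * (g : G)⁻¹ with hy
    have hya : Commute y (F.el 1) := (hga.mul_left (F.el_comm (by norm_num : 1 < 768)).symm).mul_left hga.inv_left
    have hyz : Commute y z := (congrArg Subtype.val hg.eq : z * y = y * z).symm
    obtain ⟨a, ha, hae⟩ := F.el_surj hyz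
    obtain ⟨yM, y2, y1⟩ := K.cls_mem (isConj_iff.2 ⟨g, rfl⟩ : IsConj z y)
    have h := List.all_eq_true.1 cent_comm 1 (by decide)
    simp only [rep_orbit.1, Bool.true_or, Bool.not_true, Bool.false_or, List.all_eq_true] at h
    -- only one involution of the kernel commutes with both
    have hdec : ∀ a < 768, ev a = true → sqOne a = true → cm 0 a 1 = true → a = 16 := by decide +kernel
    show y = z
    rw [← hae] at yM y2 y1 hya ⊢
    rw [hdec a ha ((K.mem a ha).1 yM) ?_ ((F.comm_iff ha (by norm_num)).1 hya), F.el_z]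
    rw [← F.el_zero, F.sq_iff ha (by norm_num)] at y2
    simp only [sqOne, y2, eqv, Nat.beq_refl, Bool.true_and, Bool.not_eq_true', Bool.eq_false_iff, ne_eq, Nat.beq_eq]
    exact fun e => y1 (by rw [e, F.el_zero])
  have hz2 : orderOf (⟨z, hzL⟩ : L) = 2 := by
    haveI : Fact (Nat.Prime 2) := ⟨Nat.prime_two⟩
    exact orderOf_eq_prime ((pow_two _).trans (Subtype.ext F.z_sq)) fun e => F.z_ne_one (congrArg Subtype.val e)
  obtain ⟨g, hg, hgu⟩ := K.trans_one (r := 1) (by simp) u ⟨hu, fun x hx => by rw [List.mem_singleton.1 hx]; exact hua⟩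
  have hgL : g⁻¹ ∈ L := inv_mem (Subgroup.mem_centralizer_singleton_iff.2 (by
    have h := hg (F.el 1) (List.mem_singleton_self _)
    rw [MulAut.conj_apply] at h
    exact mul_inv_eq_iff_eq_mul.1 h))
  have h := Char.zStar_isolated (z := (⟨z, hzL⟩ : L)) ⟨hz2, hiso⟩ ⟨g⁻¹, hgL⟩
  refine ⟨_, inv_mem h, ?_⟩
  have hzi : z⁻¹ = z := inv_eq_of_mul_eq_one_right F.z_sq
  rw [MulAut.conj_apply] at hgu
  show (z * g⁻¹ * z⁻¹ * g⁻¹⁻¹)⁻¹ = u * z
  conv_rhs => rw [show u = g⁻¹ * z * g by rw [← hgu]; group]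
  simp only [mul_inv_rev, inv_inv, hzi, mul_assoc]

/-- the class inside the centraliser is a product -/
theorem card_centA (K : Kern F M) :
    (clsC z [F.el 1]).ncard = (clsC z [F.el 1, F.el 417]).ncard * (clsC z [F.el 1, F.el 433]).ncard := by
  obtain ⟨hinv, hcomm⟩ := coreA_inv F
  have hzi : z⁻¹ = z := inv_eq_of_mul_eq_one_right F.z_sq
  obtain ⟨j, hj⟩ := coreA_odd F
  have hroot : ∀ o ∈ coreA F, o ^ (j + 1) * o ^ (j + 1) = o := fun o ho => by
    rw [← pow_add, show j + 1 + (j + 1) = Nat.card (coreA F) + 1 by omega, pow_succ,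
      show o ^ Nat.card (coreA F) = 1 from congrArg Subtype.val (pow_card_eq_one' (x := (⟨o, ho⟩ : coreA F))), one_mul]
  have hsq : ∀ o ∈ coreA F, ∀ o' ∈ coreA F, o * o = o' * o' → o = o' := by
    intro o ho o' ho' e
    rw [← hroot o ho, ← hroot o' ho', ← (Commute.refl o).mul_pow, ← (Commute.refl o').mul_pow, e]
  have hf : ∀ o ∈ coreA F, o * z * o⁻¹ = o * o * z := fun o ho => by
    have h : z * o⁻¹ = o * z := by
      have := hinv _ (inv_mem ho)
      rw [inv_inv] at this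
      calc z * o⁻¹ = z * o⁻¹ * z * z := by rw [mul_assoc (z * o⁻¹), F.z_sq, mul_one]
        _ = o * z := by rw [this]
    rw [mul_assoc, h, ← mul_assoc]
  have h1 : 1 < 768 := by norm_num
  have key : ∀ L : List ℕ, (∀ s ∈ L, s < 768 ∧ Commute (F.el s) (F.el 1)) →
      (clsC z (F.el 1 :: L.map F.el)).ncard = Nat.card {o : G // o ∈ coreA F ∧ ∀ s ∈ L, Commute o (F.el s)} := by
    intro L hL
    rw [← Nat.card_coe_set_eq]
    refine (Nat.card_eq_of_bijective
      (fun o : {o : G // o ∈ coreA F ∧ ∀ s ∈ L, Commute o (F.el s)} =>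
        (⟨o.1 * z * o.1⁻¹, isConj_iff.2 ⟨o.1, rfl⟩, ?_⟩ : ↥(clsC z (F.el 1 :: L.map F.el)))) ⟨?_, ?_⟩).symm
    · intro g hg
      rcases List.mem_cons.1 hg with rfl | hg
      · exact ((coreA_comm_el F o.2.1).mul_left (F.el_comm h1).symm).mul_left (coreA_comm_el F o.2.1).inv_left
      · obtain ⟨s, hs, rfl⟩ := List.mem_map.1 hg
        exact ((o.2.2 s hs).mul_left (F.el_comm (hL s hs).1).symm).mul_left (o.2.2 s hs).inv_left
    · intro a b e
      have e' := congrArg Subtype.val e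
      simp only [hf _ a.2.1, hf _ b.2.1, mul_right_cancel_iff] at e'
      exact Subtype.ext (hsq _ a.2.1 _ b.2.1 e')
    · rintro ⟨u, hu, huL⟩
      have ht := coreA_class K hu (huL _ (List.mem_cons_self ..))
      have hr := pow_mem ht (j + 1)
      refine ⟨⟨(u * z) ^ (j + 1), hr, fun s hs => ?_⟩, Subtype.ext ?_⟩
      · exact ((huL _ (List.mem_cons_of_mem _ (List.mem_map_of_mem hs))).mul_left (F.el_comm (hL s hs).1).symm).pow_left _
      · show _ * z * _ = u
        rw [hf _ hr, hroot _ ht, mul_assoc, F.z_sq, mul_one]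
  have hca : Commute (F.el 417) (F.el 1) := ((F.comm_iff h1 (by norm_num)).2 class_ok.2.2.2.2.2.2.2.2.2.2.2.2.2).symm
  have e433 : F.el 433 = F.el 417 * z := by
    rw [← class_ok.2.2.2.2.2.1, F.el_mul (by norm_num) (by norm_num), F.el_z]
  have hcb : Commute (F.el 433) (F.el 1) := by rw [e433]; exact hca.mul_left (F.el_comm h1).symm
  have k0 := key [] (by simp)
  have k1 := key [417] (by simp [hca])
  have k2 := key [433] (by simp [hcb])
  simp only [List.map_cons, List.map_nil] at k0 k1 k2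
  rw [k0, k1, k2, ← Nat.card_prod]
  set s := F.el 417 with hsdef
  have hs2 : s * s = 1 := by
    rw [hsdef, ← F.el_mul (by norm_num) (by norm_num), class_ok.2.2.2.2.2.2.2.2.2.2.2.2.1, F.el_zero]
  have hsi : s⁻¹ = s := inv_eq_of_mul_eq_one_right hs2
  have hsz : Commute s z := F.el_comm (by norm_num)
  refine (Nat.card_eq_of_bijective (fun p : {o : G // o ∈ coreA F ∧ ∀ t ∈ [417], Commute o (F.el t)} ×
      {o : G // o ∈ coreA F ∧ ∀ t ∈ [433], Commute o (F.el t)} =>
      (⟨p.1.1 * p.2.1, mul_mem p.1.2.1 p.2.2.1, by simp⟩ : {o : G // o ∈ coreA F ∧ ∀ t ∈ ([] : List ℕ), Commute o (F.el t)}))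
      ⟨?_, ?_⟩).symm
  · rintro ⟨⟨p, hp, hp'⟩, ⟨q, hq, hq'⟩⟩ ⟨⟨p₁, hp₁, hp₁'⟩, ⟨q₁, hq₁, hq₁'⟩⟩ e
    have e' : p * q = p₁ * q₁ := congrArg Subtype.val e
    have hd : p₁⁻¹ * p = q₁ * q⁻¹ := by
      rw [eq_mul_inv_iff_mul_eq, mul_assoc, e', inv_mul_cancel_left]
    have hsd : Commute (p₁⁻¹ * p) s := ((hp₁' 417 (by simp)).inv_left).mul_left (hp' 417 (by simp))
    have hzd : Commute (p₁⁻¹ * p) (s * z) := by
      rw [hd, ← e433]; exact (hq₁' 433 (by simp)).mul_left (hq' 433 (by simp)).inv_left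
    have := coreA_fixed F (mul_mem (inv_mem hp₁) hp) (by
      have h := hsd.mul_right hzd
      rwa [← mul_assoc, hs2, one_mul] at h)
    have hpe : p = p₁ := (inv_mul_eq_one.1 this).symm
    subst hpe
    have hqe : q = q₁ := mul_left_cancel e'
    subst hqe
    rfl
  · rintro ⟨o, ho, -⟩
    have ho' : s * o * s ∈ coreA F := by
      have := coreA_conj F ho hca
      rwa [hsi] at this
    obtain ⟨o', eo⟩ : ∃ o', s * o * s = o' := ⟨_, rfl⟩
    rw [eo] at ho'
    have hso' : s * o' * s = o := by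
      simp only [← eo, mul_assoc, hs2, mul_one]; rw [← mul_assoc, hs2, one_mul]
    have hp : o * o' ∈ coreA F := mul_mem ho ho'
    have hq : o * o'⁻¹ ∈ coreA F := mul_mem ho (inv_mem ho')
    have cj : ∀ x y : G, s * (x * y) * s = (s * x * s) * (s * y * s) := fun x y => by
      simp only [mul_assoc]; rw [← mul_assoc s s, hs2, one_mul]
    have hps : Commute (o * o') s := by
      have h : s * (o * o') * s = o * o' := by rw [cj, hso', eo]; exact (hcomm _ ho' _ ho).eq
      show o * o' * s = s * (o * o')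
      conv_lhs => rw [← h, mul_assoc, hs2, mul_one]
    have hqs : Commute (o * o'⁻¹) (s * z) := by
      have h : s * (o * o'⁻¹) * s = (o * o'⁻¹)⁻¹ := by
        rw [cj, mul_inv_rev, inv_inv, show s * o'⁻¹ * s = (s * o' * s)⁻¹ by rw [mul_inv_rev, mul_inv_rev, hsi, mul_assoc],
          hso', eo]
      have h2 : (s * z) * (o * o'⁻¹) = (o * o'⁻¹) * (s * z) := by
        have hz' := hinv _ hq
        calc (s * z) * (o * o'⁻¹) = s * (z * (o * o'⁻¹) * z) * z := by simp only [mul_assoc, F.z_sq, mul_one]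
          _ = s * (o * o'⁻¹)⁻¹ * z := by rw [hz']
          _ = (o * o'⁻¹) * s * z := by
            rw [← h]; simp only [← mul_assoc, hs2, one_mul]
          _ = _ := by rw [mul_assoc]
      exact h2.symm
    refine ⟨⟨⟨(o * o') ^ (j + 1), pow_mem hp _, fun t ht => ?_⟩, ⟨(o * o'⁻¹) ^ (j + 1), pow_mem hq _, fun t ht => ?_⟩⟩,
      Subtype.ext ?_⟩
    · rw [List.mem_singleton.1 ht]; exact hps.pow_left _
    · rw [List.mem_singleton.1 ht, e433]; exact hqs.pow_left _
    · show (o * o') ^ (j + 1) * (o * o'⁻¹) ^ (j + 1) = o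
      have hc : Commute ((o * o') ^ (j + 1)) ((o * o'⁻¹) ^ (j + 1)) := hcomm _ (pow_mem hp _) _ (pow_mem hq _)
      refine hsq _ (mul_mem (pow_mem hp _) (pow_mem hq _)) _ ho ?_
      calc _ = ((o * o') ^ (j + 1) * (o * o') ^ (j + 1)) * ((o * o'⁻¹) ^ (j + 1) * (o * o'⁻¹) ^ (j + 1)) :=
            hc.symm.mul_mul_mul_comm _ _
        _ = o * o' * (o * o'⁻¹) := by rw [hroot _ hp, hroot _ hq]
        _ = o * o := by
          rw [(hcomm o' ho' o ho).mul_mul_mul_comm, mul_inv_cancel, mul_one]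

end Kern

end Cfsg.Agent.Spor.AutPSLFour
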