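import Cfsg.Agent.Lib.Spor.AutPSLFour.Code
import Cfsg.Agent.Lib.Perm.MinusThirtyTwo

/-!
Checks on the codes and on the automorphisms of the extraspecial group.
-/

set_option autoImplicit false
set_option maxRecDepth 100000

namespace Cfsg.Agent.Spor.AutPSLFour

open Cfsg.Agent.Perm.MinusThirtyTwo

/-- the element of a normal form -/
def moOf (e : ℕ) : Mo :=
  t 0 ^ bit e 0 * t 1 ^ bit e 1 * t 2 ^ bit e 2 * t 3 ^ bit e 3 * z ^ bit e 4

theorem moOf_mul : ∀ x < 32, ∀ y < 32, emul x y < 32 ∧ moOf (emul x y) = moOf x * moOf y := by decide +kernel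

theorem moOf_inj : ∀ x < 32, ∀ y < 32, moOf x = moOf y → x = y := by decide +kernel

theorem moOf_surj : ∀ m : Mo, ∃ x < 32, moOf x = m := by decide +kernel

theorem moOf_special : moOf 0 = 1 ∧ moOf 16 = z := by decide +kernel

/-- images of the generators under a transposition -/
def sImg (j : ℕ) : Fin 4 → Mo :=
  bif Nat.beq j 0 then ![t 1, t 0, t 2, t 3] else bif Nat.beq j 1 then ![t 0, t 2, t 1, t 3] else ![t 0, t 1, t 3, t 2]

theorem sImg_ok : ∀ j < 3, (∀ x y : Mo, img (sImg j) (x * y) = img (sImg j) x * img (sImg j) y) ∧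
    ∀ x : Mo, img (sImg j) (img (sImg j) x) = x ∧ img (sImg j) (img (sImg j) x) = x := by decide +kernel

theorem act_ok : ∀ s < 24, ∀ g < 32, eact s g < 32 ∧
    moOf (eact s g) = (words.getD s []).foldr (fun j y => img (sImg j) y) (moOf g) := by decide +kernel

theorem words_ok : ∀ t < 24, (∀ j ∈ words.getD t [], j < 3) ∧ walkTo 0 (words.getD t []) = t ∧
    (t = 0 → words.getD t [] = []) ∧
    (t ≠ 0 → words.getD t [] = words.getD (treeEdge t).1 [] ++ [(treeEdge t).2] ∧ (treeEdge t).1 < 24 ∧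
      (treeEdge t).2 < 3 ∧ (words.getD (treeEdge t).1 []).length < (words.getD t []).length ∧
      pmul (treeEdge t).1 (gperm.getD (treeEdge t).2 0) = t ∧
      ∀ v < 4, fbit v (treeEdge t).1 (gperm.getD (treeEdge t).2 0) = 0) := by decide +kernel

theorem pmul_lt : ∀ s < 24, ∀ t < 24, pmul s t < 24 := by decide +kernel

theorem gperm_lt : ∀ j < 3, gperm.getD j 0 < 24 := by decide +kernel

theorem pmul_zero : ∀ s < 24, pmul s 0 = s ∧ pmul 0 s = s ∧ ∀ v < 4, fbit v s 0 = 0 ∧ fbit v 0 s = 0 := by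
  decide +kernel

theorem deds_ok : ∀ v < 4, dedAll v deds treeEdges = true := by decide +kernel

theorem fbit_step : ∀ v < 4, ∀ s < 24, ∀ t < 24, fbit v s t < 2 ∧ (t ≠ 0 →
    fbit v s t = Nat.xor (fbit v s (treeEdge t).1) (fbit v (pmul s (treeEdge t).1) (gperm.getD (treeEdge t).2 0)) ∧
      pmul (pmul s (treeEdge t).1) (gperm.getD (treeEdge t).2 0) = pmul s t) := by decide +kernel

/-- the permutation of five points of a word in the transpositions -/
def wperm (w : List ℕ) : Equiv.Perm (Fin 5) :=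
  (w.map fun j => ([Equiv.swap (0 : Fin 5) 1, Equiv.swap 1 2, Equiv.swap 2 3] : List (Equiv.Perm (Fin 5))).getD j 1).prod

theorem wperm_inj : ∀ s < 24, ∀ t < 24, wperm (words.getD s []) = wperm (words.getD t []) → s = t := by
  decide +kernel

end Cfsg.Agent.Spor.AutPSLFour
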