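import Cfsg.Agent.Lib.Spor.AutPSLFour.Code

/-!
Checks on Sylow subgroups and on the two signs.
-/

set_option autoImplicit false
set_option maxRecDepth 100000

namespace Cfsg.Agent.Spor.AutPSLFour

/-- the sign of a normal form -/
def wtOf (x : ℕ) : ℕ := Nat.xor (Nat.xor (bit x 0) (bit x 1)) (Nat.xor (bit x 2) (bit x 3))

/-- the sign of the permutation -/
def sgOf (x : ℕ) : ℕ := bit 0x707e0e (sOf x)

/-- both signs trivial -/
def ev (x : ℕ) : Bool := eqv (wtOf x) 0 && eqv (sgOf x) 0

/-- membership in a list -/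
def inL (S : List ℕ) (x : ℕ) : Bool := S.any (eqv x)

/-- membership in a Sylow two-subgroup -/
def inT (x : ℕ) : Bool := inL sylT (sOf x)

theorem wt_ok : (∀ x < 32, ∀ y < 32, wtOf (emul x y) = Nat.xor (wtOf x) (wtOf y)) ∧
    (∀ s < 24, ∀ y < 32, wtOf (eact s y) = wtOf y) ∧
    (∀ e < 32, ∀ f < 2, wtOf (Nat.xor e (Nat.shiftLeft f 4)) = wtOf e) := by decide +kernel

theorem wt_eOf : ∀ x < 768, wtOf x = wtOf (eOf x) ∧ wtOf x < 2 ∧ sgOf x < 2 := by decide +kernel

theorem sg_ok : ∀ s < 24, ∀ t < 24, bit 0x707e0e (pmul s t) = Nat.xor (bit 0x707e0e s) (bit 0x707e0e t) ∧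
    ((inL sylT s = true ∧ inL sylT t = true) → inL sylT (pmul s t) = true) := by decide +kernel

/-- representatives with their two-subgroups and two numbers of roots -/
def sylOf : List (ℕ × List ℕ × ℕ × ℕ) :=
  [(1, sylA, 12, 24), (32, sylC, 20, 24), (36, sylD, 12, 16), (160, sylF, 20, 32)]

/-- elements of order dividing four -/
def fourth (x : ℕ) : Bool := eqv (mulc 0 (mulc 0 x x) (mulc 0 x x)) 0

theorem syl_dom : ∀ e ∈ sylOf, e.1 < 768 ∧ (∀ x ∈ e.2.1, x < 768 ∧ cm 0 x e.1 = true) ∧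
    inL e.2.1 0 = true ∧ inL e.2.1 16 = true ∧ (∀ x ∈ e.2.1, ∀ y ∈ e.2.1, inL e.2.1 (mulc 0 x y) = true) ∧
    (∀ x ∈ e.2.1, mulc 0 x x = 0 → e.2.1.all (cm 0 x) = true →
      x = 0 ∨ x = 16 ∨ x = e.1 ∨ x = mulc 0 e.1 16) ∧
    (els.any fun h => eqv (mulc 0 h e.1) (mulc 0 (mulc 0 e.1 16) h)) = true := by decide +kernel

theorem syl_count : ∀ e ∈ sylOf, ((els.filter (inL e.2.1)).length = 16 ∨ (els.filter (inL e.2.1)).length = 32) ∧
    ((els.filter fun x => cm 0 x e.1).length = (els.filter (inL e.2.1)).length ∨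
      (els.filter fun x => cm 0 x e.1).length = 3 * (els.filter (inL e.2.1)).length) ∧
    (els.filter (inL e.2.1)).length = e.2.1.length ∧
    (els.filter fun x => inL e.2.1 x && eqv (mulc 0 x x) 0).length = e.2.2.1 ∧
    (els.filter fun x => inL e.2.1 x && fourth x).length = e.2.2.2 := by decide +kernel

theorem sylT_ok : inT 0 = true ∧ inT 16 = true ∧ (els.filter inT).length = 256 ∧
    (els.all fun x => !(inT x && eqv (mulc 0 x x) 0) || eqv x 0 || eqv x 16 ||
      (els.any fun y => inT y && !(cm 0 x y))) = true ∧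
    (els.filter fun x => inT x && eqv (wtOf x) 0).length = 128 ∧
    (els.filter fun x => inT x && eqv (sgOf x) 0).length = 128 ∧
    (els.filter fun x => inT x && ev x).length = 64 ∧ (els.filter ev).length = 192 ∧
    inT 1 = true ∧ inT 32 = true ∧ inT 36 = true ∧ (els.filter fun _ => true).length = 768 := by decide +kernel

/-- members of the common kernel as products of two squares -/
def sqT : List (ℕ × ℕ × ℕ) := [
(0, 0, 0), (3, 0, 33), (5, 0, 289), (6, 0, 66), (9, 0, 673), (10, 0, 418), (12, 0, 100), (15, 0, 166), (16, 0, 3), (19, 0, 34), (21, 0, 291), (22, 0, 67), (25, 0, 675), (26, 0, 419), (28, 0, 101), (31, 0, 165), (128, 0, 192), (131, 0, 197), (133, 0, 193), (134, 0, 195), (137, 100, 198), (138, 100, 196), (140, 100, 192), (143, 100, 197), (144, 0, 199), (147, 0, 194), (149, 0, 198), (150, 0, 196), (153, 100, 193), (154, 100, 195), (156, 100, 199), (159, 100, 194), (160, 0, 640), (163, 0, 645), (165, 0, 641), (166, 0, 706), (169, 0, 705), (170, 0, 642), (172,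 0, 646), (175, 0, 643), (176, 0, 655), (179, 0, 650), (181, 0, 708), (182, 0, 644), (185, 0, 647), (186, 0, 711), (188, 0, 649), (191, 0, 652), (192, 0, 128), (195, 0, 129), (197, 0, 131), (198, 0, 130), (201, 100, 132), (202, 100, 133), (204, 100, 128), (207, 100, 129), (208, 0, 135), (211, 0, 134), (213, 0, 132), (214, 0, 133), (217, 100, 131), (218, 100, 130), (220, 100, 135), (223, 100, 134), (224, 0, 256), (227, 33, 256), (229, 33, 261), (230, 0, 261), (233, 33, 258), (234, 0, 258), (236, 0, 262), (239, 33, 262), (240, 0, 270), (243, 33, 270), (245, 33, 260), (246, 0, 260), (249, 33, 259), (250, 0, 259), (252, 0, 264), (255, 33, 264), (256, 0, 224), (259, 33, 224), (261, 33, 226), (262, 0, 226), (265, 33, 230), (266, 0, 230), (268, 0, 228), (271, 33, 228), (272, 0, 238), (275, 33, 238), (277, 33, 227), (278, 0, 227), (281, 33, 232), (282, 0, 232), (284, 0, 229), (287, 33, 229), (480, 0, 544), (483, 33, 544), (485, 0, 550), (486, 33, 548), (489, 0, 545), (490, 33, 547),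 (492, 0, 549), (495, 33, 549), (496, 0, 557), (499, 33, 557), (501, 0, 548), (502, 33, 550), (505, 0, 547), (506, 33, 545), (508, 0, 552), (511, 33, 552), (512, 0, 608), (515, 0, 614), (517, 66, 610), (518, 66, 608), (521, 0, 609), (522, 0, 611), (524, 66, 616), (527, 66, 609), (528, 0, 619), (531, 0, 610), (533, 66, 614), (534, 66, 619), (537, 0, 613), (538, 0, 616), (540, 66, 611), (543, 66, 613), (544, 0, 480), (547, 33, 480), (549, 0, 481), (550, 33, 483), (553, 0, 485), (554, 33, 488), (556, 0, 484), (559, 33, 484), (560, 0, 493), (563, 33, 493), (565, 0, 483), (566, 33, 481), (569, 0, 488), (570, 33, 485), (572, 0, 486), (575, 33, 486), (576, 0, 320), (579, 0, 321), (581, 0, 323), (582, 0, 322), (585, 0, 449), (586, 0, 326), (588, 0, 324), (591, 0, 330), (592, 0, 335), (595, 0, 450), (597, 0, 332), (598, 0, 452), (601, 0, 327), (602, 0, 329), (604, 0, 455), (607, 0, 325), (608, 0, 512), (611, 0, 513), (613, 66, 517), (614, 66, 512), (617, 0, 515), (618, 0, 514), (620,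 66, 518), (623, 66, 515), (624, 0, 523), (627, 0, 517), (629, 66, 513), (630, 66, 523), (633, 0, 520), (634, 0, 518), (636, 66, 514), (639, 66, 520), (736, 0, 352), (739, 0, 353), (741, 0, 385), (742, 0, 362), (745, 0, 355), (746, 0, 354), (748, 0, 388), (751, 0, 361), (752, 0, 367), (755, 0, 386), (757, 0, 356), (758, 0, 357), (761, 0, 364), (762, 0, 391), (764, 0, 359), (767, 0, 358)]

theorem sq_ok : (els.all fun x => !(ev x) || sqT.any fun p => eqv p.1 x && Nat.blt p.2.1 768 && Nat.blt p.2.2 768 &&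
    eqv (mulc 0 (mulc 0 p.2.1 p.2.1) (mulc 0 p.2.2 p.2.2)) x) = true := by decide +kernel

theorem coset_ok : (els.all fun x => ev x || ([1, 32, 36] : List ℕ).any fun r => ev (mulc 0 x r)) = true ∧
    (∀ r ∈ repsT.getD 0 [], (wtOf r = 0 → r = 15 ∨ r = 16 ∨ r = 32 ∨ r = 160) ∧
      (sgOf r = 0 → r = 1 ∨ r = 15 ∨ r = 16 ∨ r = 160)) := by decide +kernel

end Cfsg.Agent.Spor.AutPSLFour
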