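import Cfsg.Agent.Lib.Spor.AutPSLFour.Sylow
import Cfsg.Agent.Lib.Spor.AutPSLFour.SylowCheck

/-!
The classes of involutions outside the class of the central one are told apart by their centralisers.
-/

set_option autoImplicit false
set_option linter.style.haveILetI false
set_option maxRecDepth 100000

namespace Cfsg.Agent.Spor.AutPSLFour

attribute [local irreducible] mulc

variable {G : Type*} [Group G] [Finite G] {z : G}

theorem inL_iff {S : List ℕ} {x : ℕ} : inL S x = true ↔ x ∈ S := by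
  simp [inL, eqv, List.any_eq_true]

/-- the two-subgroup of a representative -/
def Fr.sylU (F : Fr G z 0) (e : ℕ × List ℕ × ℕ × ℕ) (he : e ∈ sylOf) : Subgroup G :=
  F.sub (inL e.2.1) (syl_dom e he).2.2.1
    fun a _ b _ pa pb => (syl_dom e he).2.2.2.2.1 a (inL_iff.1 pa) b (inL_iff.1 pb)

theorem Fr.card_sylU_inv (F : Fr G z 0) (e : ℕ × List ℕ × ℕ × ℕ) (he : e ∈ sylOf) :
    Nat.card (F.sylU e he) = e.2.1.length ∧ Nat.card {g : G // g ∈ F.sylU e he ∧ g * g = 1} = e.2.2.1 ∧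
      Nat.card {g : G // g ∈ F.sylU e he ∧ g * g * (g * g) = 1} = e.2.2.2 := by
  obtain ⟨-, -, hlen, h2, h4⟩ := syl_count e he
  refine ⟨F.card_sub.trans hlen, ?_, ?_⟩
  · rw [← h2]
    refine F.card_eq (fun x => inL e.2.1 x && eqv (mulc 0 x x) 0) _ (fun g hg => F.sub_comm hg.1) fun a ha => ?_
    simp only [Bool.and_eq_true, eqv, Nat.beq_eq, Fr.sylU, F.mem_sub ha, ← F.el_zero,
      F.sq_iff ha (by norm_num : 0 < 768)]
  · rw [← h4]
    refine F.card_eq (fun x => inL e.2.1 x && fourth x) _ (fun g hg => F.sub_comm hg.1) fun a ha => ?_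
    simp only [Bool.and_eq_true, fourth, eqv, Nat.beq_eq, Fr.sylU, F.mem_sub ha, ← F.el_zero,
      ← F.el_mul ha ha, F.sq_iff (F.mul_lt ha ha) (by norm_num : 0 < 768)]

theorem Fr.sylU_full (F : Fr G z 0) (e : ℕ × List ℕ × ℕ × ℕ) (he : e ∈ sylOf) (hn : ¬ IsConj z (F.el e.1)) :
    (∀ g ∈ F.sylU e he, Commute g (F.el e.1)) ∧ ∀ Q : Subgroup G, (∀ q ∈ Q, Commute q (F.el e.1)) →
      IsPGroup 2 Q → ∃ k : G, ∀ q ∈ Q, k * q * k⁻¹ ∈ F.sylU e he := by
  obtain ⟨hu, hS, -, h16, -, hcen, hzu⟩ := syl_dom e he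
  obtain ⟨hlen, hcc, -⟩ := syl_count e he
  have hcomm : ∀ g ∈ F.sylU e he, Commute g (F.el e.1) := by
    rintro _ ⟨a, ha, pa, rfl⟩
    exact (F.comm_iff ha hu).2 (hS a (inL_iff.1 pa)).2
  refine ⟨hcomm, fun Q hQ hQ2 => ?_⟩
  obtain ⟨n, hn2⟩ : ∃ n, Nat.card (F.sylU e he) = 2 ^ n := by
    rw [Fr.sylU, F.card_sub]
    rcases hlen with h | h <;> rw [h]
    exacts [⟨4, rfl⟩, ⟨5, rfl⟩]
  refine full_of_central (K := Subgroup.centralizer {F.el e.1}) n hn2
    (fun g hg => Subgroup.mem_centralizer_singleton_iff.2 (hcomm g hg).eq) (fun g hg => F.sub_comm hg) ?_ F.z_sq ?_ ?_ Q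
    (fun g hg => Subgroup.mem_centralizer_singleton_iff.2 (hQ g hg).eq) hQ2
  · exact ⟨16, by norm_num, h16, F.el_z⟩
  · have hc : Nat.card {g : G // g ∈ Subgroup.centralizer {F.el e.1} ∧ Commute g z} =
        (els.filter fun x => cm 0 x e.1).length :=
      F.card_eq _ _ (fun g hg => hg.2) fun a ha => by
        simp only [Subgroup.mem_centralizer_singleton_iff, ← F.comm_iff ha hu]
        exact ⟨fun h => h.1, fun h => ⟨h.eq, F.el_comm ha⟩⟩
    rw [Fr.sylU, F.card_sub] at hn2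
    rcases hcc with h | h
    · exact ⟨1, odd_one, by rw [hc, h, hn2, one_mul]⟩
    · exact ⟨3, by decide, by rw [hc, h, hn2]⟩
  · rintro _ ⟨a, ha, pa, rfl⟩ ha2 hac hconj
    have hall : e.2.1.all (cm 0 a) = true := by
      rw [List.all_eq_true]
      exact fun b hb => (F.comm_iff ha (hS b hb).1).1 (hac _ ⟨b, (hS b hb).1, inL_iff.2 hb, rfl⟩)
    rw [← F.el_zero, F.sq_iff ha (by norm_num)] at ha2
    rcases hcen a (inL_iff.1 pa) ha2 hall with rfl | rfl | rfl | rfl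
    · rw [F.el_zero, isConj_one_left] at hconj
      exact absurd hconj F.z_ne_one
    · exact F.el_z
    · exact absurd hconj hn
    · simp only [List.any_eq_true, eqv, Nat.beq_eq] at hzu
      obtain ⟨h, hh, heq⟩ := hzu
      have hh := List.mem_range.1 hh
      refine absurd (hconj.trans (IsConj.symm (isConj_iff.2 ⟨F.el h, ?_⟩))) hn
      rw [← F.el_mul hh hu, heq, F.el_mul ha hh, mul_inv_cancel_right]

theorem Fr.sylU_le (F : Fr G z 0) (e e' : ℕ × List ℕ × ℕ × ℕ) (he : e ∈ sylOf) (he' : e' ∈ sylOf)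
    (hn : ¬ IsConj z (F.el e.1)) (hn' : ¬ IsConj z (F.el e'.1)) (h : IsConj (F.el e.1) (F.el e'.1)) :
    e.2.1.length ≤ e'.2.1.length ∧ e.2.2.1 ≤ e'.2.2.1 ∧ e.2.2.2 ≤ e'.2.2.2 := by
  obtain ⟨x, hx⟩ := isConj_iff.1 h
  obtain ⟨hcomm, -⟩ := F.sylU_full e he hn
  obtain ⟨-, hfull⟩ := F.sylU_full e' he' hn'
  haveI : Fact (Nat.Prime 2) := ⟨Nat.prime_two⟩
  obtain ⟨c1, c2, c4⟩ := F.card_sylU_inv e he
  obtain ⟨d1, d2, d4⟩ := F.card_sylU_inv e' he'
  have hQ2 : IsPGroup 2 ((F.sylU e he).map (MulAut.conj x).toMonoidHom) := by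
    refine IsPGroup.map ?_ _
    rcases (syl_count e he).1 with h | h
    · exact IsPGroup.of_card (n := 4) (F.card_sub.trans h)
    · exact IsPGroup.of_card (n := 5) (F.card_sub.trans h)
  obtain ⟨k, hk⟩ := hfull _ (by
    rintro _ ⟨s, hs, rfl⟩
    have := (hcomm s hs).map (MulAut.conj x)
    rwa [MulAut.conj_apply x (F.el e.1), hx] at this) hQ2
  have hmem : ∀ s ∈ F.sylU e he, MulAut.conj (k * x) s ∈ F.sylU e' he' := fun s hs => by
    rw [map_mul, MulAut.mul_apply]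
    exact hk _ ⟨s, hs, rfl⟩
  have inj := (MulAut.conj (k * x)).injective
  refine ⟨?_, ?_, ?_⟩
  · rw [← c1, ← d1]
    exact Nat.card_le_card_of_injective (fun s : F.sylU e he => (⟨_, hmem s s.2⟩ : F.sylU e' he'))
      fun a b e => Subtype.ext (inj (congrArg Subtype.val e))
  · rw [← c2, ← d2]
    refine Nat.card_le_card_of_injective (fun s : {g : G // g ∈ F.sylU e he ∧ g * g = 1} =>
      (⟨MulAut.conj (k * x) s.1, hmem _ s.2.1, by rw [← map_mul, s.2.2, map_one]⟩ :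
        {g : G // g ∈ F.sylU e' he' ∧ g * g = 1})) ?_
    exact fun a b e => Subtype.ext (inj (congrArg Subtype.val e))
  · rw [← c4, ← d4]
    refine Nat.card_le_card_of_injective (fun s : {g : G // g ∈ F.sylU e he ∧ g * g * (g * g) = 1} =>
      (⟨MulAut.conj (k * x) s.1, hmem _ s.2.1, by rw [← map_mul, ← map_mul, s.2.2, map_one]⟩ :
        {g : G // g ∈ F.sylU e' he' ∧ g * g * (g * g) = 1})) ?_
    exact fun a b e => Subtype.ext (inj (congrArg Subtype.val e))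

theorem sylOf_inj : ∀ e ∈ sylOf, ∀ e' ∈ sylOf, e.2.1.length = e'.2.1.length → e.2.2.1 = e'.2.2.1 →
    e.2.2.2 = e'.2.2.2 → e.1 = e'.1 := by decide +kernel

/-- distinct representatives outside the class of the involution are not conjugate -/
theorem Fr.not_conj (F : Fr G z 0) (h1 : ¬ IsConj z (F.el 1)) (h32 : ¬ IsConj z (F.el 32))
    (h36 : ¬ IsConj z (F.el 36)) {r s : ℕ} (hr : r ∈ [1, 32, 36]) (hs : s ∈ [1, 32, 36, 160]) (hrs : r ≠ s) :
    ¬ IsConj (F.el r) (F.el s) := by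
  intro h
  have key : ∀ e ∈ sylOf, ∀ e' ∈ sylOf, ¬ IsConj z (F.el e.1) → ¬ IsConj z (F.el e'.1) →
      IsConj (F.el e.1) (F.el e'.1) → e.1 = e'.1 := by
    intro e he e' he' hn hn' hc
    obtain ⟨a1, a2, a3⟩ := F.sylU_le e e' he he' hn hn' hc
    obtain ⟨b1, b2, b3⟩ := F.sylU_le e' e he' he hn' hn hc.symm
    exact sylOf_inj e he e' he' (le_antisymm a1 b1) (le_antisymm a2 b2) (le_antisymm a3 b3)
  have hnr : ¬ IsConj z (F.el r) := by
    simp only [List.mem_cons, List.not_mem_nil, or_false] at hr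
    rcases hr with rfl | rfl | rfl <;> assumption
  have hns : ¬ IsConj z (F.el s) := fun hh => hnr (hh.trans h.symm)
  obtain ⟨e, he, rfl⟩ : ∃ e ∈ sylOf, e.1 = r := by
    simp only [List.mem_cons, List.not_mem_nil, or_false] at hr
    rcases hr with rfl | rfl | rfl <;> simp [sylOf]
  obtain ⟨e', he', rfl⟩ : ∃ e' ∈ sylOf, e'.1 = s := by
    simp only [List.mem_cons, List.not_mem_nil, or_false] at hs
    rcases hs with rfl | rfl | rfl | rfl <;> simp [sylOf]
  exact hrs (key e he e' he' hnr hns h)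

end Cfsg.Agent.Spor.AutPSLFour
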