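import Cfsg.Agent.Lib.Spor.AutPSLFour.Data

/-!
The four candidates for the centraliser as groups of numbers below 768: a normal form of the extraspecial group in
the low five bits and a permutation of four points above them.
-/

set_option autoImplicit false

namespace Cfsg.Agent.Spor.AutPSLFour

/-- bit number `k` -/
def bit (T k : ℕ) : ℕ := Nat.land (Nat.shiftRight T k) 1

/-- the normal form in a code -/
def eOf (x : ℕ) : ℕ := Nat.land x 31

/-- the permutation in a code -/
def sOf (x : ℕ) : ℕ := Nat.shiftRight x 5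

/-- product of normal forms -/
def emul (x y : ℕ) : ℕ :=
  Nat.xor (Nat.xor x y) (Nat.shiftLeft (bit phiT (Nat.add (Nat.mul 16 (Nat.land x 15)) (Nat.land y 15))) 4)

/-- a permutation applied to a normal form -/
def eact (s g : ℕ) : ℕ := Nat.land (Nat.shiftRight actT (Nat.mul 5 (Nat.add (Nat.mul 32 s) g))) 31

/-- product of permutations -/
def pmul (s t : ℕ) : ℕ := Nat.land (Nat.shiftRight permT (Nat.mul 5 (Nat.add (Nat.mul 24 s) t))) 31

/-- the sign of the product of two lifts in variant `v` -/
def fbit (v s t : ℕ) : ℕ := bit (fT.getD v 0) (Nat.add (Nat.mul 24 s) t)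

/-- product of codes in variant `v` -/
def mulc (v x y : ℕ) : ℕ :=
  Nat.add (Nat.xor (emul (eOf x) (eact (sOf x) (eOf y))) (Nat.shiftLeft (fbit v (sOf x) (sOf y)) 4))
    (Nat.shiftLeft (pmul (sOf x) (sOf y)) 5)

/-- the code of the involution -/
def zc : ℕ := 16

/-- equality as a bit -/
def eqv (a b : ℕ) : Bool := Nat.beq a b

/-- commuting codes -/
def cm (v a b : ℕ) : Bool := eqv (mulc v a b) (mulc v b a)

/-- all codes -/
def els : List ℕ := List.range 768

/-- the value of a relator: squares, braids and the commuting pair -/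
def relVal (v k : ℕ) : ℕ :=
  bif Nat.blt k 3 then Nat.shiftRight v 1 else bif Nat.beq k 5 then Nat.land v 1 else 0

/-- the relators of the three transpositions -/
def relW : List (List ℕ) := [[0, 0], [1, 1], [2, 2], [0, 1, 0, 1, 0, 1], [1, 2, 1, 2, 1, 2], [0, 2, 0, 2]]

/-- the end of a path of permutations -/
def walkTo (q : ℕ) (w : List ℕ) : ℕ := w.foldl (fun r j => pmul r (gperm.getD j 0)) q

/-- the sign collected on a path -/
def walkSign (v : ℕ) : ℕ → List ℕ → ℕ
  | _, [] => 0
  | q, j :: w => Nat.xor (fbit v q (gperm.getD j 0)) (walkSign v (pmul q (gperm.getD j 0)) w)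

/-- whether all edges of a path are known -/
def walkKnown (known : List (ℕ × ℕ)) : ℕ → List ℕ → Bool
  | _, [] => true
  | q, j :: w => known.any (fun e => eqv e.1 q && eqv e.2 j) && walkKnown known (pmul q (gperm.getD j 0)) w

/-- one deduction is justified -/
def dedOK (v : ℕ) (known : List (ℕ × ℕ)) (d : ℕ × ℕ × ℕ) : Bool :=
  let w := relW.getD d.2.1 []
  walkKnown known d.1 (w.take d.2.2) &&
    walkKnown known (walkTo d.1 (w.take (Nat.add d.2.2 1))) (w.drop (Nat.add d.2.2 1)) &&
    eqv (walkTo d.1 w) d.1 && Nat.blt d.1 24 && Nat.blt d.2.1 6 && Nat.blt d.2.2 w.length &&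
    eqv (walkSign v d.1 w) (relVal v d.2.1)

/-- the edge of a deduction -/
def dedEdge (d : ℕ × ℕ × ℕ) : ℕ × ℕ :=
  (walkTo d.1 ((relW.getD d.2.1 []).take d.2.2), (relW.getD d.2.1 []).getD d.2.2 0)

/-- all deductions are justified -/
def dedAll (v : ℕ) : List (ℕ × ℕ × ℕ) → List (ℕ × ℕ) → Bool
  | [], known => (List.range 24).all fun q => (List.range 3).all fun j => known.any fun e => eqv e.1 q && eqv e.2 j
  | d :: ds, known => dedOK v known d && dedAll v ds (dedEdge d :: known)

/-- the last edge of the word of a permutation -/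
def treeEdge (t : ℕ) : ℕ × ℕ := (walkTo 0 (words.getD t []).dropLast, (words.getD t []).getLastD 0)

/-- the edges without sign -/
def treeEdges : List (ℕ × ℕ) := ((List.range 24).tail).map treeEdge

end Cfsg.Agent.Spor.AutPSLFour
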