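import Cfsg.Agent.Lib.Spor.AutPSLFour.Code

/-!
Checks on the classes of involutions of the four candidates and on their possible fusion.
-/

set_option autoImplicit false
set_option maxRecDepth 100000

namespace Cfsg.Agent.Spor.AutPSLFour

/-- a table entry shows that `x` is conjugate to a representative -/
def hitOK (v x : ℕ) (p : ℕ × ℕ × ℕ) : Bool :=
  eqv p.1 x && Nat.blt p.2.2 768 && ((repsT.getD v []).any fun r => eqv r p.2.1) &&
    eqv (mulc v p.2.2 p.2.1) (mulc v x p.2.2)

theorem classes_all : ∀ v < 4, (els.all fun x => !(eqv (mulc v x x) 0) || eqv x 0 ||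
    (conjT.getD v []).any (hitOK v x)) = true := by decide +kernel

theorem basic_ok : ∀ v < 4, mulc v 0 0 = 0 ∧ mulc v 16 16 = 0 ∧
    ∀ r ∈ repsT.getD v [], r < 768 ∧ mulc v r r = 0 ∧ r ≠ 0 ∧ cm v r 16 = true := by decide +kernel

/-- the number of square roots of `w` commuting with `u` -/
def rootSel (v u w : ℕ) : ℕ := (els.filter fun g => cm v g u && eqv (mulc v g g) w).length

/-- the numbers of roots of the involution and of the representative -/
def rootTab : List (List (ℕ × ℕ × ℕ)) :=
  [[(1, 12, 0), (15, 12, 12), (32, 4, 0), (36, 4, 0), (160, 4, 4)], [(1, 12, 0), (15, 36, 12), (32, 12, 0), (36, 4, 0)],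
    [(1, 36, 0), (15, 60, 12), (44, 12, 0), (160, 4, 4)], [(1, 36, 0), (15, 84, 12), (44, 20, 0)]]

theorem root_tab : ∀ v < 4, ∀ p ∈ rootTab.getD v [], rootSel v p.1 16 = p.2.1 ∧ rootSel v p.1 p.1 = p.2.2 := by
  decide +kernel

set_option synthInstance.maxSize 20000 in
set_option synthInstance.maxHeartbeats 400000 in
theorem root_cases : ∀ v < 4, ∀ i ∈ repsT.getD v [], i ≠ 16 → ∀ j ∈ repsT.getD v [], j ≠ 16 →
    ∃ p ∈ rootTab.getD v [], p.1 = i ∧ ∃ q ∈ rootTab.getD v [], q.1 = j ∧
      (p.2.1 = q.2.2 → p.2.2 = q.2.1 → (v = 0 ∧ i = 15 ∧ j = 15) ∨ ((v = 0 ∨ v = 2) ∧ i = 160 ∧ j = 160)) := by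
  decide +kernel

/-- the classes of the involution and of the last representative -/
def dCls (v x : ℕ) : Bool :=
  (conjT.getD v []).any fun p => eqv p.1 x && (eqv p.2.1 16 || eqv p.2.1 160)

theorem dCls_ok : ∀ v < 4, (els.all fun x => (conjT.getD v []).all fun p => !(hitOK v x p) ||
    (bif eqv p.2.1 16 || eqv p.2.1 160 then dCls v x else !(dCls v x))) = true ∧
    (els.all fun x => !(dCls v x) || (eqv (mulc v x x) 0 && !(eqv x 0))) = true := by decide +kernel

/-- the number of members of the two classes commuting with `u` whose product with `w` is a member again -/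
def pairCount (v u w : ℕ) : ℕ := (els.filter fun d => cm v d u && dCls v d && dCls v (mulc v w d)).length

theorem pair_counts : ∀ v < 4, (v = 0 ∨ v = 2) → pairCount v 160 160 = 10 ∧ pairCount v 160 16 = 12 := by
  decide +kernel

end Cfsg.Agent.Spor.AutPSLFour
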