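import Cfsg.Agent.Lib.Spor.AutPSLFour.SylowCheck
import Cfsg.Agent.Lib.Spor.AutPSLFour.FusedCheck

/-!
Checks for counting the class of the involution.
-/

set_option autoImplicit false
set_option maxRecDepth 100000

namespace Cfsg.Agent.Spor.AutPSLFour

/-- involutions -/
def sqOne (x : ℕ) : Bool := eqv (mulc 0 x x) 0 && !(eqv x 0)

/-- the members of the class in the centraliser, in the two cases -/
def dH (b : Bool) (x : ℕ) : Bool := bif b then ev x && sqOne x else inL [15, 16, 31] x

/-- powers of a code -/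
def powc (x : ℕ) : ℕ → ℕ
  | 0 => 0
  | k + 1 => mulc 0 (powc x k) x

/-- the involution is a power -/
def powz (x : ℕ) : Bool := (List.range 13).any fun k => eqv (powc x k) 16

/-- a code is listed with a representative -/
def hasRep (x r : ℕ) : Bool := (conjT.getD 0 []).any fun p => eqv p.1 x && eqv p.2.1 r

/-- a count in the fibre -/
def kCount (b : Bool) (r : ℕ) (L : List ℕ) : ℕ :=
  (els.filter fun x => dH b x && L.all (cm 0 x) && !(cm 0 r x) && powz (mulc 0 r x)).length

/-- a count of members commuting with a list -/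
def jCount (b : Bool) (L : List ℕ) : ℕ := (els.filter fun x => dH b x && L.all (cm 0 x)).length

theorem pow_ok : (els.all fun x => (List.range 13).any fun k => !(eqv k 0) && eqv (powc x k) 0) = true := by
  decide +kernel

theorem counts : ∀ b : Bool, jCount b [17] = 1 ∧ jCount b [52] = 3 ∧ kCount b 1 [] = cond b 26 2 ∧
    kCount b 36 [] = cond b 8 0 ∧ kCount b 1 [417] = 2 ∧ jCount b [17, 417] = 1 ∧ jCount b [] = cond b 27 3 := by
  decide +kernel

theorem class_ok : (∀ p ∈ conjT.getD 0 [],
      ((p.2.1 = 15 ∨ p.2.1 = 16) → inL [15, 16, 31] p.1 = true) ∧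
      (inL [15, 16, 31] p.1 = true → (p.2.1 = 15 ∨ p.2.1 = 16)) ∧
      (ev p.1 = true → (p.2.1 = 15 ∨ p.2.1 = 16 ∨ p.2.1 = 160))) ∧
    (∀ x ∈ ([15, 16, 31] : List ℕ), ev x = true ∧ sqOne x = true) ∧
    mulc 0 1 15 = mulc 0 31 1 ∧ mulc 0 1 16 = 17 ∧ mulc 0 36 16 = 52 ∧ mulc 0 417 16 = 433 ∧
    dH true 160 = true ∧ dH true 163 = true ∧ cm 0 160 163 = false ∧
    ev 1 = false ∧ ev 36 = false ∧ ev 417 = false ∧ mulc 0 417 417 = 0 ∧ cm 0 1 417 = true := by decide +kernel

theorem inv_small : (∀ x ∈ sylA, sqOne x = true → ev x = true → inL [15, 16, 31] x = true) ∧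
    (∀ x ∈ sylD, sqOne x = true → ev x = true → inL [15, 16, 31] x = true) := by decide +kernel

theorem cent_comm : (els.all fun x => !(hasRep x 1 || hasRep x 36) ||
    let l := els.filter fun y => ev y && sqOne y && cm 0 x y
    l.all fun a => l.all (cm 0 a)) = true := by decide +kernel

theorem pair_orbit : (els.all fun x => !(hasRep x 1) || els.all fun y => !(hasRep y 36 && cm 0 x y) ||
    els.any fun h => eqv (mulc 0 h 1) (mulc 0 x h) && eqv (mulc 0 h 417) (mulc 0 y h)) = true := by decide +kernel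

theorem rep_orbit : hasRep 1 1 = true ∧ hasRep 17 1 = true ∧ hasRep 36 36 = true ∧ hasRep 52 36 = true ∧
    hasRep 417 36 = true ∧ hasRep 433 36 = true := by decide +kernel

theorem no_core : (els.all fun x => !(cm 0 x 1 && eqv (powc x 3) 0) || eqv x 0 ||
    els.any fun y => cm 0 y 1 && !(eqv (mulc 0 y x) (mulc 0 x y)) &&
      !(eqv (mulc 0 y x) (mulc 0 (mulc 0 x x) y))) = true := by decide +kernel

end Cfsg.Agent.Spor.AutPSLFour
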