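import Mathlib

/-!
The map of a class of involutions inside a normal subgroup onto its part centralising an involution outside it.
-/

set_option autoImplicit false
set_option linter.style.haveILetI false

namespace Cfsg.Agent.Spor.AutPSLFour

variable {G : Type*} [Group G]

/-- the middle of the rotation -/
noncomputable def mid (s u : G) : G := (s * u) ^ (orderOf (s * u) / 2)

open Classical in
/-- the projection to the centraliser of `s` -/
noncomputable def proj (M : Subgroup G) (s u : G) : G :=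
  if Commute s u then u else if mid s u ∈ M then mid s u else mid s u * s

variable [Finite G]

theorem conj_of_odd {s u : G} (hs : s * s = 1) (hu : u * u = 1) (h : Odd (orderOf (s * u))) : IsConj s u := by
  obtain ⟨j, hj⟩ := h
  set r := (s * u) ^ (j + 1)
  have hr : r * r = s * u := by
    rw [← pow_add, show j + 1 + (j + 1) = orderOf (s * u) + 1 by omega, pow_succ, pow_orderOf_eq_one, one_mul]
  have hsi : s⁻¹ = s := inv_eq_of_mul_eq_one_right hs
  have hui : u⁻¹ = u := inv_eq_of_mul_eq_one_right hu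
  have hinv : s * r * s⁻¹ = r⁻¹ := by
    rw [← conj_pow, ← inv_pow]
    congr 1
    rw [mul_inv_rev, hui, hsi]
    simp only [← mul_assoc, hs, one_mul]
  refine isConj_iff.2 ⟨r⁻¹, ?_⟩
  rw [inv_inv]
  have h1 : s * r = r⁻¹ * s := by rw [← hinv]; group
  calc r⁻¹ * s * r = r⁻¹ * r⁻¹ * s := by rw [mul_assoc, h1, ← mul_assoc]
    _ = (r * r)⁻¹ * s := by rw [mul_inv_rev]
    _ = u := by rw [hr, mul_inv_rev, hsi, hui, mul_assoc, hs, mul_one]

/-- the only involution among the powers -/
theorem mid_unique {y c : G} (hc : c * c = 1) (hc1 : c ≠ 1) (h : c ∈ Subgroup.zpowers y) :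
    c = y ^ (orderOf y / 2) := by
  obtain ⟨n, hn⟩ := (isOfFinOrder_of_finite y).mem_powers_iff_mem_zpowers.2 h
  dsimp only at hn
  rw [← pow_mod_orderOf] at hn
  set o := orderOf y with ho
  have hlt : n % o < o := Nat.mod_lt _ (orderOf_pos y)
  have hne : n % o ≠ 0 := fun e => hc1 (by rw [← hn, e, pow_zero])
  have hdvd : o ∣ n % o + n % o := orderOf_dvd_of_pow_eq_one (by rw [pow_add, hn, hc])
  obtain ⟨k, hk⟩ := hdvd
  have hk1 : k = 1 := by
    rcases k with _ | _ | k
    · omega
    · rfl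
    · nlinarith
  rw [← hn]; congr 1; subst hk1; omega

theorem mid_even {s u : G} (hs : s * s = 1) (hu : u * u = 1) (hev : Even (orderOf (s * u))) :
    mid s u * mid s u = 1 ∧ mid s u ≠ 1 ∧ Commute (mid s u) s ∧ Commute (mid s u) u ∧
      (¬ Commute s u → mid s u ≠ s) := by
  obtain ⟨p, hp⟩ := hev
  have h2 : mid s u * mid s u = 1 := by
    rw [mid, ← pow_add, show orderOf (s * u) / 2 + orderOf (s * u) / 2 = orderOf (s * u) by omega, pow_orderOf_eq_one]
  have hne : mid s u ≠ 1 := by
    have := orderOf_pos (s * u)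
    exact pow_ne_one_of_lt_orderOf (by omega) (by omega)
  have hci : (mid s u)⁻¹ = mid s u := inv_eq_of_mul_eq_one_right h2
  have hsi : s⁻¹ = s := inv_eq_of_mul_eq_one_right hs
  have hui : u⁻¹ = u := inv_eq_of_mul_eq_one_right hu
  have hcs : Commute (mid s u) s := by
    have h : s * mid s u * s⁻¹ = (mid s u)⁻¹ := by
      rw [mid, ← conj_pow, ← inv_pow]
      congr 1
      rw [mul_inv_rev, hui, hsi]
      simp only [← mul_assoc, hs, one_mul]
    rw [hci] at h
    exact (mul_inv_eq_iff_eq_mul.1 h).symm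
  have hcy : Commute (mid s u) (s * u) := (Commute.refl _).pow_left _
  have hcu : Commute (mid s u) u := by
    have h := hcs.mul_right hcy
    rwa [← mul_assoc, hs, one_mul] at h
  exact ⟨h2, hne, hcs, hcu, fun hc e => hc (e ▸ hcu)⟩

theorem mid_spec {s u : G} (hs : s * s = 1) (hu : u * u = 1) (hnc : ¬ IsConj s u) :
    mid s u * mid s u = 1 ∧ mid s u ≠ 1 ∧ Commute (mid s u) s ∧ Commute (mid s u) u ∧
      (¬ Commute s u → mid s u ≠ s) :=
  mid_even hs hu (Nat.not_odd_iff_even.1 fun h => hnc (conj_of_odd hs hu h))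

theorem proj_conj (M : Subgroup G) [M.Normal] (g s u : G) :
    proj M (MulAut.conj g s) (MulAut.conj g u) = MulAut.conj g (proj M s u) := by
  have hc : Commute (MulAut.conj g s) (MulAut.conj g u) ↔ Commute s u :=
    ⟨fun h => (MulAut.conj g).injective (by rw [map_mul, map_mul]; exact h.eq), fun h => h.map _⟩
  have hm : mid (MulAut.conj g s) (MulAut.conj g u) = MulAut.conj g (mid s u) := by
    rw [mid, mid, ← map_mul, map_pow, MulEquiv.orderOf_eq]
  have hM : ∀ x, MulAut.conj g x ∈ M ↔ x ∈ M := fun x =>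
    ⟨fun h => by
      have h' := (inferInstance : M.Normal).conj_mem _ h g⁻¹
      rwa [MulAut.conj_apply, show g⁻¹ * (g * x * g⁻¹) * g⁻¹⁻¹ = x by group] at h',
    fun h => (inferInstance : M.Normal).conj_mem _ h g⟩
  unfold proj
  by_cases h : Commute s u
  · rw [if_pos h, if_pos (hc.2 h)]
  · rw [if_neg h, if_neg (fun h' => h (hc.1 h')), hm]
    by_cases h' : mid s u ∈ M
    · rw [if_pos h', if_pos ((hM _).2 h')]
    · rw [if_neg h', if_neg (fun e => h' ((hM _).1 e)), map_mul]

theorem proj_spec (M : Subgroup G) [M.Normal] {s u : G} (hs : s * s = 1) (hu : u * u = 1) (hnc : ¬ IsConj s u)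
    (huM : u ∈ M) (hu1 : u ≠ 1) :
    proj M s u * proj M s u = 1 ∧ proj M s u ≠ 1 ∧ Commute (proj M s u) s ∧ proj M s u ∈ M := by
  classical
  obtain ⟨h2, hne, hcs, -, hcne⟩ := mid_spec hs hu hnc
  unfold proj
  split_ifs with hc hm
  · exact ⟨hu, hu1, hc.symm, huM⟩
  · exact ⟨h2, hne, hcs, hm⟩
  · refine ⟨?_, fun e => hcne hc ?_, hcs.mul_left (Commute.refl s), ?_⟩
    · rw [mul_assoc, ← mul_assoc s, ← hcs.eq, mul_assoc (mid s u), hs, mul_one, h2]
    · rw [mul_eq_one_iff_eq_inv.1 e, inv_eq_of_mul_eq_one_right hs]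
    · rw [← QuotientGroup.eq_one_iff, QuotientGroup.mk_mul]
      rw [← QuotientGroup.eq_one_iff] at huM
      have hy : ((s * u : G) : G ⧸ M) = (s : G ⧸ M) := by rw [QuotientGroup.mk_mul, huM, mul_one]
      have hs2 : (s : G ⧸ M) * (s : G ⧸ M) = 1 := by rw [← QuotientGroup.mk_mul, hs]; rfl
      rcases Nat.even_or_odd (orderOf (s * u) / 2) with ⟨k, hk⟩ | ⟨k, hk⟩
      · refine absurd ((QuotientGroup.eq_one_iff _).1 ?_) hm
        rw [mid, QuotientGroup.mk_pow, hy, hk, ← two_mul, pow_mul, pow_two, hs2, one_pow]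
      · rw [mid, QuotientGroup.mk_pow, hy, hk, pow_succ, pow_mul, pow_two, hs2, one_pow, one_mul, hs2]

/-- the members of the class commuting with some elements -/
def clsC (z : G) (L : List G) : Set G := {u | IsConj z u ∧ ∀ g ∈ L, Commute u g}

theorem card_clsC_conj (z : G) (L : List G) (g : G) :
    (clsC z (L.map (MulAut.conj g))).ncard = (clsC z L).ncard := by
  rw [← Set.ncard_image_of_injective (clsC z L) (MulAut.conj g).injective]
  congr 1
  ext u
  have hcl : ∀ y : G, IsConj z (MulAut.conj g y) ↔ IsConj z y := fun y => by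
    have h : IsConj y (MulAut.conj g y) := isConj_iff.2 ⟨g, rfl⟩
    exact ⟨fun h' => h'.trans h.symm, fun h' => h'.trans h⟩
  simp only [clsC, Set.mem_ofPred_eq, Set.mem_image, List.mem_map]
  constructor
  · rintro ⟨h1, h2⟩
    refine ⟨(MulAut.conj g).symm u, ⟨?_, fun x hx => ?_⟩, MulEquiv.apply_symm_apply _ _⟩
    · exact (hcl _).1 (by rwa [MulEquiv.apply_symm_apply])
    · have h := (h2 _ ⟨x, hx, rfl⟩).map (MulAut.conj g).symm
      rwa [MulEquiv.symm_apply_apply] at h
  · rintro ⟨y, ⟨h1, h2⟩, rfl⟩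
    refine ⟨(hcl y).2 h1, ?_⟩
    rintro _ ⟨x, hx, rfl⟩
    exact (h2 x hx).map _

/-- the fibres over a transitive image have one size -/
theorem card_by_fibre (M : Subgroup G) [M.Normal] (z s : G) (L : List G)
    (hmem : ∀ u ∈ clsC z L, proj M s u ∈ clsC z (s :: L))
    (htrans : ∀ w ∈ clsC z (s :: L), ∃ g : G, (∀ x ∈ s :: L, MulAut.conj g x = x) ∧ MulAut.conj g w = z) :
    (clsC z L).ncard = (clsC z (s :: L)).ncard * {u ∈ clsC z L | proj M s u = z}.ncard := by
  classical
  haveI := Fintype.ofFinite G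
  rw [Set.ncard_eq_toFinset_card', Set.ncard_eq_toFinset_card' (clsC z (s :: L)),
    Finset.card_eq_sum_card_fiberwise (f := proj M s) (t := (clsC z (s :: L)).toFinset)
      (fun u hu => by simpa using hmem u (by simpa using hu))]
  refine Finset.sum_const_nat fun w hw => ?_
  obtain ⟨g, hg, hgw⟩ := htrans w (Set.mem_toFinset.1 hw)
  rw [← Set.ncard_image_of_injective _ (MulAut.conj g).symm.injective, ← Set.ncard_coe_finset]
  congr 1
  have hgs := hg s (List.mem_cons_self ..)
  have hgL : L.map (MulAut.conj g) = L := by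
    conv_rhs => rw [← L.map_id]
    exact List.map_congr_left fun x hx => hg x (List.mem_cons_of_mem _ hx)
  have hcl : ∀ y : G, MulAut.conj g y ∈ clsC z L ↔ y ∈ clsC z L := by
    intro y
    have h : IsConj y (MulAut.conj g y) := isConj_iff.2 ⟨g, rfl⟩
    refine and_congr ⟨fun h' => h'.trans h.symm, fun h' => h'.trans h⟩ ?_
    refine forall₂_congr fun x hx => ?_
    conv_lhs => rw [← hg x (List.mem_cons_of_mem _ hx)]
    exact ⟨fun h' => (MulAut.conj g).injective (by rw [map_mul, map_mul]; exact h'.eq), fun h' => h'.map _⟩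
  ext u
  simp only [Finset.coe_filter, Set.mem_toFinset, Set.mem_ofPred_eq, Set.mem_image]
  constructor
  · rintro ⟨hu, rfl⟩
    refine ⟨MulAut.conj g u, ⟨(hcl u).2 hu, ?_⟩, MulEquiv.symm_apply_apply _ _⟩
    conv_lhs => rw [← hgs]
    rw [proj_conj, hgw]
  · rintro ⟨y, ⟨hy1, hy2⟩, rfl⟩
    obtain ⟨x, rfl⟩ := (MulAut.conj g).surjective y
    rw [MulEquiv.symm_apply_apply]
    refine ⟨(hcl x).1 hy1, (MulAut.conj g).injective ?_⟩
    rw [hgw, ← proj_conj, hgs, hy2]

/-- the fibre over the central involution -/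
theorem card_fibre (M : Subgroup G) [M.Normal] (z s : G) (L : List G) (hz : z * z = 1) (hz1 : z ≠ 1)
    (hzM : z ∈ M) (hsM : s ∉ M) (hs : s * s = 1) (hsz : Commute s z)
    (hLz : ∀ g ∈ L, Commute z g) (hD2 : ∀ u, IsConj z u → u * u = 1) (hnc : ∀ u, IsConj z u → ¬ IsConj s u)
    (hodd : ∀ u, IsConj z u → Commute u (s * z) → ¬ Commute u z → Odd (orderOf (z * u))) :
    {u ∈ clsC z L | proj M s u = z}.ncard + (clsC z (z :: s * z :: L)).ncard = 1 +
      {u ∈ clsC z (z :: L) | ¬ Commute s u ∧ z ∈ Subgroup.zpowers (s * u)}.ncard +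
      (clsC z (s * z :: L)).ncard := by
  classical
  have hzi : z⁻¹ = z := inv_eq_of_mul_eq_one_right hz
  have hszM : s * z ∉ M := fun h => hsM ((Subgroup.mul_mem_cancel_right _ hzM).1 h)
  have hszz : s * z * z = s := by rw [mul_assoc, hz, mul_one]
  set B := {u ∈ clsC z (z :: L) | ¬ Commute s u ∧ z ∈ Subgroup.zpowers (s * u)}
  set C := {u ∈ clsC z (s * z :: L) | ¬ Commute u z}
  have key : {u ∈ clsC z L | proj M s u = z} = insert z (B ∪ C) := by
    ext u
    constructor
    · rintro ⟨⟨hu, huL⟩, hp⟩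
      obtain ⟨-, -, -, hcu, -⟩ := mid_spec hs (hD2 u hu) (hnc u hu)
      unfold proj at hp
      split_ifs at hp with hc hm
      · exact Or.inl hp
      · rw [hp] at hcu
        refine Or.inr (Or.inl ⟨⟨hu, ?_⟩, hc, hp ▸ pow_mem (Subgroup.mem_zpowers _) _⟩)
        intro g hg
        rcases List.mem_cons.1 hg with rfl | hg
        exacts [hcu.symm, huL g hg]
      · have e : mid s u = s * z := by
          rw [hsz.eq, ← hp, mul_assoc, hs, mul_one]
        rw [e] at hcu
        refine Or.inr (Or.inr ⟨⟨hu, ?_⟩, fun hh => hc ?_⟩)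
        · intro g hg
          rcases List.mem_cons.1 hg with rfl | hg
          exacts [hcu.symm, huL g hg]
        · have := hcu.mul_left hh.symm
          rwa [hszz] at this
    · rintro (rfl | ⟨⟨hu, huL⟩, hc, hp⟩ | ⟨⟨hu, huL⟩, hnz⟩)
      · exact ⟨⟨IsConj.refl _, hLz⟩, if_pos hsz⟩
      · refine ⟨⟨hu, fun g hg => huL g (List.mem_cons_of_mem _ hg)⟩, ?_⟩
        have e : mid s u = z := (mid_unique hz hz1 hp).symm
        rw [proj, if_neg hc, e, if_pos hzM]
      · refine ⟨⟨hu, fun g hg => huL g (List.mem_cons_of_mem _ hg)⟩, ?_⟩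
        have hw : Commute u (s * z) := huL _ (List.mem_cons_self ..)
        have hc : ¬ Commute s u := fun hh => hnz (by
          have h := hh.symm.mul_right hw
          rwa [← mul_assoc, hs, one_mul] at h)
        obtain ⟨p, hp⟩ := hodd u hu hw hnz
        have hw2 : (s * z) * (s * z) = 1 := by
          rw [mul_assoc, ← mul_assoc z, ← hsz.eq, hszz, hs]
        have e : mid s u = s * z := by
          refine (mid_unique hw2 (fun e => hszM (e ▸ one_mem _)) ⟨(orderOf (z * u) : ℤ), ?_⟩).symm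
          have hwz : Commute (s * z) (z * u) := ((hsz.mul_left (Commute.refl z)).mul_right hw.symm)
          show (s * u) ^ (orderOf (z * u) : ℤ) = s * z
          rw [zpow_natCast, show s * u = s * z * (z * u) by rw [← mul_assoc, hszz], hwz.mul_pow,
            pow_orderOf_eq_one, mul_one, hp, pow_succ, pow_mul, pow_two, hw2, one_pow, one_mul]
        rw [proj, if_neg hc, e, if_neg hszM, ← hsz.symm.eq, mul_assoc, hs, mul_one]
  have hdBC : Disjoint B C := Set.disjoint_left.2 fun u hu hu' => hu'.2 (hu.1.2 z (List.mem_cons_self ..))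
  have hzBC : z ∉ B ∪ C := by
    rintro (⟨-, h, -⟩ | ⟨-, h⟩)
    exacts [h hsz, h (Commute.refl z)]
  rw [key, Set.ncard_insert_of_notMem hzBC (Set.toFinite _), Set.ncard_union_eq hdBC (Set.toFinite _) (Set.toFinite _)]
  have hC : C.ncard + (clsC z (z :: s * z :: L)).ncard = (clsC z (s * z :: L)).ncard := by
    have hd : Disjoint C (clsC z (z :: s * z :: L)) :=
      Set.disjoint_left.2 fun u hu hu' => hu.2 (hu'.2 z (List.mem_cons_self ..))
    rw [← Set.ncard_union_eq hd (Set.toFinite _) (Set.toFinite _)]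
    congr 1
    ext u
    constructor
    · rintro (h | h)
      · exact h.1
      · exact ⟨h.1, fun g hg => h.2 g (List.mem_cons_of_mem _ hg)⟩
    · intro h
      by_cases hh : Commute u z
      · refine Or.inr ⟨h.1, fun g hg => ?_⟩
        rcases List.mem_cons.1 hg with rfl | hg
        exacts [hh, h.2 g hg]
      · exact Or.inl ⟨h, hh⟩
  omega

end Cfsg.Agent.Spor.AutPSLFour
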