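import Cfsg.Agent.Lib.Spor.AutPSLFour.Classes
import Cfsg.Agent.Lib.Spor.AutPSLFour.CountCheck
import Cfsg.Agent.Lib.Spor.AutPSLFour.Dihedral

/-!
The class of the involution counted through the centralisers of two involutions outside the kernel.
-/

set_option autoImplicit false
set_option linter.style.haveILetI false
set_option maxRecDepth 100000

namespace Cfsg.Agent.Spor.AutPSLFour

attribute [local irreducible] mulc

variable {G : Type*} [Group G] [Finite G] {z : G} {F : Fr G z 0} {M : Subgroup G}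

/-- the kernel and the fusion found so far -/
structure Kern (F : Fr G z 0) (M : Subgroup G) : Prop where
  normal : M.Normal
  mem : ∀ a < 768, F.el a ∈ M ↔ ev a = true
  fused : IsConj z (F.el 15)
  only : ∀ r ∈ repsT.getD 0 [], IsConj z (F.el r) → r = 15 ∨ r = 16 ∨ r = 160

theorem inL_iff' {S : List ℕ} {x : ℕ} : inL S x = true ↔ x ∈ S := inL_iff

namespace Kern

theorem not_z (K : Kern F M) : ∀ r ∈ [1, 32, 36], ¬ IsConj z (F.el r) := by
  intro r hr h
  simp only [List.mem_cons, List.not_mem_nil, or_false] at hr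
  have := K.only r (by rcases hr with rfl | rfl | rfl <;> simp [repsT]) h
  omega

theorem inv3 (K : Kern F M) {x : ℕ} (hx : x ∈ [15, 16, 31]) : IsConj z (F.el x) := by
  simp only [List.mem_cons, List.not_mem_nil, or_false] at hx
  rcases hx with rfl | rfl | rfl
  · exact K.fused
  · rw [F.el_z]
  · refine K.fused.trans (isConj_iff.2 ⟨F.el 1, ?_⟩)
    rw [← F.el_mul (by norm_num) (by norm_num), class_ok.2.2.1, F.el_mul (by norm_num) (by norm_num),
      mul_inv_cancel_right]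

theorem cls_mem (K : Kern F M) {u : G} (hu : IsConj z u) : u ∈ M ∧ u * u = 1 ∧ u ≠ 1 := by
  obtain ⟨g, rfl⟩ := isConj_iff.1 hu
  refine ⟨K.normal.conj_mem z ?_ g, ?_, fun e => F.z_ne_one (conj_eq_one_iff.1 e)⟩
  · rw [← F.el_z, K.mem 16 (by norm_num)]
    exact (class_ok.2.1 16 (by simp)).1
  · rw [show g * z * g⁻¹ * (g * z * g⁻¹) = g * (z * z) * g⁻¹ by group, F.z_sq]; group

theorem small_mem (K : Kern F M) {r : ℕ} (hr : r ∈ [1, 36]) {s x : G} (hs : IsConj (F.el r) s) (hx : x ∈ M)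
    (hx2 : x * x = 1) (hx1 : x ≠ 1) (hxs : Commute x s) : IsConj z x := by
  haveI := K.normal
  haveI : Fact (Nat.Prime 2) := ⟨Nat.prime_two⟩
  obtain ⟨g, hg⟩ := isConj_iff.1 hs.symm
  obtain ⟨e, he, rfl, hsmall⟩ : ∃ e ∈ sylOf, e.1 = r ∧
      ∀ a ∈ e.2.1, sqOne a = true → ev a = true → inL [15, 16, 31] a = true := by
    simp only [List.mem_cons, List.not_mem_nil, or_false] at hr
    rcases hr with rfl | rfl
    · exact ⟨(1, sylA, 12, 24), by simp [sylOf], rfl, inv_small.1⟩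
    · exact ⟨(36, sylD, 12, 16), by simp [sylOf], rfl, inv_small.2⟩
  have hr' : e.1 ∈ [1, 32, 36] := by
    simp only [List.mem_cons, List.not_mem_nil, or_false] at hr ⊢; omega
  obtain ⟨-, hfull⟩ := F.sylU_full e he (K.not_z _ hr')
  obtain ⟨k, hk⟩ := hfull (Subgroup.zpowers (MulAut.conj g x)) (by
    intro q hq
    obtain ⟨n, rfl⟩ := Subgroup.mem_zpowers_iff.1 hq
    refine Commute.zpow_left ?_ n
    rw [← hg]
    exact hxs.map (MulAut.conj g)) (by
    refine IsPGroup.of_card (n := 1) ?_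
    rw [Nat.card_zpowers, pow_one, MulEquiv.orderOf_eq]
    exact orderOf_eq_prime ((pow_two x).trans hx2) hx1)
  obtain ⟨a, ha, pa, hae⟩ := hk _ (Subgroup.mem_zpowers _)
  have hy : F.el a = MulAut.conj (k * g) x := by rw [hae, map_mul, MulAut.mul_apply]; rfl
  have hev : ev a = true := by
    rw [← K.mem a ha, hy, MulAut.conj_apply]
    exact K.normal.conj_mem x hx _
  have hsq : sqOne a = true := by
    simp only [sqOne, Bool.and_eq_true, Bool.not_eq_true', eqv, Nat.beq_eq]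
    refine ⟨?_, ?_⟩
    · rw [← F.sq_iff ha (by norm_num), hy, ← map_mul, hx2, map_one, F.el_zero]
    · rw [Bool.eq_false_iff]
      simp only [ne_eq, Nat.beq_eq]
      rintro rfl
      rw [F.el_zero] at hy
      exact hx1 ((MulAut.conj (k * g)).injective (hy.symm.trans (map_one _).symm))
  have h3 := inL_iff.1 (hsmall a (inL_iff.1 pa) hsq hev)
  have h := K.inv3 h3
  rw [hy] at h
  exact h.trans (IsConj.symm (isConj_iff.2 ⟨k * g, rfl⟩))

theorem dH_iff (K : Kern F M) {b : Bool} (hb : b = true ↔ IsConj z (F.el 160)) {a : ℕ} (ha : a < 768) :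
    IsConj z (F.el a) ↔ dH b a = true := by
  constructor
  · intro h
    obtain ⟨hM, h2, h1⟩ := K.cls_mem h
    rw [K.mem a ha] at hM
    rw [← F.el_zero, F.sq_iff ha (by norm_num)] at h2
    have h0 : a ≠ 0 := fun e => h1 (by rw [e, F.el_zero])
    cases b
    · obtain ⟨p, hp, hok, hr, c, -, hce⟩ := F.exists_hit ha h2 h0
      have hpa : p.1 = a := by
        simp only [hitOK, Bool.and_eq_true, eqv, Nat.beq_eq] at hok
        exact hok.1.1.1
      have hzr : IsConj z (F.el p.2.1) := h.trans (IsConj.symm (isConj_iff.2 ⟨c, hce⟩))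
      show inL [15, 16, 31] a = true
      rw [← hpa]
      refine (class_ok.1 p hp).1 ?_
      rcases K.only _ hr hzr with e | e | e
      · exact Or.inl e
      · exact Or.inr e
      · exact absurd (hb.2 (e ▸ hzr)) (by simp)
    · show (ev a && sqOne a) = true
      simp [hM, sqOne, h2, eqv, h0, Bool.eq_false_iff]
  · intro h
    cases b
    · exact K.inv3 (inL_iff.1 h)
    · replace h : (ev a && sqOne a) = true := h
      simp only [sqOne, Bool.and_eq_true, Bool.not_eq_true', eqv, Nat.beq_eq, Bool.eq_false_iff, ne_eq] at h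
      obtain ⟨p, hp, hok, hr, c, -, hce⟩ := F.exists_hit ha h.2.1 h.2.2
      have hpa : p.1 = a := by
        simp only [hitOK, Bool.and_eq_true, eqv, Nat.beq_eq] at hok
        exact hok.1.1.1
      refine IsConj.trans ?_ (isConj_iff.2 ⟨c, hce⟩)
      rcases (class_ok.1 p hp).2.2 (hpa ▸ h.1) with e | e | e <;> rw [e]
      · exact K.fused
      · rw [F.el_z]
      · exact hb.1 rfl

/-- an element of the centraliser in the class of a representative -/
theorem to_rep (K : Kern F M) {r : ℕ} (hr : r ∈ [1, 36]) {y : G} (hy : Commute y z) (hc : IsConj (F.el r) y) :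
    ∃ a < 768, F.el a = y ∧ hasRep a r = true ∧ ∃ c, Commute c z ∧ c * F.el r * c⁻¹ = y := by
  have hr' : r ∈ [1, 32, 36] := by
    simp only [List.mem_cons, List.not_mem_nil, or_false] at hr ⊢; omega
  obtain ⟨hrl, hr2, hr1⟩ := F.rep_spec (r := r) (by
    simp only [List.mem_cons, List.not_mem_nil, or_false] at hr
    rcases hr with rfl | rfl <;> simp [repsT])
  obtain ⟨g, hg⟩ := isConj_iff.1 hc
  obtain ⟨a, ha, rfl⟩ := F.el_surj hy
  obtain ⟨p, hp, hok, hpr, c, hcz, hce⟩ := F.exists_hit ha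
    (by rw [← F.sq_iff ha (by norm_num), ← hg,
      show g * F.el r * g⁻¹ * (g * F.el r * g⁻¹) = g * (F.el r * F.el r) * g⁻¹ by group, hr2, F.el_zero]; group)
    (fun e => hr1 (conj_eq_one_iff.1 (hg.trans (by rw [e, F.el_zero]))))
  have hpa : p.1 = a := by
    simp only [hitOK, Bool.and_eq_true, eqv, Nat.beq_eq] at hok
    exact hok.1.1.1
  have hrr : IsConj (F.el r) (F.el p.2.1) := hc.trans (IsConj.symm (isConj_iff.2 ⟨c, hce⟩))
  have he : p.2.1 = r := by
    by_contra hne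
    have hz : ∀ s ∈ [15, 16], p.2.1 ≠ s := by
      intro s hs e
      simp only [List.mem_cons, List.not_mem_nil, or_false] at hs
      exact K.not_z r hr' ((K.inv3 (x := s) (by simp only [List.mem_cons, List.not_mem_nil, or_false]; omega)).trans
        (e ▸ hrr.symm))
    refine F.not_conj (K.not_z 1 (by simp)) (K.not_z 32 (by simp)) (K.not_z 36 (by simp)) hr' ?_ (Ne.symm hne) hrr
    have h15 := hz 15 (by simp)
    have h16 := hz 16 (by simp)
    simp only [repsT, List.getD_cons_zero, List.mem_cons, List.not_mem_nil, or_false] at hpr ⊢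
    omega
  refine ⟨a, ha, rfl, ?_, c, hcz, he ▸ hce⟩
  simp only [hasRep, List.any_eq_true, Bool.and_eq_true, eqv, Nat.beq_eq]
  exact ⟨p, hp, hpa, he⟩

theorem rep_conj (_K : Kern F M) {a r : ℕ} (ha : a < 768) (h : hasRep a r = true) (h2 : mulc 0 a a = 0) (h0 : a ≠ 0)
    (huniq : ∀ p ∈ conjT.getD 0 [], p.1 = a → p.2.1 = r) : ∃ c, Commute c z ∧ c * F.el r * c⁻¹ = F.el a := by
  obtain ⟨p, hp, hok, -, c, hcz, hce⟩ := F.exists_hit ha h2 h0
  simp only [hitOK, Bool.and_eq_true, eqv, Nat.beq_eq] at hok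
  rw [huniq p hp hok.1.1.1] at hce
  exact ⟨c, hcz, hce⟩

theorem rep_rows : ∀ q ∈ ([(17, 1), (52, 36), (417, 36), (433, 36)] : List (ℕ × ℕ)),
    mulc 0 q.1 q.1 = 0 ∧ q.1 ≠ 0 ∧ q.1 < 768 ∧ hasRep q.1 q.2 = true ∧
      ∀ p ∈ conjT.getD 0 [], p.1 = q.1 → p.2.1 = q.2 := by
  unfold hasRep; decide +kernel

theorem row (K : Kern F M) {a r : ℕ} (h : (a, r) ∈ [(17, 1), (52, 36), (417, 36), (433, 36)]) :
    ∃ c, Commute c z ∧ c * F.el r * c⁻¹ = F.el a := by
  obtain ⟨h1, h2, h3, h4, h5⟩ := rep_rows (a, r) h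
  exact K.rep_conj h3 h4 h1 h2 h5

theorem pair_conj (K : Kern F M) {x y : G} (hxz : Commute x z) (hyz : Commute y z) (hxy : Commute x y)
    (hx : IsConj (F.el 1) x) (hy : IsConj (F.el 36) y) :
    ∃ c, Commute c z ∧ MulAut.conj c (F.el 1) = x ∧ MulAut.conj c (F.el 417) = y := by
  obtain ⟨a, ha, rfl, har, -⟩ := K.to_rep (by simp) hxz hx
  obtain ⟨b, hb, rfl, hbr, -⟩ := K.to_rep (by simp) hyz hy
  have h := List.all_eq_true.1 pair_orbit a (List.mem_range.2 ha)
  simp only [har, Bool.not_true, Bool.false_or, List.all_eq_true] at h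
  have h2 := h b (List.mem_range.2 hb)
  simp only [hbr, (F.comm_iff ha hb).1 hxy, Bool.and_self, Bool.not_true, Bool.false_or, List.any_eq_true,
    Bool.and_eq_true, eqv, Nat.beq_eq] at h2
  obtain ⟨c, hc, e1, e2⟩ := h2
  have hc := List.mem_range.1 hc
  refine ⟨F.el c, F.el_comm hc, ?_, ?_⟩
  · rw [MulAut.conj_apply, ← F.el_mul hc (by norm_num), e1, F.el_mul ha hc, mul_inv_cancel_right]
  · rw [MulAut.conj_apply, ← F.el_mul hc (by norm_num), e2, F.el_mul hb hc, mul_inv_cancel_right]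

theorem trans_one (K : Kern F M) {r : ℕ} (hr : r ∈ [1, 36]) :
    ∀ w ∈ clsC z [F.el r], ∃ g : G, (∀ x ∈ [F.el r], MulAut.conj g x = x) ∧ MulAut.conj g w = z := by
  rintro w ⟨hw, hcomm⟩
  obtain ⟨g, hg⟩ := isConj_iff.1 hw.symm
  have hc : Commute (MulAut.conj g (F.el r)) z := by
    have := (hcomm _ (List.mem_singleton_self _)).symm.map (MulAut.conj g)
    rwa [MulAut.conj_apply g w, hg] at this
  obtain ⟨-, -, -, -, c, hcz, hce⟩ := K.to_rep hr hc (isConj_iff.2 ⟨g, rfl⟩)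
  refine ⟨c⁻¹ * g, fun x hx => ?_, ?_⟩
  · rw [List.mem_singleton.1 hx, map_mul, MulAut.mul_apply, ← hce, MulAut.conj_apply, inv_inv]; group
  · rw [map_mul, MulAut.mul_apply, MulAut.conj_apply g, hg, MulAut.conj_apply, inv_inv, mul_assoc, ← hcz.eq,
      inv_mul_cancel_left]

theorem trans_pair (K : Kern F M) :
    ∀ w ∈ clsC z [F.el 1, F.el 417], ∃ g : G, (∀ x ∈ [F.el 1, F.el 417], MulAut.conj g x = x) ∧
      MulAut.conj g w = z := by
  rintro w ⟨hw, hcomm⟩
  obtain ⟨g, hg⟩ := isConj_iff.1 hw.symm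
  have hc : ∀ x ∈ [F.el 1, F.el 417], Commute (MulAut.conj g x) z := fun x hx => by
    have := (hcomm x hx).symm.map (MulAut.conj g)
    rwa [MulAut.conj_apply g w, hg] at this
  obtain ⟨c₁, -, hc₁⟩ := K.row (a := 417) (r := 36) (by simp)
  have h36 : IsConj (F.el 36) (F.el 417) := isConj_iff.2 ⟨c₁, hc₁⟩
  obtain ⟨c, hcz, e1, e2⟩ := K.pair_conj (hc _ (by simp)) (hc (F.el 417) (by simp))
    (((F.comm_iff (by norm_num) (by norm_num)).2 class_ok.2.2.2.2.2.2.2.2.2.2.2.2.2).map (MulAut.conj g))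
    (isConj_iff.2 ⟨g, rfl⟩) (h36.trans (isConj_iff.2 ⟨g, rfl⟩))
  refine ⟨c⁻¹ * g, fun x hx => ?_, ?_⟩
  · simp only [List.mem_cons, List.not_mem_nil, or_false] at hx
    rw [map_mul, MulAut.mul_apply]
    rcases hx with rfl | rfl
    · rw [← e1, ← MulAut.mul_apply, ← map_mul, inv_mul_cancel, map_one, MulAut.one_apply]
    · rw [← e2, ← MulAut.mul_apply, ← map_mul, inv_mul_cancel, map_one, MulAut.one_apply]
  · rw [map_mul, MulAut.mul_apply, MulAut.conj_apply g, hg, MulAut.conj_apply, inv_inv, mul_assoc, ← hcz.eq,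
      inv_mul_cancel_left]

theorem odd_prod (K : Kern F M) {r : ℕ} (hr : r ∈ [1, 36]) {w : G} (hw : IsConj (F.el r) w) (hwz : Commute w z)
    {u : G} (hu : IsConj z u) (huw : Commute u w) (hnz : ¬ Commute u z) : Odd (orderOf (z * u)) := by
  haveI := K.normal
  rw [← Nat.not_even_iff_odd]
  intro hev
  obtain ⟨huM, hu2, -⟩ := K.cls_mem hu
  obtain ⟨hzM, -, -⟩ := K.cls_mem (IsConj.refl z)
  obtain ⟨h2, h1, hcz, hcu, -⟩ := mid_even F.z_sq hu2 hev
  have hcw : Commute (mid z u) w := ((hwz.symm).mul_left huw).pow_left _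
  have hcD : IsConj z (mid z u) := K.small_mem hr hw (pow_mem (mul_mem hzM huM) _) h2 h1 hcw
  obtain ⟨g, hg⟩ := isConj_iff.1 hcD.symm
  have hin : ∀ y : G, Commute (mid z u) y → Commute (MulAut.conj g y) z := fun y hy => by
    have := hy.symm.map (MulAut.conj g)
    rwa [MulAut.conj_apply g (mid z u), hg] at this
  obtain ⟨a, ha, hae, har, -⟩ := K.to_rep hr (hin w hcw) (hw.trans (isConj_iff.2 ⟨g, rfl⟩))
  have hmem : ∀ y : G, IsConj z y → Commute (mid z u) y → Commute w y →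
      ∃ b ∈ els.filter (fun b => ev b && sqOne b && cm 0 a b), F.el b = MulAut.conj g y := by
    intro y hy hcy hwy
    obtain ⟨b, hb, hbe⟩ := F.el_surj (hin y hcy)
    obtain ⟨hyM, hy2, hy1⟩ := K.cls_mem hy
    refine ⟨b, List.mem_filter.2 ⟨List.mem_range.2 hb, ?_⟩, hbe⟩
    simp only [sqOne, Bool.and_eq_true, Bool.not_eq_true', eqv, Nat.beq_eq, Bool.eq_false_iff, ne_eq]
    refine ⟨⟨?_, ?_, ?_⟩, ?_⟩
    · rw [← K.mem b hb, hbe]; exact K.normal.conj_mem y hyM g
    · rw [← F.sq_iff hb (by norm_num), hbe, ← map_mul, hy2, map_one, F.el_zero]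
    · intro e
      rw [e, F.el_zero] at hbe
      exact hy1 ((MulAut.conj g).injective (hbe.symm.trans (map_one _).symm))
    · exact (F.comm_iff ha hb).1 (by rw [hae, hbe]; exact hwy.map _)
  obtain ⟨b, hb, hbe⟩ := hmem z (IsConj.refl z) hcz hwz
  obtain ⟨c, hc, hce⟩ := hmem u hu hcu huw.symm
  have h := List.all_eq_true.1 cent_comm a (List.mem_range.2 ha)
  have har' : (hasRep a 1 || hasRep a 36) = true := by
    simp only [List.mem_cons, List.not_mem_nil, or_false] at hr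
    rcases hr with rfl | rfl <;> simp [har]
  simp only [har', Bool.not_true, Bool.false_or, List.all_eq_true] at h
  have h2 := h c hc b hb
  refine hnz ?_
  have h3 := (F.comm_iff (List.mem_range.1 (List.mem_filter.1 hc).1) (List.mem_range.1 (List.mem_filter.1 hb).1)).2 h2
  rw [hce, hbe] at h3
  exact (MulAut.conj g).injective (by rw [map_mul, map_mul]; exact h3.eq)

theorem el_pow {a : ℕ} (F : Fr G z 0) (ha : a < 768) : ∀ k, powc a k < 768 ∧ F.el (powc a k) = F.el a ^ k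
  | 0 => ⟨by norm_num [powc], by rw [pow_zero]; exact F.el_zero⟩
  | k + 1 => by
    obtain ⟨h1, h2⟩ := el_pow F ha k
    exact ⟨F.mul_lt h1 ha, by show F.el (mulc 0 (powc a k) a) = _; rw [F.el_mul h1 ha, h2, pow_succ]⟩

theorem powz_iff {a : ℕ} (ha : a < 768) : z ∈ Subgroup.zpowers (F.el a) ↔ powz a = true := by
  simp only [powz, List.any_eq_true, List.mem_range, eqv, Nat.beq_eq]
  constructor
  · intro h
    obtain ⟨n, hn⟩ := (isOfFinOrder_of_finite (F.el a)).mem_powers_iff_mem_zpowers.2 h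
    dsimp only at hn
    have hp := List.all_eq_true.1 pow_ok a (List.mem_range.2 ha)
    simp only [List.any_eq_true, List.mem_range, Bool.and_eq_true, Bool.not_eq_true', eqv, Nat.beq_eq,
      Bool.eq_false_iff, ne_eq] at hp
    obtain ⟨k, hk, hk0, hke⟩ := hp
    have h1 : F.el a ^ k = 1 := by rw [← (el_pow F ha k).2, hke, F.el_zero]
    refine ⟨n % k, (Nat.mod_lt _ (Nat.pos_of_ne_zero hk0)).trans hk, F.el_inj (el_pow F ha _).1 (by norm_num) ?_⟩
    rw [(el_pow F ha _).2, ← pow_eq_pow_mod n h1]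
    exact hn.trans F.el_z.symm
  · rintro ⟨k, -, e⟩
    have h := (el_pow F ha k).2
    rw [e] at h
    have hm : ∀ y : G, F.el a ^ k = y → y ∈ Subgroup.zpowers (F.el a) :=
      fun y hy => hy ▸ pow_mem (Subgroup.mem_zpowers _) k
    exact hm z (h.symm.trans F.el_z)

theorem jCount_eq (K : Kern F M) {b : Bool} (hb : b = true ↔ IsConj z (F.el 160)) (L : List ℕ) (hL : ∀ p ∈ L, p < 768) :
    (clsC z (z :: L.map F.el)).ncard = jCount b L := by
  rw [← Nat.card_coe_set_eq]
  refine F.card_eq (fun x => dH b x && L.all (cm 0 x)) (· ∈ clsC z (z :: L.map F.el))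
    (fun g hg => hg.2 z (List.mem_cons_self ..)) fun a ha => ?_
  simp only [clsC, Set.mem_ofPred_eq, List.forall_mem_cons, List.forall_mem_map, K.dH_iff hb ha, Bool.and_eq_true,
    List.all_eq_true]
  exact ⟨fun h => ⟨h.1, fun p hp => (F.comm_iff ha (hL p hp)).1 (h.2.2 p hp)⟩,
    fun h => ⟨h.1, F.el_comm ha, fun p hp => (F.comm_iff ha (hL p hp)).2 (h.2 p hp)⟩⟩

theorem kCount_eq (K : Kern F M) {b : Bool} (hb : b = true ↔ IsConj z (F.el 160)) {r : ℕ} (hr : r < 768) (L : List ℕ)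
    (hL : ∀ p ∈ L, p < 768) :
    {u ∈ clsC z (z :: L.map F.el) | ¬ Commute (F.el r) u ∧ z ∈ Subgroup.zpowers (F.el r * u)}.ncard = kCount b r L := by
  rw [← Nat.card_coe_set_eq]
  refine F.card_eq (fun x => dH b x && L.all (cm 0 x) && !(cm 0 r x) && powz (mulc 0 r x))
    (· ∈ {u ∈ clsC z (z :: L.map F.el) | ¬ Commute (F.el r) u ∧ z ∈ Subgroup.zpowers (F.el r * u)})
    (fun g hg => hg.1.2 z (List.mem_cons_self ..)) fun a ha => ?_
  simp only [clsC, Set.mem_ofPred_eq, List.forall_mem_cons, List.forall_mem_map, K.dH_iff hb ha, Bool.and_eq_true,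
    List.all_eq_true, Bool.not_eq_true', Bool.eq_false_iff, ne_eq, ← F.el_mul hr ha, powz_iff (F.mul_lt hr ha),
    F.comm_iff hr ha]
  exact ⟨fun h => ⟨⟨⟨h.1.1, fun p hp => (F.comm_iff ha (hL p hp)).1 (h.1.2.2 p hp)⟩, h.2.1⟩, h.2.2⟩,
    fun h => ⟨⟨h.1.1.1, F.el_comm ha, fun p hp => (F.comm_iff ha (hL p hp)).2 (h.1.1.2 p hp)⟩, h.1.2, h.2⟩⟩

/-- one projection -/
theorem step (K : Kern F M) {b : Bool} (hb : b = true ↔ IsConj z (F.el 160)) {r rz : ℕ} (hr : r ∈ [1, 36]) {s : ℕ}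
    (hs : s < 768) (hrz : mulc 0 s 16 = rz) (hev : ev s = false) (hconj : IsConj (F.el r) (F.el s))
    (hconjz : IsConj (F.el r) (F.el rz)) (L : List ℕ) (hL : ∀ p ∈ L, p < 768 ∧ cm 0 s p = true)
    (htrans : ∀ w ∈ clsC z (F.el s :: L.map F.el), ∃ g : G, (∀ x ∈ F.el s :: L.map F.el, MulAut.conj g x = x) ∧
      MulAut.conj g w = z) :
    ∃ f, (clsC z (L.map F.el)).ncard = (clsC z (F.el s :: L.map F.el)).ncard * f ∧
      f + jCount b (rz :: L) = 1 + kCount b s L + (clsC z (F.el rz :: L.map F.el)).ncard := by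
  haveI := K.normal
  have hrz' : rz < 768 := hrz ▸ F.mul_lt hs (by norm_num)
  have hL' : ∀ p ∈ L, p < 768 := fun p hp => (hL p hp).1
  have hsM : F.el s ∉ M := by rw [K.mem s hs, hev]; simp
  have hs2 : F.el s * F.el s = 1 := by
    obtain ⟨g, hg⟩ := isConj_iff.1 hconj
    have h2 := (F.rep_spec (r := r) (by
      simp only [List.mem_cons, List.not_mem_nil, or_false] at hr
      rcases hr with rfl | rfl <;> simp [repsT])).2.1
    rw [← hg, show g * F.el r * g⁻¹ * (g * F.el r * g⁻¹) = g * (F.el r * F.el r) * g⁻¹ by group, h2]; group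
  have hnc : ∀ u, IsConj z u → ¬ IsConj (F.el s) u := fun u hu h =>
    hsM (K.cls_mem (hu.trans h.symm)).1
  refine ⟨_, card_by_fibre M z (F.el s) (L.map F.el) ?_ htrans, ?_⟩
  · rintro u ⟨hu, huL⟩
    obtain ⟨huM, hu2, hu1⟩ := K.cls_mem hu
    obtain ⟨p2, p1, pc, pM⟩ := proj_spec M hs2 hu2 (hnc u hu) huM hu1
    refine ⟨K.small_mem hr hconj pM p2 p1 pc, fun g hg => ?_⟩
    rcases List.mem_cons.1 hg with rfl | hg
    · exact pc
    obtain ⟨p, hp, rfl⟩ := List.mem_map.1 hg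
    have hsp : Commute (F.el s) (F.el p) := (F.comm_iff hs (hL' p hp)).2 (hL p hp).2
    have hmid : Commute (mid (F.el s) u) (F.el p) := (hsp.mul_left (huL _ hg)).pow_left _
    unfold proj
    split_ifs
    exacts [huL _ hg, hmid, hmid.mul_left hsp]
  · have h := card_fibre M z (F.el s) (L.map F.el) F.z_sq F.z_ne_one (K.cls_mem (IsConj.refl z)).1 hsM hs2
      (F.el_comm hs) (fun g hg => by obtain ⟨p, hp, rfl⟩ := List.mem_map.1 hg; exact (F.el_comm (hL' p hp)).symm)
      (fun u hu => (K.cls_mem hu).2.1) hnc ?_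
    · rw [show F.el s * z = F.el rz by rw [← hrz, F.el_mul hs (by norm_num), F.el_z]] at h
      rw [← List.map_cons, K.jCount_eq hb (rz :: L) (List.forall_mem_cons.2 ⟨hrz', hL'⟩), K.kCount_eq hb hs L hL'] at h
      exact h
    · intro u hu huw hnz
      rw [show F.el s * z = F.el rz by rw [← hrz, F.el_mul hs (by norm_num), F.el_z]] at huw
      exact K.odd_prod hr hconjz (F.el_comm hrz') hu huw hnz

/-- the two counts of the class and the count inside a centraliser -/
theorem equations (K : Kern F M) {b : Bool} (hb : b = true ↔ IsConj z (F.el 160)) :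
    (clsC z []).ncard = (clsC z [F.el 1]).ncard * (cond b 26 2 + (clsC z [F.el 1]).ncard) ∧
    (clsC z []).ncard + 2 * (clsC z [F.el 36]).ncard =
      (clsC z [F.el 36]).ncard * (cond b 8 0 + (clsC z [F.el 36]).ncard) ∧
    (clsC z [F.el 36]).ncard = (clsC z [F.el 1, F.el 417]).ncard * (2 + (clsC z [F.el 1, F.el 417]).ncard) ∧
    (clsC z [F.el 1, F.el 433]).ncard = (clsC z [F.el 1, F.el 417]).ncard := by
  obtain ⟨j1, j4, k1, k4, kp, jp, -⟩ := counts b
  obtain ⟨-, -, -, e17, e52, e433, -, -, -, v1, v36, v417, -, cm1⟩ := class_ok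
  obtain ⟨c17, hc17, h17⟩ := K.row (a := 17) (r := 1) (by simp)
  obtain ⟨c52, hc52, h52⟩ := K.row (a := 52) (r := 36) (by simp)
  obtain ⟨c417, hc417, h417⟩ := K.row (a := 417) (r := 36) (by simp)
  obtain ⟨c433, hc433, h433⟩ := K.row (a := 433) (r := 36) (by simp)
  have same : ∀ (c : G) (r a : ℕ), c * F.el r * c⁻¹ = F.el a → (clsC z [F.el a]).ncard = (clsC z [F.el r]).ncard :=
    fun c r a h => by rw [← card_clsC_conj z [F.el r] c]; simp [MulAut.conj_apply, h]
  obtain ⟨f1, hf1, hf1'⟩ := K.step hb (r := 1) (rz := 17) (by simp) (s := 1) (by norm_num) e17 v1 (IsConj.refl _)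
    (isConj_iff.2 ⟨c17, h17⟩) [] (by simp) (K.trans_one (by simp))
  obtain ⟨f4, hf4, hf4'⟩ := K.step hb (r := 36) (rz := 52) (by simp) (s := 36) (by norm_num) e52 v36 (IsConj.refl _)
    (isConj_iff.2 ⟨c52, h52⟩) [] (by simp) (K.trans_one (by simp))
  obtain ⟨fp, hfp, hfp'⟩ := K.step hb (r := 1) (rz := 17) (by simp) (s := 1) (by norm_num) e17 v1 (IsConj.refl _)
    (isConj_iff.2 ⟨c17, h17⟩) [417] (by simp [cm1]) K.trans_pair
  simp only [List.map_cons, List.map_nil] at hf1 hf1' hf4 hf4' hfp hfp'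
  have hcomm : Commute (F.el 1) (F.el 417) := (F.comm_iff (by norm_num) (by norm_num)).2 cm1
  obtain ⟨d, -, d1, d2⟩ := K.pair_conj (x := F.el 17) (y := F.el 417) (F.el_comm (by norm_num))
    (F.el_comm (by norm_num)) (by
      rw [← e17, F.el_mul (by norm_num) (by norm_num), F.el_z]
      exact hcomm.mul_left (F.el_comm (by norm_num)).symm)
    (isConj_iff.2 ⟨c17, h17⟩) (isConj_iff.2 ⟨c417, h417⟩)
  obtain ⟨d', -, d1', d2'⟩ := K.pair_conj (x := F.el 1) (y := F.el 433) (F.el_comm (by norm_num))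
    (F.el_comm (by norm_num)) (by
      rw [← e433, F.el_mul (by norm_num) (by norm_num), F.el_z]
      exact hcomm.mul_right (F.el_comm (by norm_num)))
    (IsConj.refl _) (isConj_iff.2 ⟨c433, h433⟩)
  have hp17 : (clsC z [F.el 17, F.el 417]).ncard = (clsC z [F.el 1, F.el 417]).ncard := by
    rw [← card_clsC_conj z [F.el 1, F.el 417] d]; simp [d1, d2]
  have hp433 : (clsC z [F.el 1, F.el 433]).ncard = (clsC z [F.el 1, F.el 417]).ncard := by
    rw [← card_clsC_conj z [F.el 1, F.el 417] d']; simp [d1', d2']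
  rw [same _ _ _ h17, j1, k1] at hf1'
  rw [same _ _ _ h52, j4, k4] at hf4'
  rw [hp17, jp, kp] at hfp'
  rw [same _ _ _ h417] at hfp
  refine ⟨?_, ?_, ?_, hp433⟩
  · rw [hf1]; congr 1; omega
  · rw [hf4, mul_comm 2, ← mul_add]; congr 1; omega
  · rw [hfp]; congr 1; omega

end Kern

end Cfsg.Agent.Spor.AutPSLFour
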