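import Cfsg.Agent.Lib.Spor.AutPSLFour.Frame
import Cfsg.Agent.Lib.Spor.AutPSLFour.FusedCheck

/-!
Basic facts on the parametrised centraliser.
-/

set_option autoImplicit false
set_option linter.style.haveILetI false
set_option maxRecDepth 100000

namespace Cfsg.Agent.Spor.AutPSLFour

attribute [local irreducible] mulc

variable {G : Type*} [Group G] {z : G} {v : ℕ}

theorem Fr.mul_lt (F : Fr G z v) {a b : ℕ} (ha : a < 768) (hb : b < 768) : mulc v a b < 768 := by
  obtain ⟨a1, a2, -⟩ := parts_lt a ha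
  obtain ⟨b1, b2, -⟩ := parts_lt b hb
  rw [show mulc v a b = Nat.add (Nat.xor (emul (eOf a) (eact (sOf a) (eOf b)))
    (Nat.shiftLeft (fbit v (sOf a) (sOf b)) 4)) (Nat.shiftLeft (pmul (sOf a) (sOf b)) 5) by unfold mulc; rfl]
  exact (code_parts _ (moOf_mul _ a1 _ (act_ok _ a2 _ b1).1).1 _ (pmul_lt _ a2 _ b2) _
    (fbit_step v F.v_lt _ a2 _ b2).1).2.2.1

theorem Fr.el_zero (F : Fr G z v) : F.el 0 = 1 := by
  have h := F.el_mul (a := 0) (b := 0) (by norm_num) (by norm_num)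
  rw [(basic_ok v F.v_lt).1] at h
  exact mul_eq_left.1 h.symm

theorem Fr.z_sq (F : Fr G z v) : z * z = 1 := by
  rw [← F.el_z, ← F.el_mul (by norm_num) (by norm_num), (basic_ok v F.v_lt).2.1, F.el_zero]

theorem Fr.z_ne_one (F : Fr G z v) : z ≠ 1 := fun e => by
  rw [← F.el_z, ← F.el_zero] at e
  exact absurd (F.el_inj (by norm_num) (by norm_num) e) (by norm_num)

theorem Fr.comm_iff (F : Fr G z v) {a b : ℕ} (ha : a < 768) (hb : b < 768) :
    Commute (F.el a) (F.el b) ↔ cm v a b = true := by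
  simp only [cm, eqv, Nat.beq_eq]
  constructor
  · intro h
    exact F.el_inj (F.mul_lt ha hb) (F.mul_lt hb ha) (by rw [F.el_mul ha hb, F.el_mul hb ha]; exact h.eq)
  · intro h
    show F.el a * F.el b = F.el b * F.el a
    rw [← F.el_mul ha hb, ← F.el_mul hb ha, h]

theorem Fr.sq_iff (F : Fr G z v) {a b : ℕ} (ha : a < 768) (hb : b < 768) :
    F.el a * F.el a = F.el b ↔ mulc v a a = b := by
  rw [← F.el_mul ha ha]
  exact ⟨fun h => F.el_inj (F.mul_lt ha ha) hb h, fun h => by rw [h]⟩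

theorem Fr.rep_spec (F : Fr G z v) {r : ℕ} (hr : r ∈ repsT.getD v []) :
    r < 768 ∧ F.el r * F.el r = 1 ∧ F.el r ≠ 1 := by
  obtain ⟨h1, h2, h3, -⟩ := (basic_ok v F.v_lt).2.2 r hr
  refine ⟨h1, by rw [← F.el_mul h1 h1, h2, F.el_zero], fun e => h3 ?_⟩
  rw [← F.el_zero] at e
  exact F.el_inj h1 (by norm_num) e

theorem Fr.card_eq (F : Fr G z v) [Finite G] (p : ℕ → Bool) (P : G → Prop)
    (hz : ∀ g, P g → Commute g z) (hp : ∀ a < 768, P (F.el a) ↔ p a = true) :
    Nat.card {g : G // P g} = (els.filter p).length := by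
  classical
  have hnd : (els.filter p).Nodup := List.nodup_range.filter p
  rw [← List.toFinset_card_of_nodup hnd]
  refine (Nat.card_eq_finsetCard _).symm.trans ?_ |>.symm
  refine Nat.card_eq_of_bijective (fun a : ↥(els.filter p).toFinset => (⟨F.el a.1,
    (hp a.1 (List.mem_range.1 (List.mem_filter.1 (List.mem_toFinset.1 a.2)).1)).2
      (List.mem_filter.1 (List.mem_toFinset.1 a.2)).2⟩ : {g : G // P g})) ⟨?_, ?_⟩
  · intro a b e
    have ha := List.mem_range.1 (List.mem_filter.1 (List.mem_toFinset.1 a.2)).1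
    have hb := List.mem_range.1 (List.mem_filter.1 (List.mem_toFinset.1 b.2)).1
    exact Subtype.ext (F.el_inj ha hb (congrArg Subtype.val e))
  · rintro ⟨g, hg⟩
    obtain ⟨a, ha, rfl⟩ := F.el_surj (hz g hg)
    exact ⟨⟨a, List.mem_toFinset.2 (List.mem_filter.2 ⟨List.mem_range.2 ha, (hp a ha).1 hg⟩)⟩, rfl⟩

/-- an involution commuting with the given one is conjugate in the centraliser to a representative -/
theorem Fr.exists_hit (F : Fr G z v) {a : ℕ} (ha : a < 768) (h2 : mulc v a a = 0) (h0 : a ≠ 0) :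
    ∃ p ∈ conjT.getD v [], hitOK v a p = true ∧ p.2.1 ∈ repsT.getD v [] ∧
      ∃ c : G, Commute c z ∧ c * F.el p.2.1 * c⁻¹ = F.el a := by
  have h := List.all_eq_true.mp (classes_all v F.v_lt) a (List.mem_range.2 ha)
  simp only [Bool.or_eq_true, Bool.not_eq_true', List.any_eq_true, eqv] at h
  rcases h with (h | h) | ⟨p, hp, hok⟩
  · rw [h2, Nat.beq_refl] at h; exact Bool.noConfusion h
  · exact absurd (Nat.eq_of_beq_eq_true h) h0
  refine ⟨p, hp, hok, ?_⟩
  simp only [hitOK, Bool.and_eq_true, List.any_eq_true, eqv, Nat.beq_eq, Nat.blt_eq] at hok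
  obtain ⟨⟨⟨-, hc⟩, r, hr, rfl⟩, hm⟩ := hok
  refine ⟨hr, F.el p.2.2, F.el_comm hc, ?_⟩
  rw [← F.el_mul hc (F.rep_spec hr).1, hm, F.el_mul ha hc, mul_inv_cancel_right]

theorem Fr.exists_rep (F : Fr G z v) {y : G} (hy : Commute y z) (h2 : y * y = 1) (h1 : y ≠ 1) :
    ∃ r ∈ repsT.getD v [], ∃ c : G, Commute c z ∧ c * F.el r * c⁻¹ = y := by
  obtain ⟨a, ha, rfl⟩ := F.el_surj hy
  obtain ⟨p, -, -, hr, hc⟩ := F.exists_hit ha
    (F.el_inj (F.mul_lt ha ha) (by norm_num) (by rw [F.el_mul ha ha, h2, F.el_zero]))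
    (fun e => h1 (by rw [e, F.el_zero]))
  exact ⟨p.2.1, hr, hc⟩

end Cfsg.Agent.Spor.AutPSLFour
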