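import Cfsg.Agent.Lib.Spor.AutPSLFour.Check

/-!
Checks for the parametrisation of the centraliser.
-/

set_option autoImplicit false
set_option maxRecDepth 100000

namespace Cfsg.Agent.Spor.AutPSLFour

open Cfsg.Agent.Perm.MinusThirtyTwo

/-- the standard transpositions of five points -/
def stdPerm (j : ℕ) : Equiv.Perm (Fin 5) :=
  ([Equiv.swap (0 : Fin 5) 1, Equiv.swap 1 2, Equiv.swap 2 3] : List (Equiv.Perm (Fin 5))).getD j 1

set_option synthInstance.maxSize 20000 in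
set_option synthInstance.maxHeartbeats 400000 in
theorem triple_std : ∀ A : Equiv.Perm (Fin 5), A * A = 1 → A ≠ 1 → ∀ B : Equiv.Perm (Fin 5), B * B = 1 → B ≠ 1 →
    A ≠ B → A * B * A * B * A * B = 1 → ∀ C : Equiv.Perm (Fin 5), C * C = 1 → C ≠ 1 → B ≠ C → A ≠ C →
    B * C * B * C * B * C = 1 → A * C * (A * C) = 1 →
    ∃ p : Equiv.Perm (Fin 5), p * A * p⁻¹ = stdPerm 0 ∧ p * B * p⁻¹ = stdPerm 1 ∧ p * C * p⁻¹ = stdPerm 2 := by
  decide +kernel

theorem psi_sImg : ∀ j < 3, ∀ i : Fin 5, idx (img (sImg j) (t i)) = stdPerm j i := by decide +kernel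

theorem sImg_rels : (∀ j < 3, ∀ m : Mo, img (sImg j) (img (sImg j) m) = m) ∧
    ∀ m : Mo, img (sImg 0) (img (sImg 1) (img (sImg 0) (img (sImg 1) (img (sImg 0) m)))) = img (sImg 1) m ∧
    img (sImg 1) (img (sImg 2) (img (sImg 1) (img (sImg 2) (img (sImg 1) m)))) = img (sImg 2) m ∧
    img (sImg 0) (img (sImg 2) (img (sImg 0) (img (sImg 2) m))) = m := by decide +kernel

theorem code_parts : ∀ e < 32, ∀ s < 24, ∀ f < 2,
    eOf (Nat.add (Nat.xor e (Nat.shiftLeft f 4)) (Nat.shiftLeft s 5)) = Nat.xor e (Nat.shiftLeft f 4) ∧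
    sOf (Nat.add (Nat.xor e (Nat.shiftLeft f 4)) (Nat.shiftLeft s 5)) = s ∧
    Nat.add (Nat.xor e (Nat.shiftLeft f 4)) (Nat.shiftLeft s 5) < 768 ∧
    moOf (Nat.xor e (Nat.shiftLeft f 4)) = moOf e * z ^ f := by decide +kernel

theorem parts_lt : ∀ x < 768, eOf x < 32 ∧ sOf x < 24 ∧
    x = Nat.add (eOf x) (Nat.shiftLeft (sOf x) 5) := by decide +kernel

end Cfsg.Agent.Spor.AutPSLFour
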