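import Cfsg.Prelude
import Cfsg.Agent.Lib.Spor.AutPSLFour.FrameCheck

/-!
The centraliser of the involution is one of the four candidates.
-/

set_option autoImplicit false
set_option linter.style.haveILetI false
set_option maxRecDepth 100000

namespace Cfsg.Agent.Spor.AutPSLFour

open Cfsg.Agent.Perm.MinusThirtyTwo (Mo img psi ker_psi psi_surjective aut_z idx aut_img exists_equiv ext2)

attribute [local irreducible] mulc emul eact pmul fbit

/-- a parametrisation of the centraliser of an involution by codes in variant `v` -/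
structure Fr (G : Type*) [Group G] (z : G) (v : ℕ) where
  v_lt : v < 4
  /-- the element of a code -/
  el : ℕ → G
  el_mul : ∀ {a b : ℕ}, a < 768 → b < 768 → el (mulc v a b) = el a * el b
  el_inj : ∀ {a b : ℕ}, a < 768 → b < 768 → el a = el b → a = b
  el_z : el 16 = z
  el_comm : ∀ {a : ℕ}, a < 768 → Commute (el a) z
  el_surj : ∀ {g : G}, Commute g z → ∃ a < 768, el a = g

/-- an automorphism of the normal forms -/
def sAut (j : ℕ) (hj : j < 3) : MulAut Mo :=
  Cfsg.Agent.Perm.MinusThirtyTwo.mkAut (sImg j) (sImg j) (sImg_ok j hj).1 (sImg_ok j hj).2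

theorem sAut_apply (j : ℕ) (hj : j < 3) (m : Mo) : sAut j hj m = img (sImg j) m := rfl

theorem psi_sAut (j : ℕ) (hj : j < 3) : psi (sAut j hj) = stdPerm j :=
  Equiv.ext fun i => psi_sImg j hj i

variable {H : Type*} [Group H]

/-- lifts of the transpositions with their relations -/
structure Lifts (θ : H →* MulAut Mo) (ι : Mo →* H) (v : ℕ) where
  /-- the lifts -/
  g : ℕ → H
  aut : ∀ j (hj : j < 3), θ (g j) = sAut j hj
  rel : ∀ k < 6, ((relW.getD k []).map g).prod = ι Cfsg.Agent.Perm.MinusThirtyTwo.z ^ relVal v k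

variable {θ : H →* MulAut Mo} {ι : Mo →* H} {v : ℕ}

/-- the lift of a permutation -/
def Lifts.R (L : Lifts θ ι v) (s : ℕ) : H := ((words.getD s []).map L.g).prod

theorem Lifts.conj (L : Lifts θ ι v) (hθ : ∀ h m, h * ι m * h⁻¹ = ι (θ h m)) {s g : ℕ} (hs : s < 24)
    (hg : g < 32) : L.R s * ι (moOf g) * (L.R s)⁻¹ = ι (moOf (eact s g)) := by
  rw [hθ, (act_ok s hs g hg).2, Lifts.R]
  congr 1
  have : ∀ w : List ℕ, (∀ j ∈ w, j < 3) → ∀ m : Mo,
      θ (w.map L.g).prod m = w.foldr (fun j y => img (sImg j) y) m := by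
    intro w
    induction w with
    | nil => intro _ m; simp
    | cons j w ih =>
      intro hw m
      rw [List.map_cons, List.prod_cons, map_mul, MulAut.mul_apply, List.foldr_cons,
        ih (fun i hi => hw i (List.mem_cons_of_mem _ hi)) m, L.aut j (hw j List.mem_cons_self), sAut_apply]
  exact this _ (words_ok s hs).1 _

/-- a step from a permutation by a transposition carries the recorded sign -/
def Lifts.Edge (L : Lifts θ ι v) (e : ℕ × ℕ) : Prop :=
  L.R e.1 * L.g e.2 = ι Cfsg.Agent.Perm.MinusThirtyTwo.z ^ fbit v e.1 (gperm.getD e.2 0) *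
    L.R (pmul e.1 (gperm.getD e.2 0))

theorem pow_xor {c : H} (hc : c * c = 1) : ∀ {a b : ℕ}, a < 2 → b < 2 → c ^ Nat.xor a b = c ^ a * c ^ b := by
  intro a b ha hb
  interval_cases a <;> interval_cases b <;> simp [hc] <;> rfl

theorem walk_step (L : Lifts θ ι v) {c : H} (hcz : c = ι Cfsg.Agent.Perm.MinusThirtyTwo.z) (hc : c * c = 1)
    (hv : v < 4) {known : List (ℕ × ℕ)} (hk : ∀ e ∈ known, L.Edge e) :
    ∀ (w : List ℕ) (q : ℕ), q < 24 → (∀ j ∈ w, j < 3) → walkKnown known q w = true →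
      L.R q * (w.map L.g).prod = c ^ walkSign v q w * L.R (walkTo q w) ∧ walkTo q w < 24 ∧ walkSign v q w < 2 := by
  intro w
  induction w with
  | nil => intro q hq _ _; exact ⟨by simp [walkSign, walkTo], hq, Nat.zero_lt_two⟩
  | cons j w ih =>
    intro q hq hj h
    simp only [walkKnown, Bool.and_eq_true, List.any_eq_true, eqv, Nat.beq_eq] at h
    obtain ⟨⟨e, he, e1, e2⟩, h'⟩ := h
    have hg := gperm_lt j (hj j List.mem_cons_self)
    obtain ⟨i1, i2, i3⟩ := ih _ (pmul_lt q hq _ hg) (fun i hi => hj i (List.mem_cons_of_mem _ hi)) h'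
    have hs := (fbit_step v hv q hq _ hg).1
    have he' := hk e he
    rw [Lifts.Edge, e1, e2, ← hcz] at he'
    refine ⟨?_, by rw [walkTo, List.foldl_cons]; exact i2, ?_⟩
    · rw [List.map_cons, List.prod_cons, ← mul_assoc, he', mul_assoc, i1, ← mul_assoc,
        show walkSign v q (j :: w) = Nat.xor (fbit v q (gperm.getD j 0)) (walkSign v (pmul q (gperm.getD j 0)) w)
          from rfl, pow_xor hc hs i3]
      rw [walkTo, walkTo, List.foldl_cons]
    · exact Nat.xor_lt_two_pow (n := 1) hs i3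

theorem walkSign_append (v : ℕ) : ∀ (w w' : List ℕ) (q : ℕ),
    walkSign v q (w ++ w') = Nat.xor (walkSign v q w) (walkSign v (walkTo q w) w') := by
  intro w
  induction w with
  | nil => intro w' q; simp [walkSign, walkTo]
  | cons j w ih =>
    intro w' q
    show Nat.xor (fbit v q (gperm.getD j 0)) (walkSign v _ (w ++ w')) = _
    rw [ih]
    exact (Nat.xor_assoc _ _ _).symm

theorem Lifts.deduce (L : Lifts θ ι v) (hv : v < 4) {c : H} (hcz : c = ι Cfsg.Agent.Perm.MinusThirtyTwo.z)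
    (hc : c * c = 1) (hcc : ∀ h, c * h = h * c) {known : List (ℕ × ℕ)} (hk : ∀ e ∈ known, L.Edge e)
    {d : ℕ × ℕ × ℕ} (h : dedOK v known d = true) : L.Edge (dedEdge d) := by
  simp only [dedOK, Bool.and_eq_true, eqv, Nat.beq_eq, Nat.blt_eq] at h
  obtain ⟨⟨⟨⟨⟨⟨h1, h2⟩, hend⟩, hd1⟩, hd2⟩, hd3⟩, hsign⟩ := h
  set w := relW.getD d.2.1 [] with hw
  have hw3 : ∀ k < 6, ∀ j ∈ relW.getD k [], j < 3 := by decide +kernel
  have hj : ∀ j ∈ w, j < 3 := hw3 _ hd2
  obtain ⟨a1, a2, a3⟩ := walk_step L hcz hc hv hk _ d.1 hd1 (fun j hj' => hj j (List.mem_of_mem_take hj')) h1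
  set q := walkTo d.1 (w.take d.2.2) with hq
  set j := w.getD d.2.2 0 with hjd
  have hsplit : w = w.take d.2.2 ++ j :: w.drop (d.2.2 + 1) := by
    rw [hjd, List.getD_eq_getElem _ _ hd3, List.getElem_cons_drop hd3, List.take_append_drop]
  have hj3 : j < 3 := hj j (by rw [hjd, List.getD_eq_getElem _ _ hd3]; exact List.getElem_mem _)
  have hto : walkTo d.1 (w.take (d.2.2 + 1)) = pmul q (gperm.getD j 0) := by
    rw [hjd, List.getD_eq_getElem _ _ hd3, List.take_succ_eq_append_getElem hd3, hq, walkTo, walkTo,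
      List.foldl_append, List.foldl_cons, List.foldl_nil]
  rw [show Nat.add d.2.2 1 = d.2.2 + 1 from rfl, hto] at h2
  obtain ⟨b1, b2, b3⟩ := walk_step L hcz hc hv hk _ _ (pmul_lt q a2 _ (gperm_lt j hj3))
    (fun i hi => hj i (List.mem_of_mem_drop hi)) h2
  have hto2 : walkTo (pmul q (gperm.getD j 0)) (w.drop (d.2.2 + 1)) = d.1 := by
    conv_rhs => rw [← hend, hsplit]
    rw [hq, walkTo, walkTo, walkTo, List.foldl_append, List.foldl_cons]
  rw [hto2] at b1
  have hf := (fbit_step v hv q a2 _ (gperm_lt j hj3)).1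
  have hrel := L.rel d.2.1 hd2
  rw [← hw, ← hcz, ← hsign] at hrel
  have key : L.R d.1 * (w.map L.g).prod =
      c ^ walkSign v d.1 w * L.R d.1 := by rw [hrel]; exact (Commute.pow_left (hcc (L.R d.1)) _).eq.symm
  rw [hsplit, List.map_append, List.map_cons, List.prod_append, List.prod_cons, ← mul_assoc, a1, ← hsplit] at key
  have hs : walkSign v d.1 w = Nat.xor (walkSign v d.1 (w.take d.2.2))
      (Nat.xor (fbit v q (gperm.getD j 0)) (walkSign v (pmul q (gperm.getD j 0)) (w.drop (d.2.2 + 1)))) := by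
    conv_lhs => rw [hsplit]
    rw [walkSign_append]
    rfl
  have hlt : Nat.xor (fbit v q (gperm.getD j 0)) (walkSign v (pmul q (gperm.getD j 0)) (w.drop (d.2.2 + 1))) < 2 :=
    Nat.xor_lt_two_pow (n := 1) hf b3
  rw [hs, pow_xor hc a3 hlt, pow_xor hc hf b3, mul_assoc, mul_assoc, mul_assoc,
    mul_left_cancel_iff, ← b1] at key
  rw [show dedEdge d = (q, j) from rfl, Lifts.Edge, ← hcz]
  refine mul_right_cancel (b := ((w.drop (d.2.2 + 1)).map L.g).prod) ?_
  rw [mul_assoc, key, ← mul_assoc]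

theorem Lifts.edges (L : Lifts θ ι v) (hv : v < 4) (hc : ι Cfsg.Agent.Perm.MinusThirtyTwo.z *
    ι Cfsg.Agent.Perm.MinusThirtyTwo.z = 1) (hcc : ∀ h, ι Cfsg.Agent.Perm.MinusThirtyTwo.z * h =
      h * ι Cfsg.Agent.Perm.MinusThirtyTwo.z) : ∀ q < 24, ∀ j < 3, L.Edge (q, j) := by
  have all : ∀ (ds : List (ℕ × ℕ × ℕ)) (known : List (ℕ × ℕ)), (∀ e ∈ known, L.Edge e) →
      dedAll v ds known = true → ∀ q < 24, ∀ j < 3, L.Edge (q, j) := by
    intro ds
    induction ds with
    | nil =>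
      intro known hk h q hq j hj
      simp only [dedAll, List.all_eq_true, List.any_eq_true, Bool.and_eq_true, List.mem_range, eqv, Nat.beq_eq] at h
      obtain ⟨e, he, e1, e2⟩ := h q hq j hj
      have := hk e he
      rwa [show (q, j) = e from Prod.ext e1.symm e2.symm]
    | cons d ds ih =>
      intro known hk h
      simp only [dedAll, Bool.and_eq_true] at h
      exact ih _ (List.forall_mem_cons.2 ⟨L.deduce hv rfl hc hcc hk h.1, hk⟩) h.2
  refine all deds treeEdges ?_ (deds_ok v hv)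
  intro e he
  obtain ⟨t, ht, rfl⟩ := List.mem_map.1 he
  have ht' : t < 24 ∧ t ≠ 0 :=
    (by decide +kernel : ∀ t ∈ (List.range 24).tail, t < 24 ∧ t ≠ 0) t ht
  obtain ⟨-, -, -, h⟩ := words_ok t ht'.1
  obtain ⟨hw, -, -, -, hp, hf⟩ := h ht'.2
  rw [Lifts.Edge, hp, hf v hv, pow_zero, one_mul, Lifts.R, Lifts.R, hw, List.map_append, List.prod_append]
  simp

theorem Lifts.mul_R (L : Lifts θ ι v) (hv : v < 4) (hc : ι Cfsg.Agent.Perm.MinusThirtyTwo.z *
    ι Cfsg.Agent.Perm.MinusThirtyTwo.z = 1) (hcc : ∀ h, ι Cfsg.Agent.Perm.MinusThirtyTwo.z * h =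
      h * ι Cfsg.Agent.Perm.MinusThirtyTwo.z) :
    ∀ (n : ℕ), ∀ s < 24, ∀ t < 24, (words.getD t []).length = n →
      L.R s * L.R t = ι Cfsg.Agent.Perm.MinusThirtyTwo.z ^ fbit v s t * L.R (pmul s t) := by
  intro n
  induction n using Nat.strong_induction_on with
  | _ n ih =>
    intro s hs t ht hn
    by_cases h0 : t = 0
    · subst h0
      have h := pmul_zero s hs
      rw [h.1, (h.2.2 v hv).1, pow_zero, one_mul, Lifts.R, Lifts.R, (words_ok 0 ht).2.2.1 rfl]
      simp
    obtain ⟨hw, hq, hj, hlen, -, -⟩ := (words_ok t ht).2.2.2 h0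
    obtain ⟨hf, hp⟩ := (fbit_step v hv s hs t ht).2 h0
    have e := ih _ (hn ▸ hlen) s hs _ hq rfl
    have hE := L.edges hv hc hcc _ (pmul_lt s hs _ hq) _ hj
    rw [Lifts.Edge] at hE
    simp only at hE
    rw [Lifts.R, Lifts.R, hw, List.map_append, List.prod_append, List.map_cons, List.map_nil, List.prod_cons,
      List.prod_nil, mul_one, ← mul_assoc, ← Lifts.R, ← Lifts.R, e, mul_assoc, hE, ← mul_assoc, hp,
      ← pow_xor hc (fbit_step v hv s hs _ hq).1 (fbit_step v hv _ (pmul_lt s hs _ hq) _ (gperm_lt _ hj)).1, ← hf]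

variable {G : Type*} [Group G]

theorem exists_frame [Finite G] (z : G) (hz : orderOf z = 2)
    (E : Subgroup ↥(Subgroup.centralizer ({z} : Set G))) [hEn : E.Normal] (hE : Cfsg.IsExtraspecial 2 ↥E)
    (hE32 : Nat.card ↥E = 32)
    (hEminus : ∀ A : Subgroup ↥E, Cfsg.IsElementaryAbelian 2 A → Nat.card ↥A ≠ 8)
    (hCE : Subgroup.centralizer (E : Set ↥(Subgroup.centralizer ({z} : Set G))) ≤ E)
    (e : (↥(Subgroup.centralizer ({z} : Set G)) ⧸ E) ≃* Equiv.Perm (Fin 4)) :
    ∃ v, Nonempty (Fr G z v) := by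
  classical
  haveI : Fact (Nat.Prime 2) := ⟨Nat.prime_two⟩
  have hle : ∀ A : Subgroup ↥E, Cfsg.IsElementaryAbelian 2 A → Nat.card ↥A ≤ 4 := by
    intro A hA
    by_contra hgt
    push Not at hgt
    have hp : IsPGroup 2 A := fun a => ⟨1, by simpa using Subtype.ext (hA.2 a a.2)⟩
    obtain ⟨n, hn⟩ := IsPGroup.iff_card.1 hp
    have h3 : 2 ^ 3 ∣ Nat.card A := by
      rw [hn]; refine pow_dvd_pow 2 ?_
      by_contra h3
      have : 2 ^ n ≤ 2 ^ 2 := Nat.pow_le_pow_right (by norm_num) (by omega)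
      omega
    obtain ⟨B, hB⟩ := Sylow.exists_subgroup_card_pow_prime 2 h3
    refine hEminus (B.map A.subtype) ⟨⟨⟨?_⟩⟩, ?_⟩ (by rw [Subgroup.card_map_of_injective A.subtype_injective, hB]; norm_num)
    · rintro ⟨_, a, -, rfl⟩ ⟨_, b, -, rfl⟩
      haveI := hA.1
      exact Subtype.ext (show (a : ↥E) * b = b * a from congrArg Subtype.val (mul_comm' a b))
    · rintro _ ⟨a, -, rfl⟩
      exact hA.2 a a.2
  obtain ⟨κ⟩ := exists_equiv hE hE32 hle
  set zH : ↥(Subgroup.centralizer ({z} : Set G)) := ⟨z, Subgroup.mem_centralizer_singleton_iff.2 rfl⟩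
  have hzc : ∀ h : ↥(Subgroup.centralizer ({z} : Set G)), zH * h = h * zH := fun h =>
    Subtype.ext (Subgroup.mem_centralizer_singleton_iff.1 h.2).symm
  have hzE : zH ∈ E := hCE (Subgroup.mem_centralizer_iff.2 fun g _ => (hzc g).symm)
  have hκz : κ Cfsg.Agent.Perm.MinusThirtyTwo.z = ⟨zH, hzE⟩ := by
    have hc : ∀ m : Mo, κ.symm ⟨zH, hzE⟩ * m = m * κ.symm ⟨zH, hzE⟩ := fun m => κ.injective (by
      rw [map_mul, map_mul, κ.apply_symm_apply]
      exact Subtype.ext (hzc _))
    rcases ext2.center _ hc with h | h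
    · exfalso
      have e1 : (⟨zH, hzE⟩ : E) = 1 := by rw [← κ.apply_symm_apply ⟨zH, hzE⟩, h, map_one]
      have e2 : z = 1 := congrArg (fun x : E => ((x : ↥(Subgroup.centralizer ({z} : Set G))) : G)) e1
      simp [e2] at hz
    · rw [← h, κ.apply_symm_apply]
  let θ₀ : ↥(Subgroup.centralizer ({z} : Set G)) →* MulAut Mo := (MulAut.congr κ.symm).toMonoidHom.comp (MulAut.conjNormal (H := E))
  have hθ₀ : ∀ h m, h * (κ m : ↥(Subgroup.centralizer ({z} : Set G))) * h⁻¹ = κ (θ₀ h m) := fun h m => by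
    show _ = ((κ (κ.symm (MulAut.conjNormal h (κ.symm.symm m))) : E) : ↥(Subgroup.centralizer ({z} : Set G)))
    rw [κ.apply_symm_apply, MulAut.conjNormal_apply, κ.symm_symm]
  have hθE : ∀ m : Mo, θ₀ (κ m : ↥(Subgroup.centralizer ({z} : Set G))) = MulAut.conj m := fun m => MulEquiv.ext fun n => κ.injective (Subtype.ext (by
    rw [← hθ₀, MulAut.conj_apply, map_mul, map_mul, map_inv]
    rfl))
  have hker : ∀ h : ↥(Subgroup.centralizer ({z} : Set G)), psi (θ₀ h) = 1 ↔ h ∈ E := by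
    intro h
    constructor
    · intro hp
      obtain ⟨m, hm⟩ : θ₀ h ∈ (MulAut.conj : Mo →* MulAut Mo).range := ker_psi ▸ (MonoidHom.mem_ker.2 hp)
      have : (κ m : ↥(Subgroup.centralizer ({z} : Set G)))⁻¹ * h ∈ E := by
        refine hCE (Subgroup.mem_centralizer_iff.2 fun g hg => ?_)
        have e1 := hθ₀ ((κ m : ↥(Subgroup.centralizer ({z} : Set G)))⁻¹ * h) (κ.symm ⟨g, hg⟩)
        rw [map_mul, map_inv, hθE, ← hm, inv_mul_cancel, MulAut.one_apply, κ.apply_symm_apply] at e1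
        exact (mul_inv_eq_iff_eq_mul.1 e1).symm
      have h2 := mul_mem (κ m).2 this
      rwa [mul_inv_cancel_left] at h2
    · intro hh
      have := hθE (κ.symm ⟨h, hh⟩)
      rw [κ.apply_symm_apply] at this
      rw [this, ← MonoidHom.mem_ker, ker_psi]
      exact ⟨_, rfl⟩
  let f : Equiv.Perm (Fin 4) →* Equiv.Perm (Fin 5) :=
    (QuotientGroup.lift E (psi.comp θ₀) (fun h hh => (hker h).2 hh)).comp e.symm.toMonoidHom
  have hf : Function.Injective f := by
    rw [← MonoidHom.ker_eq_bot_iff, eq_bot_iff]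
    intro p hp
    obtain ⟨h, hh⟩ := QuotientGroup.mk_surjective (e.symm p)
    have : psi (θ₀ h) = 1 := by
      have hp' : f p = 1 := hp
      simp only [f, MonoidHom.coe_comp, MulEquiv.coe_toMonoidHom, Function.comp_apply, ← hh,
        QuotientGroup.lift_mk] at hp'
      exact hp'
    rw [Subgroup.mem_bot, ← e.apply_symm_apply p, ← hh, (QuotientGroup.eq_one_iff h).2 ((hker h).1 this), map_one]
  obtain ⟨p, hp0, hp1, hp2⟩ := triple_std (f (Equiv.swap 0 1)) (by rw [← map_mul, Equiv.swap_mul_self, map_one])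
    (fun h => absurd (hf (h.trans (map_one f).symm)) (by decide))
    (f (Equiv.swap 1 2)) (by rw [← map_mul, Equiv.swap_mul_self, map_one])
    (fun h => absurd (hf (h.trans (map_one f).symm)) (by decide))
    (fun h => absurd (hf h) (by decide))
    (by simp only [← map_mul]; exact (congrArg f (by decide)).trans (map_one f))
    (f (Equiv.swap 2 3)) (by rw [← map_mul, Equiv.swap_mul_self, map_one])
    (fun h => absurd (hf (h.trans (map_one f).symm)) (by decide))
    (fun h => absurd (hf h) (by decide)) (fun h => absurd (hf h) (by decide))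
    (by simp only [← map_mul]; exact (congrArg f (by decide)).trans (map_one f))
    (by simp only [← map_mul]; exact (congrArg f (by decide)).trans (map_one f))
  obtain ⟨σ, hσ⟩ := psi_surjective p
  let ι : Mo →* ↥(Subgroup.centralizer ({z} : Set G)) := E.subtype.comp (σ.symm.trans κ).toMonoidHom
  let θ : ↥(Subgroup.centralizer ({z} : Set G)) →* MulAut Mo := (MulAut.conj σ).toMonoidHom.comp θ₀
  have hθ : ∀ h m, h * ι m * h⁻¹ = ι (θ h m) := fun h m => by
    show h * (κ (σ.symm m) : ↥(Subgroup.centralizer ({z} : Set G))) * h⁻¹ = (κ (σ.symm ((σ * θ₀ h * σ⁻¹) m)) : ↥(Subgroup.centralizer ({z} : Set G)))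
    rw [hθ₀, MulAut.mul_apply, MulAut.mul_apply, MulEquiv.symm_apply_apply]
    rfl
  have hι : Function.Injective ι := Subtype.val_injective.comp (σ.symm.trans κ).injective
  have hιz : ι Cfsg.Agent.Perm.MinusThirtyTwo.z = zH := by
    show (κ (σ.symm _) : ↥(Subgroup.centralizer ({z} : Set G))) = zH
    rw [show σ.symm Cfsg.Agent.Perm.MinusThirtyTwo.z = Cfsg.Agent.Perm.MinusThirtyTwo.z from aut_z σ⁻¹, hκz]
  have hzz : ι Cfsg.Agent.Perm.MinusThirtyTwo.z * ι Cfsg.Agent.Perm.MinusThirtyTwo.z = 1 := by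
    rw [← map_mul, ext2.zz, map_one]
  have hzc' : ∀ h : ↥(Subgroup.centralizer ({z} : Set G)), ι Cfsg.Agent.Perm.MinusThirtyTwo.z * h = h * ι Cfsg.Agent.Perm.MinusThirtyTwo.z :=
    fun h => by rw [hιz]; exact hzc h
  have hθι : ∀ m, θ (ι m) = MulAut.conj m := fun m => MulEquiv.ext fun n => hι (by
    rw [← hθ, MulAut.conj_apply, map_mul, map_mul, map_inv])
  have hone : ∀ h : ↥(Subgroup.centralizer ({z} : Set G)), θ h = 1 → h = 1 ∨ h = ι Cfsg.Agent.Perm.MinusThirtyTwo.z := by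
    intro h hh
    have hhE : h ∈ E := by
      refine hCE (Subgroup.mem_centralizer_iff.2 fun g hg => ?_)
      have e1 := hθ h (σ (κ.symm ⟨g, hg⟩))
      rw [hh, MulAut.one_apply] at e1
      have hg' : ι (σ (κ.symm ⟨g, hg⟩)) = g := by
        show (κ (σ.symm (σ (κ.symm ⟨g, hg⟩))) : ↥(Subgroup.centralizer ({z} : Set G))) = g
        rw [MulEquiv.symm_apply_apply, κ.apply_symm_apply]
      rw [hg', mul_inv_eq_iff_eq_mul] at e1
      exact e1.symm
    set m := σ (κ.symm ⟨h, hhE⟩) with hm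
    have hιm : ι m = h := by
      show (κ (σ.symm (σ (κ.symm ⟨h, hhE⟩))) : ↥(Subgroup.centralizer ({z} : Set G))) = h
      rw [MulEquiv.symm_apply_apply, κ.apply_symm_apply]
    rcases ext2.center m (fun n => by
      have := DFunLike.congr_fun (((hθι m).symm.trans (congrArg θ hιm)).trans hh) n
      exact mul_inv_eq_iff_eq_mul.1 (by simpa using this)) with h1 | h1
    · left; rw [← hιm, h1, map_one]
    · right; rw [← hιm, h1]
  have lift : ∀ j (hj : j < 3), ∃ h : ↥(Subgroup.centralizer ({z} : Set G)), θ h = sAut j hj := by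
    intro j hj
    obtain ⟨h, hh⟩ := QuotientGroup.mk_surjective
      (e.symm (([Equiv.swap (0 : Fin 4) 1, Equiv.swap 1 2, Equiv.swap 2 3] : List _).getD j 1))
    have hpsi : psi (θ h) = psi (sAut j hj) := by
      rw [psi_sAut]
      show psi (σ * θ₀ h * σ⁻¹) = _
      rw [map_mul, map_mul, map_inv, hσ]
      have : psi (θ₀ h) = f (([Equiv.swap (0 : Fin 4) 1, Equiv.swap 1 2, Equiv.swap 2 3] : List _).getD j 1) := by
        simp only [f, MonoidHom.coe_comp, MulEquiv.coe_toMonoidHom, Function.comp_apply, ← hh]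
        rfl
      rw [this]
      interval_cases j
      exacts [hp0, hp1, hp2]
    obtain ⟨m, hm⟩ : (sAut j hj)⁻¹ * θ h ∈ (MulAut.conj : Mo →* MulAut Mo).range := by
      rw [← ker_psi, MonoidHom.mem_ker, map_mul, map_inv, hpsi, inv_mul_cancel]
    exact ⟨h * (ι m)⁻¹, by rw [map_mul, map_inv, hθι, hm, mul_inv_rev, inv_inv, mul_inv_cancel_left]⟩
  obtain ⟨a, ha⟩ := lift 0 (by norm_num)
  obtain ⟨b, hb⟩ := lift 1 (by norm_num)
  obtain ⟨c, hc⟩ := lift 2 (by norm_num)
  set k := ι Cfsg.Agent.Perm.MinusThirtyTwo.z with hk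
  have hkθ : θ k = 1 := by
    rw [hk, hθι]
    refine MulEquiv.ext fun n => ?_
    rw [MulAut.conj_apply, (ext2.central n).eq, mul_inv_cancel_right, MulAut.one_apply]
  have bitOf : ∀ h : ↥(Subgroup.centralizer ({z} : Set G)), θ h = 1 → ∃ i < 2, h = k ^ i := fun h hh => by
    rcases hone h hh with e1 | e1
    · exact ⟨0, by norm_num, by rw [e1, pow_zero]⟩
    · exact ⟨1, by norm_num, by rw [e1, pow_one]⟩
  obtain ⟨sq, r3⟩ := sImg_rels
  have ssq : ∀ j (hj : j < 3), sAut j hj * sAut j hj = 1 := fun j hj => MulEquiv.ext fun m => sq j hj m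
  have braid1 : ∀ a' b' : ↥(Subgroup.centralizer ({z} : Set G)), θ a' = sAut 0 (by norm_num) → θ b' = sAut 1 (by norm_num) →
      θ (a' * b' * a' * b' * a' * b') = 1 := by
    intro a' b' h0 h1
    refine MulEquiv.ext fun m => ?_
    simp only [map_mul, h0, h1, MulAut.mul_apply, MulAut.one_apply, sAut_apply]
    rw [(r3 _).1, sq 1 (by norm_num)]
  have braid2 : ∀ a' b' : ↥(Subgroup.centralizer ({z} : Set G)), θ a' = sAut 1 (by norm_num) → θ b' = sAut 2 (by norm_num) →
      θ (a' * b' * a' * b' * a' * b') = 1 := by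
    intro a' b' h0 h1
    refine MulEquiv.ext fun m => ?_
    simp only [map_mul, h0, h1, MulAut.mul_apply, MulAut.one_apply, sAut_apply]
    rw [(r3 _).2.1, sq 2 (by norm_num)]
  have hkc : ∀ (i : ℕ) (w : ↥(Subgroup.centralizer ({z} : Set G))), Commute (k ^ i) w := fun i w => Commute.pow_left (hzc' w) i
  have hkk : ∀ i : ℕ, k ^ i * k ^ i = 1 := fun i => by rw [← (Commute.refl k).mul_pow, hzz, one_pow]
  have sinv : ∀ j (hj : j < 3), (sAut j hj)⁻¹ = sAut j hj := fun j hj => inv_eq_of_mul_eq_one_right (ssq j hj)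
  have hsame : ∀ a' b' : ↥(Subgroup.centralizer ({z} : Set G)), θ a' = sAut 0 (by norm_num) → θ b' = sAut 1 (by norm_num) → b' * b' = a' * a' := by
    intro a' b' h0 h1
    set w := a' * b' * a' * b'⁻¹ * a'⁻¹ with hw
    have hθw : θ w = sAut 1 (by norm_num) := by
      simp only [hw, map_mul, map_inv, h0, h1, sinv]
      refine MulEquiv.ext fun m => ?_
      simp only [MulAut.mul_apply, sAut_apply]
      exact (r3 m).1
    obtain ⟨i, -, hi⟩ := bitOf (b' * w⁻¹) (by rw [map_mul, map_inv, hθw, h1, mul_inv_cancel])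
    obtain ⟨l, -, hl⟩ := bitOf (a' * a') (by rw [map_mul, h0, ssq])
    rw [mul_inv_eq_iff_eq_mul] at hi
    rw [hi, ((hkc i) w).symm.mul_mul_mul_comm, hkk i, one_mul, hw,
      show a' * b' * a' * b'⁻¹ * a'⁻¹ * (a' * b' * a' * b'⁻¹ * a'⁻¹) = a' * b' * (a' * a') * b'⁻¹ * a'⁻¹ by group,
      hl, mul_assoc (a' * b'), ((hkc l) b'⁻¹).eq, show a' * b' * (b'⁻¹ * k ^ l) * a'⁻¹ = a' * k ^ l * a'⁻¹ by group,
      ← ((hkc l) a').eq, mul_inv_cancel_right]
  obtain ⟨al, hal, ea⟩ := bitOf (a * a) (by rw [map_mul, ha, ssq])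
  obtain ⟨i1, -, e1⟩ := bitOf (a * b * a * b * a * b) (braid1 a b ha hb)
  have move : ∀ (x y : ↥(Subgroup.centralizer ({z} : Set G))) (i : ℕ), x * (y * k ^ i) * x * (y * k ^ i) * x * (y * k ^ i) =
      x * y * x * y * x * y * k ^ i := by
    intro x y i
    have e : ∀ w : ↥(Subgroup.centralizer ({z} : Set G)), k ^ i * w = w * k ^ i := fun w => (hkc i w).eq
    calc _ = x * y * (k ^ i * x) * y * (k ^ i * x) * y * k ^ i := by simp only [mul_assoc]
      _ = x * y * x * (k ^ i * y) * x * (k ^ i * y) * k ^ i := by rw [e x]; simp only [mul_assoc]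
      _ = x * y * x * y * (k ^ i * x) * y * (k ^ i * k ^ i) := by rw [e y]; simp only [mul_assoc]
      _ = x * y * x * y * x * (k ^ i * y) := by rw [hkk, mul_one, e x]; simp only [mul_assoc]
      _ = _ := by rw [e y]; simp only [mul_assoc]
  set b' := b * k ^ i1 with hb'
  have hb1 : θ b' = sAut 1 (by norm_num) := by rw [hb', map_mul, map_pow, hkθ, one_pow, mul_one, hb]
  have br1 : a * b' * a * b' * a * b' = 1 := by rw [hb', move, e1, hkk]
  obtain ⟨i2, -, e2⟩ := bitOf (b' * c * b' * c * b' * c) (braid2 b' c hb1 hc)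
  set c' := c * k ^ i2 with hc'
  have hc1 : θ c' = sAut 2 (by norm_num) := by rw [hc', map_mul, map_pow, hkθ, one_pow, mul_one, hc]
  have br2 : b' * c' * b' * c' * b' * c' = 1 := by rw [hc', move, e2, hkk]
  obtain ⟨ga, hga, eg⟩ := bitOf (a * c' * (a * c')) (by
    refine MulEquiv.ext fun m => ?_
    simp only [map_mul, ha, hc1, MulAut.mul_apply, MulAut.one_apply, sAut_apply]
    exact (r3 m).2.2)
  have sq1 : b' * b' = k ^ al := (hsame a b' ha hb1).trans ea
  have sq2 : c' * c' = k ^ al := by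
    have hθw : θ (b' * c' * b' * c'⁻¹ * b'⁻¹) = sAut 2 (by norm_num) := by
      simp only [map_mul, map_inv, hb1, hc1, sinv]
      refine MulEquiv.ext fun m => ?_
      simp only [MulAut.mul_apply, sAut_apply]
      exact (r3 m).2.1
    set w := b' * c' * b' * c'⁻¹ * b'⁻¹ with hw
    obtain ⟨i, -, hi⟩ := bitOf (c' * w⁻¹) (by rw [map_mul, map_inv, hθw, hc1, mul_inv_cancel])
    rw [mul_inv_eq_iff_eq_mul] at hi
    rw [hi, ((hkc i) w).symm.mul_mul_mul_comm, hkk i, one_mul, hw,
      show b' * c' * b' * c'⁻¹ * b'⁻¹ * (b' * c' * b' * c'⁻¹ * b'⁻¹) = b' * c' * (b' * b') * c'⁻¹ * b'⁻¹ by group,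
      sq1, mul_assoc (b' * c'), ((hkc al) c'⁻¹).eq,
      show b' * c' * (c'⁻¹ * k ^ al) * b'⁻¹ = b' * k ^ al * b'⁻¹ by group,
      ← ((hkc al) b').eq, mul_inv_cancel_right]
  set v := 2 * al + ga with hvdef
  have hv : v < 4 := by omega
  have hrv : ∀ k < 6, relVal v k = if k < 3 then al else if k = 5 then ga else 0 := by
    intro k hk6
    rw [hvdef]
    interval_cases al <;> interval_cases ga <;> interval_cases k <;> rfl
  let g : ℕ → ↥(Subgroup.centralizer ({z} : Set G)) := fun j => if j = 0 then a else if j = 1 then b' else c'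
  let L : Lifts θ ι v := ⟨g, fun j hj => by
    interval_cases j
    exacts [ha, hb1, hc1], fun i hi => by
    rw [hrv i hi]
    interval_cases i <;> simp [relW, g, ← mul_assoc] <;> simp only [mul_assoc] at *
    exacts [ea, sq1, sq2, br1, br2, eg]⟩
  refine ⟨v, ⟨⟨hv, fun x => ((ι (moOf (eOf x)) * L.R (sOf x) : ↥(Subgroup.centralizer ({z} : Set G))) : G), ?_, ?_, ?_, ?_, ?_⟩⟩⟩
  · intro x y hx hy
    obtain ⟨x1, x2, -⟩ := parts_lt x hx
    obtain ⟨y1, y2, -⟩ := parts_lt y hy
    obtain ⟨g1, -⟩ := act_ok _ x2 _ y1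
    obtain ⟨m1, m2⟩ := moOf_mul _ x1 _ g1
    have hf := (fbit_step v hv _ x2 _ y2).1
    obtain ⟨p1, p2, -, p4⟩ := code_parts _ m1 _ (pmul_lt _ x2 _ y2) _ hf
    rw [show mulc v x y = Nat.add (Nat.xor (emul (eOf x) (eact (sOf x) (eOf y)))
      (Nat.shiftLeft (fbit v (sOf x) (sOf y)) 4)) (Nat.shiftLeft (pmul (sOf x) (sOf y)) 5) by unfold mulc; rfl,
      ← Subgroup.coe_mul, p1, p2, p4]
    refine congrArg Subtype.val ?_
    rw [map_mul, map_pow, m2, map_mul, ← L.conj hθ x2 y1,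
      show ∀ (A B R S : ↥(Subgroup.centralizer ({z} : Set G))), A * R * (B * S) = A * (R * B * R⁻¹) * (R * S) from fun A B R S => by group,
      L.mul_R hv hzz hzc' _ _ x2 _ y2 rfl]
    simp only [mul_assoc]
  · intro x y hx hy hxy
    obtain ⟨x1, x2, x3⟩ := parts_lt x hx
    obtain ⟨y1, y2, y3⟩ := parts_lt y hy
    have hxy' : ι (moOf (eOf x)) * L.R (sOf x) = ι (moOf (eOf y)) * L.R (sOf y) := Subtype.ext hxy
    have hperm : ∀ (m : Mo) (s : ℕ), s < 24 → psi (θ (ι m * L.R s)) = wperm (words.getD s []) := by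
      intro m s hs
      rw [map_mul, map_mul, hθι, show psi (MulAut.conj m) = 1 from MonoidHom.mem_ker.1 (ker_psi ▸ ⟨m, rfl⟩),
        one_mul, Lifts.R, map_list_prod, map_list_prod, wperm, List.map_map, List.map_map]
      refine congrArg List.prod (List.map_congr_left fun j hj => ?_)
      have hj3 := (words_ok s hs).1 j hj
      show psi (θ (L.g j)) = _
      rw [L.aut j hj3, psi_sAut]
      rfl
    have hs : sOf x = sOf y := wperm_inj _ x2 _ y2 (by rw [← hperm (moOf (eOf x)) _ x2, hxy', hperm _ _ y2])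
    rw [hs, mul_left_inj] at hxy'
    rw [x3, y3, hs, moOf_inj _ x1 _ y1 (hι hxy')]
  · rw [show eOf 16 = 16 from rfl, show sOf 16 = 0 from rfl, moOf_special.2, ← hk, hιz,
      show L.R 0 = 1 by rw [Lifts.R, (words_ok 0 (by norm_num)).2.2.1 rfl]; rfl, mul_one]
  · intro x hx
    exact (Subgroup.mem_centralizer_singleton_iff.1 (ι (moOf (eOf x)) * L.R (sOf x)).2)
  · intro w hw
    have hcard : Nat.card ↥(Subgroup.centralizer ({z} : Set G)) = 768 := by
      rw [Subgroup.card_eq_card_quotient_mul_card_subgroup E, Nat.card_congr e.toEquiv, hE32, Nat.card_perm,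
        Nat.card_fin]
      rfl
    haveI := Fintype.ofFinite ↥(Subgroup.centralizer ({z} : Set G))
    let F : Fin 768 → ↥(Subgroup.centralizer ({z} : Set G)) := fun x => ι (moOf (eOf x)) * L.R (sOf x)
    have hF : Function.Bijective F := by
      rw [Fintype.bijective_iff_injective_and_card]
      refine ⟨fun x y hxy => ?_, by rw [Fintype.card_fin, ← Nat.card_eq_fintype_card, hcard]⟩
      obtain ⟨x1, x2, x3⟩ := parts_lt x x.2
      obtain ⟨y1, y2, y3⟩ := parts_lt y y.2
      have hxy' : ι (moOf (eOf x)) * L.R (sOf x) = ι (moOf (eOf y)) * L.R (sOf y) := hxy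
      have hperm : ∀ (m : Mo) (s : ℕ), s < 24 → psi (θ (ι m * L.R s)) = wperm (words.getD s []) := by
        intro m s hs
        rw [map_mul, map_mul, hθι, show psi (MulAut.conj m) = 1 from MonoidHom.mem_ker.1 (ker_psi ▸ ⟨m, rfl⟩),
          one_mul, Lifts.R, map_list_prod, map_list_prod, wperm, List.map_map, List.map_map]
        refine congrArg List.prod (List.map_congr_left fun j hj => ?_)
        show psi (θ (L.g j)) = _
        rw [L.aut j ((words_ok s hs).1 j hj), psi_sAut]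
        rfl
      have hs : sOf x = sOf y := wperm_inj _ x2 _ y2 (by rw [← hperm (moOf (eOf x)) _ x2, hxy', hperm _ _ y2])
      rw [hs, mul_left_inj] at hxy'
      exact Fin.ext (by rw [x3, y3, hs, moOf_inj _ x1 _ y1 (hι hxy')])
    obtain ⟨x, hx⟩ := hF.2 ⟨w, Subgroup.mem_centralizer_singleton_iff.2 hw.eq⟩
    exact ⟨x, x.2, congrArg Subtype.val hx⟩

end Cfsg.Agent.Spor.AutPSLFour
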