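import Cfsg.Agent.Lib.Spor.AutPSLFour.Facts

/-!
If the involution is not isolated then the centraliser is the split one and the involution is fused to the
central-mod-centre involution of the extraspecial group.
-/

set_option autoImplicit false
set_option linter.style.haveILetI false
set_option maxRecDepth 100000

namespace Cfsg.Agent.Spor.AutPSLFour

attribute [local irreducible] mulc

variable {G : Type*} [Group G] [Finite G] {z : G} {v : ℕ}

/-- elements moved by conjugation -/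
def moveEquiv (x a b c : G) :
    {g : G // Commute g a ∧ Commute g b ∧ g * g = c} ≃
      {g : G // Commute g (MulAut.conj x a) ∧ Commute g (MulAut.conj x b) ∧ g * g = MulAut.conj x c} :=
  (MulAut.conj x).toEquiv.subtypeEquiv fun g => by
    refine and_congr ?_ (and_congr ?_ ?_)
    · exact ⟨fun h => h.map (MulAut.conj x), fun h => (MulAut.conj x).injective
        (by rw [map_mul, map_mul]; exact h.eq)⟩
    · exact ⟨fun h => h.map (MulAut.conj x), fun h => (MulAut.conj x).injective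
        (by rw [map_mul, map_mul]; exact h.eq)⟩
    · show g * g = c ↔ MulAut.conj x g * MulAut.conj x g = MulAut.conj x c
      rw [← map_mul]
      exact (MulAut.conj x).injective.eq_iff.symm

theorem Fr.roots (F : Fr G z v) {u w : ℕ} (hu : u < 768) (hw : w < 768) :
    Nat.card {g : G // Commute g (F.el u) ∧ Commute g z ∧ g * g = F.el w} = rootSel v u w := by
  rw [F.card_eq (fun g => cm v g u && eqv (mulc v g g) w) _ fun g h => h.2.1]
  · rfl
  · intro a ha
    simp only [Bool.and_eq_true, eqv, Nat.beq_eq, F.comm_iff ha hu, F.sq_iff ha hw]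
    exact ⟨fun h => ⟨h.1, h.2.2⟩, fun h => ⟨h.1, F.el_comm ha, h.2⟩⟩

/-- a conjugate representative is paired with a representative -/
theorem Fr.pair (F : Fr G z v) {i : ℕ} (hi : i ∈ repsT.getD v []) (hi16 : i ≠ 16)
    (hc : IsConj (F.el i) z) :
    ∃ x : G, MulAut.conj x (F.el i) = z ∧ MulAut.conj x z = F.el i ∧
      ((v = 0 ∧ i = 15) ∨ ((v = 0 ∨ v = 2) ∧ i = 160)) := by
  obtain ⟨x₀, hx₀⟩ := isConj_iff.1 hc
  obtain ⟨hi1, hi2, -⟩ := F.rep_spec hi
  have hcomm : Commute (MulAut.conj x₀ z) z := by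
    have := (F.el_comm hi1).symm.map (MulAut.conj x₀)
    rwa [MulAut.conj_apply x₀ (F.el i), hx₀] at this
  obtain ⟨j, hj, c, hcz, hcy⟩ := F.exists_rep hcomm (by rw [← map_mul, F.z_sq, map_one])
    (fun e => F.z_ne_one ((MulAut.conj x₀).injective (e.trans (map_one _).symm)))
  obtain ⟨hj1, -, -⟩ := F.rep_spec hj
  set x := c⁻¹ * x₀ with hxdef
  have hcz' : MulAut.conj c⁻¹ z = z := by
    rw [MulAut.conj_apply, inv_inv, mul_assoc, ← hcz.eq, inv_mul_cancel_left]
  have hx1 : MulAut.conj x (F.el i) = z := by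
    rw [hxdef, map_mul, MulAut.mul_apply, show MulAut.conj x₀ (F.el i) = z from hx₀, hcz']
  have hx2 : MulAut.conj x z = F.el j := by
    rw [hxdef, map_mul, MulAut.mul_apply, ← hcy, MulAut.conj_apply, inv_inv]
    group
  have hj16 : j ≠ 16 := by
    rintro rfl
    rw [F.el_z] at hx2
    exact hi16 (F.el_inj hi1 (by norm_num) (((MulAut.conj x).injective (hx1.trans hx2.symm)).trans F.el_z.symm))
  obtain ⟨p, hp, rfl, q, hq, rfl, hcase⟩ := root_cases v F.v_lt i hi hi16 j hj hj16
  have swap : ∀ w : G, Nat.card {g : G // Commute g z ∧ Commute g (F.el q.1) ∧ g * g = w} =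
      Nat.card {g : G // Commute g (F.el q.1) ∧ Commute g z ∧ g * g = w} := fun w =>
    Nat.card_congr (Equiv.subtypeEquivRight fun g => ⟨fun h => ⟨h.2.1, h.1, h.2.2⟩, fun h => ⟨h.2.1, h.1, h.2.2⟩⟩)
  have e1 := Nat.card_congr (moveEquiv x (F.el p.1) z z)
  have e2 := Nat.card_congr (moveEquiv x (F.el p.1) z (F.el p.1))
  simp only [hx1, hx2, swap] at e1 e2
  have r16 : ∀ u : ℕ, u < 768 → Nat.card {g : G // Commute g (F.el u) ∧ Commute g z ∧ g * g = z} = rootSel v u 16 :=
    fun u hu => by rw [← F.roots hu (by norm_num : 16 < 768), F.el_z]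
  rw [r16 _ hi1, F.roots hj1 hj1, (root_tab v F.v_lt p hp).1, (root_tab v F.v_lt q hq).2] at e1
  rw [F.roots hi1 hi1, r16 _ hj1, (root_tab v F.v_lt p hp).2, (root_tab v F.v_lt q hq).1] at e2
  rcases hcase e1 e2 with ⟨h0, h1, h2⟩ | ⟨h0, h1, h2⟩
  · exact ⟨x, hx1, by rw [hx2, h2, h1], Or.inl ⟨h0, h1⟩⟩
  · exact ⟨x, hx1, by rw [hx2, h2, h1], Or.inr ⟨h0, h1⟩⟩

/-- membership in the two classes decides fusion, if only the last representative is fused -/
theorem Fr.dCls_iff (F : Fr G z v) (h160 : IsConj z (F.el 160))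
    (hno : ∀ r ∈ repsT.getD v [], IsConj z (F.el r) → r = 16 ∨ r = 160) {a : ℕ} (ha : a < 768) :
    IsConj z (F.el a) ↔ dCls v a = true := by
  obtain ⟨hd1, hd2⟩ := dCls_ok v F.v_lt
  simp only [List.all_eq_true, Bool.or_eq_true, Bool.not_eq_true', Bool.and_eq_true] at hd1 hd2
  have key : ∀ (ha2 : mulc v a a = 0) (ha0 : a ≠ 0), IsConj z (F.el a) ↔ dCls v a = true := by
    intro ha2 ha0
    obtain ⟨p, hp, hok, hr, c, -, hce⟩ := F.exists_hit ha ha2 ha0
    have hsplit := (hd1 a (List.mem_range.2 ha) p hp).resolve_left (by rw [hok]; simp)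
    have hiff : IsConj z (F.el a) ↔ IsConj z (F.el p.2.1) := by
      have h : IsConj (F.el p.2.1) (F.el a) := isConj_iff.2 ⟨c, hce⟩
      exact ⟨fun h' => h'.trans h.symm, fun h' => h'.trans h⟩
    rw [hiff]
    by_cases hp2 : p.2.1 = 16 ∨ p.2.1 = 160
    · have hb : (eqv p.2.1 16 || eqv p.2.1 160) = true := by rcases hp2 with h | h <;> simp [eqv, h]
      rw [hb, cond_true] at hsplit
      refine iff_of_true ?_ hsplit
      rcases hp2 with h | h <;> rw [h]
      · rw [F.el_z]
      · exact h160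
    · have hb : (eqv p.2.1 16 || eqv p.2.1 160) = false := by
        simpa [eqv, Bool.eq_false_iff, Nat.beq_eq] using hp2
      rw [hb, cond_false, Bool.not_eq_true'] at hsplit
      exact iff_of_false (fun h => hp2 (hno _ hr h)) (by rw [hsplit]; simp)
  constructor
  · intro h
    obtain ⟨g, hg⟩ := isConj_iff.1 h
    refine (key ?_ ?_).1 h
    · refine F.el_inj (F.mul_lt ha ha) (by norm_num) ?_
      rw [F.el_mul ha ha, F.el_zero, ← hg, show g * z * g⁻¹ * (g * z * g⁻¹) = g * (z * z) * g⁻¹ by group, F.z_sq]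
      group
    · rintro rfl
      rw [F.el_zero] at hg
      exact F.z_ne_one (conj_eq_one_iff.1 hg)
  · intro h
    have h2 := (hd2 a (List.mem_range.2 ha)).resolve_left (by rw [h]; simp)
    exact (key (Nat.eq_of_beq_eq_true h2.1) (fun e => by simp [eqv, e] at h2)).2 h

/-- the two counts differ -/
theorem Fr.not_only_last (F : Fr G z v) (hv : v = 0 ∨ v = 2) {x : G} (hx1 : MulAut.conj x (F.el 160) = z)
    (hx2 : MulAut.conj x z = F.el 160)
    (hno : ∀ r ∈ repsT.getD v [], IsConj z (F.el r) → r = 16 ∨ r = 160) : False := by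
  have h160 : IsConj z (F.el 160) := isConj_iff.2 ⟨x, hx2⟩
  have hD := fun {a : ℕ} (ha : a < 768) => F.dCls_iff h160 hno ha
  have cnt : ∀ w : ℕ, w < 768 → Nat.card {d : G // Commute d (F.el 160) ∧ Commute d z ∧ IsConj z d ∧
      IsConj z (F.el w * d)} = pairCount v 160 w := by
    intro w hw
    rw [F.card_eq (fun d => cm v d 160 && dCls v d && dCls v (mulc v w d)) _ fun g h => h.2.1]
    · rfl
    · intro a ha
      simp only [Bool.and_eq_true, ← hD ha, ← hD (F.mul_lt hw ha), F.el_mul hw ha,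
        ← F.comm_iff ha (by norm_num : 160 < 768)]
      exact ⟨fun h => ⟨⟨h.1, h.2.2.1⟩, h.2.2.2⟩, fun h => ⟨h.1.1, F.el_comm ha, h.1.2, h.2⟩⟩
  obtain ⟨c1, c2⟩ := pair_counts v F.v_lt hv
  have e : Nat.card {d : G // Commute d (F.el 160) ∧ Commute d z ∧ IsConj z d ∧ IsConj z (F.el 160 * d)} =
      Nat.card {d : G // Commute d (F.el 160) ∧ Commute d z ∧ IsConj z d ∧ IsConj z (F.el 16 * d)} := by
    refine Nat.card_congr ((MulAut.conj x).toEquiv.subtypeEquiv fun d => ?_)
    show _ ↔ Commute (MulAut.conj x d) _ ∧ Commute (MulAut.conj x d) _ ∧ IsConj z (MulAut.conj x d) ∧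
      IsConj z (_ * MulAut.conj x d)
    have hcl : ∀ y : G, IsConj z (MulAut.conj x y) ↔ IsConj z y := fun y => by
      have h : IsConj y (MulAut.conj x y) := isConj_iff.2 ⟨x, rfl⟩
      exact ⟨fun h' => h'.trans h.symm, fun h' => h'.trans h⟩
    have hcm : ∀ y : G, Commute (MulAut.conj x d) (MulAut.conj x y) ↔ Commute d y := fun y =>
      ⟨fun h => (MulAut.conj x).injective (by rw [map_mul, map_mul]; exact h.eq), fun h => h.map (MulAut.conj x)⟩
    have k1 : Commute (MulAut.conj x d) (F.el 160) ↔ Commute d z := by rw [← hx2]; exact hcm z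
    have k2 : Commute (MulAut.conj x d) z ↔ Commute d (F.el 160) := by
      have := hcm (F.el 160); rwa [hx1] at this
    have k3 : IsConj z (z * MulAut.conj x d) ↔ IsConj z (F.el 160 * d) := by
      have := hcl (F.el 160 * d); rwa [map_mul, hx1] at this
    rw [F.el_z, hcl, k1, k2, k3]
    exact ⟨fun h => ⟨h.2.1, h.1, h.2.2⟩, fun h => ⟨h.2.1, h.1, h.2.2⟩⟩
  rw [cnt 160 (by norm_num), cnt 16 (by norm_num), c1, c2] at e
  norm_num at e

/-- if the involution is not isolated -/
theorem Fr.fused (F : Fr G z v) (h : ∃ g : G, Commute z (g * z * g⁻¹) ∧ g * z * g⁻¹ ≠ z) :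
    v = 0 ∧ IsConj z (F.el 15) ∧
      ∀ r ∈ repsT.getD v [], IsConj z (F.el r) → r = 15 ∨ r = 16 ∨ r = 160 := by
  have hall : ∀ r ∈ repsT.getD v [], IsConj z (F.el r) →
      r = 16 ∨ (v = 0 ∧ r = 15) ∨ ((v = 0 ∨ v = 2) ∧ r = 160) := by
    intro r hr hc
    by_cases h16 : r = 16
    · exact Or.inl h16
    · obtain ⟨-, -, -, hx⟩ := F.pair hr h16 hc.symm
      exact Or.inr hx
  obtain ⟨g, hg, hne⟩ := h
  obtain ⟨r, hr, c, hcz, hce⟩ := F.exists_rep hg.symm
    (by rw [show g * z * g⁻¹ * (g * z * g⁻¹) = g * (z * z) * g⁻¹ by group, F.z_sq]; group)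
    (fun e => F.z_ne_one (conj_eq_one_iff.1 e))
  have hzr : IsConj z (F.el r) :=
    (isConj_iff.2 ⟨g, rfl⟩ : IsConj z (g * z * g⁻¹)).trans (isConj_iff.2 ⟨c, hce⟩ : IsConj (F.el r) _).symm
  have hr16 : r ≠ 16 := by
    rintro rfl
    rw [F.el_z] at hce
    exact hne (by rw [← hce, hcz.eq, mul_inv_cancel_right])
  obtain ⟨x, hx1, hx2, hcase⟩ := F.pair hr hr16 hzr.symm
  by_cases h15 : IsConj z (F.el 15)
  · have hv : v = 0 := by
      have h15r : 15 ∈ repsT.getD v [] := by
        have := F.v_lt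
        interval_cases v <;> simp [repsT]
      rcases hall 15 h15r h15 with h | ⟨h, -⟩ | ⟨-, h⟩
      · simp at h
      · exact h
      · simp at h
    refine ⟨hv, h15, fun r hr hc => ?_⟩
    rcases hall r hr hc with h | ⟨-, h⟩ | ⟨-, h⟩ <;> simp [h]
  · exfalso
    rcases hcase with ⟨-, rfl⟩ | ⟨hv, rfl⟩
    · exact h15 hzr
    · refine F.not_only_last hv hx1 hx2 fun s hs hc => ?_
      rcases hall s hs hc with h | ⟨-, rfl⟩ | ⟨-, h⟩
      exacts [Or.inl h, absurd hc h15, Or.inr h]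

end Cfsg.Agent.Spor.AutPSLFour
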