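import Cfsg.Agent.Lib.Small.PSLn.Out
import Cfsg.Agent.Lib.Small.PSLn.Simple
import Cfsg.Agent.Lib.Lead.GLBasic
import Cfsg.Agent.Lib.Classical.Dickson.Tools
import Cfsg.Agent.Lib.Small.TwentyOneSixty

/-!
The automorphism groups of the projective special and projective general linear groups over four elements.
-/

set_option autoImplicit false
set_option linter.style.haveILetI false

namespace Cfsg.Agent.Spor.AutPSLFour

open Matrix Cfsg.Agent.Small.PSLn
open scoped MatrixGroups commutatorElement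

/-- automorphisms of an almost simple group are those of its socle -/
theorem aut_of_inner {P : Type*} [Group P] [Finite P] (hc : ∀ a : P, (∀ b : P, a * b = b * a) → a = 1)
    (I : Subgroup (MulAut P)) [hI : I.Normal] (hd : ⁅I, I⁆ = (MulAut.conj : P →* MulAut P).range) :
    Function.Bijective (MulAut.conjNormal : MulAut P →* MulAut I) := by
  have hle : (MulAut.conj : P →* MulAut P).range ≤ I := hd ▸ (Subgroup.commutator_le_self I)
  have hinj : Function.Injective (MulAut.conj : P →* MulAut P) := by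
    intro a b e
    have h : ∀ c : P, (b⁻¹ * a) * c = c * (b⁻¹ * a) := fun c => by
      have h : a * c * a⁻¹ = b * c * b⁻¹ := DFunLike.congr_fun e c
      calc b⁻¹ * a * c = b⁻¹ * (a * c * a⁻¹) * a := by group
        _ = c * (b⁻¹ * a) := by rw [h]; group
    exact (inv_mul_eq_one.1 (hc _ h)).symm
  have key : ∀ (γ : MulAut P) (x : P), γ * MulAut.conj x * γ⁻¹ = MulAut.conj (γ x) := fun γ x => by
    ext y
    simp [MulAut.mul_apply, MulAut.conj_apply]
  have cent : ∀ α : MulAut P, (∀ x : P, α * MulAut.conj x * α⁻¹ = MulAut.conj x) → α = 1 := fun α h =>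
    MulEquiv.ext fun x => hinj ((key α x).symm.trans (h x))
  refine ⟨fun α α' e => ?_, fun β => ?_⟩
  · refine (inv_mul_eq_one.1 (cent (α⁻¹ * α') fun x => ?_))
    have h : α * MulAut.conj x * α⁻¹ = α' * MulAut.conj x * α'⁻¹ :=
      congrArg Subtype.val (DFunLike.congr_fun e (⟨MulAut.conj x, hle ⟨x, rfl⟩⟩ : I))
    rw [show α⁻¹ * α' * MulAut.conj x * (α⁻¹ * α')⁻¹ = α⁻¹ * (α' * MulAut.conj x * α'⁻¹) * α by group, ← h]
    group
  · have hpres : ∀ x : P, ∃ y : P, MulAut.conj y = (β ⟨MulAut.conj x, hle ⟨x, rfl⟩⟩ : MulAut P) := by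
      intro x
      have h1 : (MulAut.conj x) ∈ (commutator I).map I.subtype := by
        rw [Subgroup.map_subtype_commutator, hd]; exact ⟨x, rfl⟩
      obtain ⟨w, hw, hwe⟩ := h1
      have h2 : β w ∈ commutator I := by
        have hm : (commutator I).map (β : I →* I) ≤ commutator I := by
          rw [commutator_def, Subgroup.map_commutator]
          exact Subgroup.commutator_mono le_top le_top
        exact hm ⟨w, hw, rfl⟩
      have h3 : (β w : MulAut P) ∈ (MulAut.conj : P →* MulAut P).range := by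
        rw [← hd, ← Subgroup.map_subtype_commutator]; exact ⟨_, h2, rfl⟩
      rwa [show w = (⟨MulAut.conj x, hle ⟨x, rfl⟩⟩ : I) from Subtype.ext hwe] at h3
    choose f hf using hpres
    have hmul : ∀ a b, f (a * b) = f a * f b := fun a b => hinj (by
      rw [hf, show (⟨MulAut.conj (a * b), hle ⟨a * b, rfl⟩⟩ : I) =
          ⟨MulAut.conj a, hle ⟨a, rfl⟩⟩ * ⟨MulAut.conj b, hle ⟨b, rfl⟩⟩ from Subtype.ext (map_mul _ _ _),
        map_mul β, Subgroup.coe_mul, map_mul MulAut.conj, hf, hf])
    have hfinj : Function.Injective f := fun a b e => hinj (congrArg Subtype.val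
      (β.injective (Subtype.ext ((hf a).symm.trans ((congrArg MulAut.conj e).trans (hf b))))))
    set α : MulAut P := MulEquiv.ofBijective (MonoidHom.mk' f hmul) (Finite.injective_iff_bijective.1 hfinj) with hα
    have hα' : ∀ x : P, α * MulAut.conj x * α⁻¹ = (β ⟨MulAut.conj x, hle ⟨x, rfl⟩⟩ : MulAut P) := fun x => by
      rw [key, ← hf]; rfl
    refine ⟨α, MulEquiv.ext fun i => Subtype.ext ?_⟩
    rw [MulAut.conjNormal_apply]
    set b : MulAut P := (β i : MulAut P)
    have hb : ∀ x : P, b * (α * MulAut.conj x * α⁻¹) * b⁻¹ =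
        (α * i * α⁻¹) * (α * MulAut.conj x * α⁻¹) * (α * i * α⁻¹)⁻¹ := by
      intro x
      rw [show α * (i : MulAut P) * α⁻¹ * (α * MulAut.conj x * α⁻¹) * (α * i * α⁻¹)⁻¹ =
        α * ((i : MulAut P) * MulAut.conj x * (i : MulAut P)⁻¹) * α⁻¹ by group, key (i : MulAut P) x, hα', hα']
      have e : (i * ⟨MulAut.conj x, hle ⟨x, rfl⟩⟩ * i⁻¹ : I) = ⟨MulAut.conj ((i : MulAut P) x), hle ⟨_, rfl⟩⟩ :=
        Subtype.ext (key (i : MulAut P) x)
      rw [← e, map_mul, map_mul, map_inv]; rfl
    have h1 := cent ((α * i * α⁻¹)⁻¹ * b) fun y => by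
      obtain ⟨x, rfl⟩ := α.surjective y
      rw [← key α x, show (α * i * α⁻¹)⁻¹ * b * (α * MulAut.conj x * α⁻¹) * ((α * i * α⁻¹)⁻¹ * b)⁻¹ =
        (α * i * α⁻¹)⁻¹ * (b * (α * MulAut.conj x * α⁻¹) * b⁻¹) * (α * i * α⁻¹) by group, hb]
      group
    exact inv_mul_eq_one.1 h1

variable {K : Type*} [Field K] [Fintype K]

theorem card_sl3 (hK : Fintype.card K = 4) : Nat.card (Matrix.SpecialLinearGroup (Fin 3) K) = 60480 := by
  rw [← Lead.GLBasic.card_PSL, Small.TwentyOneSixty.card_psl (F := K) (n := 3) (c := 20160) (g := 3)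
    (by rw [hK]; rfl) (by rw [hK]; rfl) (by norm_num) (by omega), hK]
  rfl

theorem card_aut_le (hK : Fintype.card K = 4) :
    Nat.card (MulAut (Matrix.ProjectiveSpecialLinearGroup (Fin 3) K)) ≤ 241920 := by
  haveI : Fact (Nat.Prime 2) := ⟨Nat.prime_two⟩
  obtain ⟨Θ, -, hker⟩ := exists_theta (n := 3) (F := K) le_rfl
  rw [← Θ.ker.card_mul_index, Subgroup.index_ker, hker, card_conjP_range (by norm_num), Lead.GLBasic.card_PGL,
    card_sl3 hK]
  obtain ⟨e⟩ := fieldAut_equiv (F := K) (p := 2) (f := 2) (by rw [hK]; rfl)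
  haveI : Finite (K ≃+* K) := Finite.of_equiv _ e.toEquiv.symm
  have h : Nat.card ↥Θ.range ≤ 4 := by
    refine (Subgroup.card_le_card_group _).trans ?_
    rw [Nat.card_prod, Nat.card_congr e.toEquiv, Nat.card_congr Multiplicative.toAdd, Nat.card_zmod]
  calc 60480 * Nat.card ↥Θ.range ≤ 60480 * 4 := Nat.mul_le_mul_left _ h
    _ = _ := by norm_num

theorem aut_pgl (hK : Fintype.card K = 4) :
    Nonempty (MulAut (Matrix.ProjectiveSpecialLinearGroup (Fin 3) K) ≃*
      MulAut (GL (Fin 3) K ⧸ Subgroup.center (GL (Fin 3) K))) := by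
  haveI := psl_simple (n := 3) (F := K) le_rfl
  haveI : Finite (Matrix.ProjectiveSpecialLinearGroup (Fin 3) K) := Quotient.finite _
  have hna : ∃ a b : Matrix.ProjectiveSpecialLinearGroup (Fin 3) K, a * b ≠ b * a := by
    by_contra h
    simp only [not_exists, not_not] at h
    letI : CommGroup (Matrix.ProjectiveSpecialLinearGroup (Fin 3) K) := { (inferInstance : Group _) with mul_comm := h }
    have hp : (Nat.card (Matrix.ProjectiveSpecialLinearGroup (Fin 3) K)).Prime := IsSimpleGroup.prime_card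
    have hc := Lead.GLBasic.card_PSL (F := K) 3
    rw [card_sl3 hK, hK, show Nat.gcd 3 (4 - 1) = 3 from rfl] at hc
    rw [show Nat.card (Matrix.ProjectiveSpecialLinearGroup (Fin 3) K) = 20160 by omega] at hp
    norm_num at hp
  have hcenter : ∀ a : Matrix.ProjectiveSpecialLinearGroup (Fin 3) K, (∀ b, a * b = b * a) → a = 1 := by
    intro a ha
    rcases (inferInstance : (Subgroup.center (Matrix.ProjectiveSpecialLinearGroup (Fin 3) K)).Normal).eq_bot_or_eq_top with h | h
    · exact Subgroup.mem_bot.1 (h ▸ Subgroup.mem_center_iff.2 fun b => (ha b).symm)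
    · obtain ⟨x, y, hxy⟩ := hna
      exact absurd (Subgroup.mem_center_iff.1 (h ▸ Subgroup.mem_top y : y ∈ Subgroup.center _) x) hxy
  obtain ⟨Θ, -, hker⟩ := exists_theta (n := 3) (F := K) le_rfl
  haveI hN : (conjP (n := 3) (F := K)).range.Normal := hker ▸ Θ.normal_ker
  have hd : ⁅(conjP (n := 3) (F := K)).range, (conjP (n := 3) (F := K)).range⁆ =
      (MulAut.conj : _ →* MulAut (Matrix.ProjectiveSpecialLinearGroup (Fin 3) K)).range := by
    refine le_antisymm (Subgroup.commutator_le.2 ?_) ?_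
    · rintro _ ⟨g, rfl⟩ _ ⟨h, rfl⟩
      obtain ⟨A, hA⟩ := exists_sl_of_det (g := ⁅g, h⁆) (by
        rw [map_commutatorElement]; exact commutatorElement_eq_one_iff_mul_comm.2 (mul_comm _ _))
      exact ⟨pr A, by rw [← conjP_toGL, hA, map_commutatorElement]⟩
    · have hperf : commutator (Matrix.ProjectiveSpecialLinearGroup (Fin 3) K) = ⊤ := by
        refine (inferInstance : (commutator (Matrix.ProjectiveSpecialLinearGroup (Fin 3) K)).Normal).eq_bot_or_eq_top.resolve_left fun h => ?_
        obtain ⟨x, y, hxy⟩ := hna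
        refine hxy (commutatorElement_eq_one_iff_mul_comm.1 (Subgroup.mem_bot.1 (h ▸ ?_)))
        exact Subgroup.commutator_mem_commutator (Subgroup.mem_top x) (Subgroup.mem_top y)
      have hle : (MulAut.conj : _ →* MulAut (Matrix.ProjectiveSpecialLinearGroup (Fin 3) K)).range ≤
          (conjP (n := 3) (F := K)).range := by
        rintro _ ⟨x, rfl⟩
        obtain ⟨A, rfl⟩ := pr_surjective x
        exact ⟨_, conjP_toGL A⟩
      rw [MonoidHom.range_eq_map, ← hperf, commutator_def, Subgroup.map_commutator]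
      rw [← MonoidHom.range_eq_map]
      exact Subgroup.commutator_mono hle hle
  have hbij := aut_of_inner hcenter _ hd
  exact ⟨(MulEquiv.ofBijective _ hbij).trans (MulAut.congr
    ((QuotientGroup.quotientKerEquivRange (conjP (n := 3) (F := K))).symm.trans
      (QuotientGroup.quotientMulEquivOfEq (conjP_ker (by norm_num)))))⟩

/-- the general linear quotient over isomorphic fields -/
noncomputable def glQuotCongr {L : Type*} [Field L] (e : K ≃+* L) :
    (GL (Fin 3) K ⧸ Subgroup.center (GL (Fin 3) K)) ≃* (GL (Fin 3) L ⧸ Subgroup.center (GL (Fin 3) L)) :=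
  QuotientGroup.congr _ _ (Units.mapEquiv (RingEquiv.mapMatrix e).toMulEquiv)
    (Classical.Dickson.pslCongr.center_map _)

/-- the identification -/
theorem ident {G : Type*} [Group G] [Finite G] (hG : Nat.card G = 241920) (R : Subgroup G) [R.Normal]
    (hinj : Function.Injective (MulAut.conjNormal : G →* MulAut R)) {K : Type} [Field K] [Fintype K]
    (hK : Fintype.card K = 4) (e : R ≃* Matrix.ProjectiveSpecialLinearGroup (Fin 3) K)
    {L : Type*} [Field L] [Fintype L] (hL : Fintype.card L = 4) :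
    Nonempty (G ≃* MulAut (GL (Fin 3) L ⧸ Subgroup.center (GL (Fin 3) L))) := by
  haveI : Finite (Matrix.ProjectiveSpecialLinearGroup (Fin 3) K) := Quotient.finite _
  let f : G →* MulAut (Matrix.ProjectiveSpecialLinearGroup (Fin 3) K) :=
    (MulAut.congr e).toMonoidHom.comp MulAut.conjNormal
  have hf : Function.Injective f := (MulAut.congr e).injective.comp hinj
  have hb : Function.Bijective f := hf.bijective_of_nat_card_le (hG ▸ card_aut_le hK)
  obtain ⟨a⟩ := aut_pgl (K := K) hK
  exact ⟨(MulEquiv.ofBijective f hb).trans (a.trans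
    (MulAut.congr (glQuotCongr (FiniteField.ringEquivOfCardEq (hK.trans hL.symm)))))⟩

end Cfsg.Agent.Spor.AutPSLFour
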