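import Cfsg.Agent.Lib.Spor.AutPSLFour.Minimal

/-!
The transfer onto the group of order three.
-/

set_option autoImplicit false
set_option linter.style.haveILetI false
set_option maxRecDepth 100000

namespace Cfsg.Agent.Spor.AutPSLFour

attribute [local irreducible] mulc

variable {G : Type*} [Group G] [Finite G] {z : G} {F : Fr G z 0} {M : Subgroup G}

theorem odd_involutions {C : Type*} [Group C] [Finite C] (hev : 2 ∣ Nat.card C) :
    Odd (Nat.card {x : C // x * x = 1 ∧ x ≠ 1}) := by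
  classical
  haveI := Fintype.ofFinite C
  haveI : Fact (Nat.Prime 2) := ⟨Nat.prime_two⟩
  set f : Function.End C := fun c => c⁻¹ with hf
  have h2 : f ^ 2 ^ 1 = 1 := by
    rw [pow_one, pow_two]
    funext c
    exact inv_inv c
  have h := Equiv.Perm.card_fixedPoints_modEq h2
  have e : Fintype.card (Function.fixedPoints f) = Nat.card {x : C // x * x = 1 ∧ x ≠ 1} + 1 := by
    rw [← Nat.card_eq_fintype_card]
    show Nat.card ↥(Function.fixedPoints f) = Nat.card ↥{x : C | x * x = 1 ∧ x ≠ 1} + 1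
    rw [Nat.card_coe_set_eq, Nat.card_coe_set_eq]
    rw [show Function.fixedPoints f = insert 1 {x : C | x * x = 1 ∧ x ≠ 1} from ?_]
    · exact Set.ncard_insert_of_notMem (fun h => h.2 rfl) (Set.toFinite _)
    ext c
    simp only [Function.mem_fixedPoints, Set.mem_insert_iff, Set.mem_ofPred_eq, hf, Function.IsFixedPt]
    constructor
    · intro h
      by_cases hc : c = 1
      · exact Or.inl hc
      · exact Or.inr ⟨(congrArg (c * ·) h).symm.trans (mul_inv_cancel c), hc⟩
    · rintro (rfl | ⟨h, -⟩)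
      · exact inv_one
      · exact inv_eq_of_mul_eq_one_right h
  rw [e, ← Nat.card_eq_fintype_card] at h
  rw [Nat.odd_iff]
  unfold Nat.ModEq at h
  omega

namespace Big

theorem sub_odd (B : Big F M) {r : G} (hr : r ∈ Kern.coreA F) : r ∈ M := by
  haveI := B.normal
  obtain ⟨j, hj⟩ := Kern.coreA_odd F
  have h1 : r ^ (2 * j + 1) = 1 := by
    rw [← hj]
    exact congrArg Subtype.val (pow_card_eq_one' (x := (⟨r, hr⟩ : Kern.coreA F)))
  have h4 : r ^ 4 ∈ M := B.index4 ▸ M.pow_index_mem r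
  rw [← QuotientGroup.eq_one_iff]
  have a : (r : G ⧸ M) ^ (2 * j + 1) = 1 := by rw [← QuotientGroup.mk_pow, h1]; rfl
  have b : (r : G ⧸ M) ^ 4 = 1 := by rw [← QuotientGroup.mk_pow, QuotientGroup.eq_one_iff]; exact h4
  have hg : Nat.gcd (2 * j + 1) 4 = 1 := by
    have hc : Nat.Coprime (2 * j + 1) (2 ^ 2) := Nat.Coprime.pow_right 2 (Nat.coprime_two_right.2 ⟨j, rfl⟩)
    exact hc
  have := (pow_gcd_eq_one (a := (r : G ⧸ M)) (m := 2 * j + 1) (n := 4)).2 ⟨a, b⟩
  rwa [hg, pow_one] at this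

/-- the decomposition in the centraliser of the first involution -/
theorem comp (B : Big F M) {x : G} (hx : x ∈ M) (hxa : Commute x (F.el 1)) :
    ∃ r ∈ Kern.coreA F, ∃ a < 768, ev a = true ∧ cm 0 a 1 = true ∧ r * F.el a = x := by
  obtain ⟨hinv, -⟩ := Kern.coreA_inv F
  set u := x * z * x⁻¹ with hu
  have huD : IsConj z u := isConj_iff.2 ⟨x, rfl⟩
  have hua : Commute u (F.el 1) :=
    (hxa.mul_left (F.el_comm (by norm_num : 1 < 768)).symm).mul_left hxa.inv_left
  have ht := Kern.coreA_class B.toKern huD hua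
  obtain ⟨j, hj⟩ := Kern.coreA_odd F
  set r := (u * z) ^ (j + 1)
  have hr : r ∈ Kern.coreA F := pow_mem ht _
  have hrr : r * r = u * z := by
    rw [← pow_add, show j + 1 + (j + 1) = Nat.card (Kern.coreA F) + 1 by omega, pow_succ,
      show (u * z) ^ Nat.card (Kern.coreA F) = 1 from
        congrArg Subtype.val (pow_card_eq_one' (x := (⟨u * z, ht⟩ : Kern.coreA F))), one_mul]
  have hru : r * z * r⁻¹ = u := by
    have h : z * r⁻¹ = r * z := by
      have := hinv _ (inv_mem hr)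
      rw [inv_inv] at this
      calc z * r⁻¹ = z * r⁻¹ * z * z := by rw [mul_assoc (z * r⁻¹), F.z_sq, mul_one]
        _ = r * z := by rw [this]
    rw [mul_assoc, h, ← mul_assoc, hrr, mul_assoc, F.z_sq, mul_one]
  have hcz : Commute (r⁻¹ * x) z := by
    refine (mul_inv_eq_iff_eq_mul.1 ?_)
    rw [show r⁻¹ * x * z * (r⁻¹ * x)⁻¹ = r⁻¹ * (x * z * x⁻¹) * r by group, ← hu, ← hru]
    group
  obtain ⟨a, ha, hae⟩ := F.el_surj hcz
  refine ⟨r, hr, a, ha, (B.mem a ha).1 (hae ▸ mul_mem (inv_mem (B.sub_odd hr)) hx), ?_, by rw [hae, mul_inv_cancel_left]⟩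
  exact (F.comm_iff ha (by norm_num)).1 (hae ▸ (Kern.coreA_comm_el F hr).inv_left.mul_left hxa)

theorem comp_unique (_B : Big F M) {r r' : G} (hr : r ∈ Kern.coreA F) (hr' : r' ∈ Kern.coreA F) {a a' : ℕ}
    (ha : a < 768) (ha' : a' < 768) (h : r * F.el a = r' * F.el a') : r = r' ∧ a = a' := by
  have e : r'⁻¹ * r = F.el a' * (F.el a)⁻¹ := by rw [eq_mul_inv_iff_mul_eq, mul_assoc, h, inv_mul_cancel_left]
  have h1 := Kern.coreA_fixed F (mul_mem (inv_mem hr') hr)
    (by rw [e]; exact (F.el_comm ha').mul_left (F.el_comm ha).inv_left)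
  have hrr : r = r' := (inv_mul_eq_one.1 h1).symm
  subst hrr
  exact ⟨rfl, F.el_inj ha ha' (mul_left_cancel h)⟩

theorem lam_mul (_B : Big F M) {a b : ℕ} (ha : a < 768) (hb : b < 768) (ea : ev a = true) (eb : ev b = true) :
    lamOf (mulc 0 a b) = (lamOf a + lamOf b) % 3 := by
  simp only [ev, Bool.and_eq_true, eqv, Nat.beq_eq] at ea eb
  unfold lamOf
  rw [(F.mul_parts ha hb).1]
  exact lam_ok.1 _ (parts_lt a ha).2.1 _ (parts_lt b hb).2.1 ea.2 eb.2

/-- the kernel part of the centraliser of the first involution -/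
def centX (F : Fr G z 0) (M : Subgroup G) : Subgroup M :=
  (Subgroup.centralizer ({F.el 1} : Set G)).subgroupOf M

theorem exists_sign (B : Big F M) : ∃ ψ : centX F M →* Multiplicative (ZMod 3),
    ∀ (x : centX F M) (r : G), r ∈ Kern.coreA F → ∀ a < 768, r * F.el a = ((x : M) : G) →
      ψ x = Multiplicative.ofAdd (lamOf a : ZMod 3) := by
  have h : ∀ x : centX F M, ∃ r ∈ Kern.coreA F, ∃ a < 768, ev a = true ∧ cm 0 a 1 = true ∧
      r * F.el a = ((x : M) : G) :=
    fun x => B.comp x.1.2 (Subgroup.mem_centralizer_singleton_iff.1 x.2)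
  choose r hr a ha hev hcm he using h
  refine ⟨MonoidHom.mk' (fun x => Multiplicative.ofAdd (lamOf (a x) : ZMod 3)) (fun x y => ?_), fun x r' hr' a' ha' he' => ?_⟩
  · have hc := Kern.coreA_conj F (hr y) ((F.comm_iff (ha x) (by norm_num)).2 (hcm x))
    obtain ⟨-, e⟩ := B.comp_unique (hr (x * y)) (mul_mem (hr x) hc) (ha (x * y)) (F.mul_lt (ha x) (ha y)) (by
      rw [he, F.el_mul (ha x) (ha y), Subgroup.coe_mul, Subgroup.coe_mul, ← he x, ← he y]; group)
    rw [e, B.lam_mul (ha x) (ha y) (hev x) (hev y), ← ofAdd_add, ← Nat.cast_add, ZMod.natCast_mod]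
  · obtain ⟨-, e⟩ := B.comp_unique (hr x) hr' (ha x) ha' ((he x).trans he'.symm)
    show Multiplicative.ofAdd (lamOf (a x) : ZMod 3) = _
    rw [e]

/-- the element of order three -/
theorem three_el (B : Big F M) : F.el 256 ∈ M ∧ Commute (F.el 256) (F.el 1) ∧ F.el 256 ^ 3 = 1 := by
  obtain ⟨-, -, h1, h2, h3, -⟩ := lam_ok
  exact ⟨(B.mem 256 (by norm_num)).2 h1, (F.comm_iff (by norm_num) (by norm_num)).2 h2, by
    rw [← (Kern.el_pow F (by norm_num : 256 < 768) 3).2, h3, F.el_zero]⟩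

theorem class_commuting_odd (B : Big F M) :
    Odd (clsC z [F.el 256]).ncard := by
  obtain ⟨hxM, -, -⟩ := B.three_el
  set C : Subgroup M := Subgroup.centralizer ({(⟨F.el 256, hxM⟩ : M)} : Set M)
  have hzM := (B.toKern.cls_mem (IsConj.refl z)).1
  have hzC : (⟨z, hzM⟩ : M) ∈ C :=
    Subgroup.mem_centralizer_singleton_iff.2 (Subtype.ext (F.el_comm (by norm_num : 256 < 768)).symm.eq)
  have hev : 2 ∣ Nat.card C := by
    haveI : Fact (Nat.Prime 2) := ⟨Nat.prime_two⟩
    have h : orderOf (⟨⟨z, hzM⟩, hzC⟩ : C) = 2 :=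
      orderOf_eq_prime ((pow_two _).trans (Subtype.ext (Subtype.ext F.z_sq)))
        fun e => F.z_ne_one (congrArg (fun y : C => ((y : M) : G)) e)
    exact h ▸ orderOf_dvd_natCard _
  have h := odd_involutions hev
  rwa [show Nat.card {x : C // x * x = 1 ∧ x ≠ 1} = (clsC z [F.el 256]).ncard from ?_] at h
  rw [← Nat.card_coe_set_eq]
  refine Nat.card_eq_of_bijective (fun x => (⟨((x.1 : M) : G), ?_, ?_⟩ : ↥(clsC z [F.el 256]))) ⟨?_, ?_⟩
  · exact B.invol_mem x.1.1.2 (congrArg (fun y : C => ((y : M) : G)) x.2.1)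
      (fun e => x.2.2 (Subtype.ext (Subtype.ext e)))
  · intro g hg
    rw [List.mem_singleton.1 hg]
    exact congrArg Subtype.val (Subgroup.mem_centralizer_singleton_iff.1 x.1.2)
  · intro a b e
    have e' := congrArg Subtype.val e
    exact Subtype.ext (Subtype.ext (Subtype.ext e'))
  · rintro ⟨u, hu, huc⟩
    obtain ⟨huM, hu2, hu1⟩ := B.toKern.cls_mem hu
    exact ⟨⟨⟨⟨u, huM⟩, Subgroup.mem_centralizer_singleton_iff.2 (Subtype.ext (huc _ (List.mem_singleton_self _)).eq)⟩,
      Subtype.ext (Subtype.ext hu2), fun e => hu1 (congrArg (fun y : C => ((y : M) : G)) e)⟩, rfl⟩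

theorem no_inversion (B : Big F M) {h : G} (hh : h ∈ M) : h * F.el 256 * h⁻¹ ≠ (F.el 256)⁻¹ := by
  intro he
  obtain ⟨hxM, -, hx3⟩ := B.three_el
  set x := F.el 256 with hx
  obtain ⟨k, m, hm, hkm⟩ := Nat.exists_eq_two_pow_mul_odd (orderOf_pos h).ne'
  set t := h ^ m with ht
  have hpow : ∀ n : ℕ, (MulAut.conj h ^ (2 * n + 1)) x = x⁻¹ := by
    intro n
    induction n with
    | zero => rw [mul_zero, zero_add, pow_one, MulAut.conj_apply]; exact he
    | succ n ih =>
      rw [show 2 * (n + 1) + 1 = 2 + (2 * n + 1) by ring, pow_add, MulAut.mul_apply, ih, pow_two, MulAut.mul_apply,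
        map_inv, MulAut.conj_apply h x, he, inv_inv, MulAut.conj_apply, he]
  have htx : MulAut.conj t x = x⁻¹ := by
    obtain ⟨n, rfl⟩ := hm
    rw [ht, map_pow]; exact hpow n
  have ht2 : t ^ 2 ^ k = 1 := by rw [ht, ← pow_mul, mul_comm, ← hkm, pow_orderOf_eq_one]
  have htM : t ∈ M := pow_mem hh m
  classical
  haveI : Fact (Nat.Prime 2) := ⟨Nat.prime_two⟩
  haveI := Fintype.ofFinite ↥(clsC z [x])
  have hmem : ∀ y : G, ∀ u ∈ clsC z [x], (MulAut.conj y x = x ∨ MulAut.conj y x = x⁻¹) →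
      MulAut.conj y u ∈ clsC z [x] := by
    intro y u hu hy
    refine ⟨hu.1.trans (isConj_iff.2 ⟨y, rfl⟩), fun g hg => ?_⟩
    rw [List.mem_singleton.1 hg]
    have hc := (hu.2 x (List.mem_singleton_self x)).map (MulAut.conj y)
    rcases hy with hy | hy <;> rw [hy] at hc
    · exact hc
    · simpa using hc.inv_right
  have hti : MulAut.conj t⁻¹ x = x⁻¹ := by
    have h := congrArg (MulAut.conj t⁻¹) htx
    rw [← MulAut.mul_apply, ← map_mul, inv_mul_cancel, map_one, MulAut.one_apply, map_inv] at h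
    exact inv_injective (by rw [inv_inv]; exact h.symm)
  let σ : Equiv.Perm ↥(clsC z [x]) :=
    { toFun := fun u => ⟨MulAut.conj t u.1, hmem t u.1 u.2 (Or.inr htx)⟩
      invFun := fun u => ⟨MulAut.conj t⁻¹ u.1, hmem t⁻¹ u.1 u.2 (Or.inr hti)⟩
      left_inv := fun u => Subtype.ext (by simp [mul_assoc])
      right_inv := fun u => Subtype.ext (by simp [mul_assoc]) }
  have hσ : σ ^ 2 ^ k = 1 := by
    have key : ∀ (n : ℕ) (u : ↥(clsC z [x])), ((σ ^ n) u).1 = MulAut.conj (t ^ n) u.1 := by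
      intro n
      induction n with
      | zero => intro u; simp
      | succ n ih =>
        intro u
        rw [pow_succ, Equiv.Perm.mul_apply, ih, pow_succ, map_mul, MulAut.mul_apply]
        rfl
    ext u
    rw [key, ht2]; simp
  obtain ⟨⟨w, hw, hwc⟩, hfix⟩ := Equiv.Perm.exists_fixed_point_of_prime (p := 2) (n := k) (by
    rw [← Nat.card_eq_fintype_card, Nat.card_coe_set_eq]
    have hodd : Odd (clsC z [x]).ncard := B.class_commuting_odd
    exact fun h2 => Nat.not_even_iff_odd.2 hodd (even_iff_two_dvd.2 h2)) hσ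
  have htw : t * w * t⁻¹ = w := congrArg Subtype.val hfix
  obtain ⟨g, hg⟩ := isConj_iff.1 hw.symm
  have hin : ∀ y : G, Commute y w → Commute (g * y * g⁻¹) z := fun y hy => by
    have := hy.map (MulAut.conj g)
    rwa [MulAut.conj_apply, MulAut.conj_apply, hg] at this
  obtain ⟨b, hb, hbe⟩ := F.el_surj (hin x (hwc x (List.mem_singleton_self x)).symm)
  obtain ⟨c, hc, hce⟩ := F.el_surj (hin t (mul_inv_eq_iff_eq_mul.1 htw))
  have hbev : ev b = true := (B.mem b hb).1 (hbe ▸ B.normal.conj_mem x hxM g)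
  have hcev : ev c = true := (B.mem c hc).1 (hce ▸ B.normal.conj_mem t htM g)
  have hb3 : powc b 3 = 0 := by
    refine F.el_inj (Kern.el_pow F hb 3).1 (by norm_num) ?_
    rw [(Kern.el_pow F hb 3).2, hbe, conj_pow, hx3, F.el_zero]; group
  have hb0 : b ≠ 0 := fun e => by
    rw [e, F.el_zero] at hbe
    have := F.el_inj (a := 256) (b := 0) (by norm_num) (by norm_num) ((conj_eq_one_iff.1 hbe.symm).trans F.el_zero.symm)
    norm_num at this
  have hno := List.all_eq_true.1 no_invert b (List.mem_range.2 hb)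
  simp only [hbev, hb3, eqv, Nat.beq_refl, Bool.true_and, Bool.and_eq_true, Bool.or_eq_true, Bool.not_eq_true',
    List.all_eq_true, Bool.eq_false_iff, ne_eq, Nat.beq_eq, hb0, not_false_eq_true, not_true_eq_false, false_or] at hno
  refine (hno c (List.mem_range.2 hc)).resolve_left (not_not.2 hcev) (F.el_inj (F.mul_lt hc hb) (F.mul_lt (F.mul_lt hb hb) hc) ?_)
  rw [F.el_mul hc hb, F.el_mul (F.mul_lt hb hb) hc, F.el_mul hb hb, hbe, hce]
  have hx2 : x * x = x⁻¹ := eq_inv_of_mul_eq_one_left (by rw [← hx3, pow_succ, pow_two])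
  rw [MulAut.conj_apply] at htx
  calc g * t * g⁻¹ * (g * x * g⁻¹) = g * (t * x * t⁻¹) * g⁻¹ * (g * t * g⁻¹) := by group
    _ = _ := by rw [htx, ← hx2]; group

theorem sign_eq (B : Big F M) (ψ : centX F M →* Multiplicative (ZMod 3))
    (hψ : ∀ (x : centX F M) (r : G), r ∈ Kern.coreA F → ∀ a < 768, r * F.el a = ((x : M) : G) →
      ψ x = Multiplicative.ofAdd (lamOf a : ZMod 3))
    (y : centX F M) {g : G} (hg : g ∈ M) (hy : g * F.el 256 * g⁻¹ = ((y : M) : G)) :
    ψ y = Multiplicative.ofAdd (1 : ZMod 3) := by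
  classical
  haveI : Fact (Nat.Prime 2) := ⟨Nat.prime_two⟩
  obtain ⟨hxM, -, hx3⟩ := B.three_el
  obtain ⟨-, hlt, he256, -, -, hl256, -⟩ := lam_ok
  set Y := ((y : M) : G) with hY
  have hYa : Commute Y (F.el 1) := Subgroup.mem_centralizer_singleton_iff.1 y.2
  have hS : Odd (clsC z [Y]).ncard := by
    rw [show [Y] = [F.el 256].map (MulAut.conj g) by simp [hy], card_clsC_conj]
    exact B.class_commuting_odd
  haveI := Fintype.ofFinite ↥(clsC z [Y])
  set e := F.el 1 with he
  have he2 : e * e = 1 := by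
    rw [he, ← F.el_mul (by norm_num) (by norm_num), show mulc 0 1 1 = 0 by decide +kernel, F.el_zero]
  have hei : e⁻¹ = e := inv_eq_of_mul_eq_one_right he2
  have hmem : ∀ u ∈ clsC z [Y], MulAut.conj e u ∈ clsC z [Y] := fun u hu => by
    refine ⟨hu.1.trans (isConj_iff.2 ⟨e, rfl⟩), fun k hk => ?_⟩
    rw [List.mem_singleton.1 hk]
    have h := (hu.2 Y (List.mem_singleton_self Y)).map (MulAut.conj e)
    rwa [MulAut.conj_apply e Y, ← hYa.eq, mul_inv_cancel_right] at h
  have hinvol : ∀ u : G, MulAut.conj e (MulAut.conj e u) = u := fun u => by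
    rw [← MulAut.mul_apply, ← map_mul, he2, map_one, MulAut.one_apply]
  let σ : Equiv.Perm ↥(clsC z [Y]) :=
    { toFun := fun u => ⟨MulAut.conj e u.1, hmem u.1 u.2⟩
      invFun := fun u => ⟨MulAut.conj e u.1, hmem u.1 u.2⟩
      left_inv := fun u => Subtype.ext (hinvol u.1)
      right_inv := fun u => Subtype.ext (hinvol u.1) }
  obtain ⟨⟨w, hw, hwc⟩, hfix⟩ := Equiv.Perm.exists_fixed_point_of_prime (p := 2) (n := 1) (by
    rw [← Nat.card_eq_fintype_card, Nat.card_coe_set_eq]
    exact fun h2 => Nat.not_even_iff_odd.2 hS (even_iff_two_dvd.2 h2)) (σ := σ) (by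
    ext u
    rw [pow_one, pow_two, Equiv.Perm.mul_apply, Equiv.Perm.one_apply]
    exact hinvol u.1)
  have hwa : Commute w e := (mul_inv_eq_iff_eq_mul.1 (congrArg Subtype.val hfix : e * w * e⁻¹ = w)).symm
  have ht := Kern.coreA_class B.toKern hw hwa
  obtain ⟨hinv, hcomm⟩ := Kern.coreA_inv F
  obtain ⟨j, hj⟩ := Kern.coreA_odd F
  set r := (w * z) ^ (j + 1)
  have hr : r ∈ Kern.coreA F := pow_mem ht _
  have hrw : r * z * r⁻¹ = w := by
    have h : z * r⁻¹ = r * z := by
      have := hinv _ (inv_mem hr)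
      rw [inv_inv] at this
      calc z * r⁻¹ = z * r⁻¹ * z * z := by rw [mul_assoc (z * r⁻¹), F.z_sq, mul_one]
        _ = r * z := by rw [this]
    rw [mul_assoc, h, ← mul_assoc, ← pow_add, show j + 1 + (j + 1) = Nat.card (Kern.coreA F) + 1 by omega, pow_succ,
      show (w * z) ^ Nat.card (Kern.coreA F) = 1 from
        congrArg Subtype.val (pow_card_eq_one' (x := (⟨w * z, ht⟩ : Kern.coreA F))), one_mul, mul_assoc, F.z_sq, mul_one]
  have hrz : Commute (r⁻¹ * Y * r) z := by
    have h := (hwc Y (List.mem_singleton_self Y)).symm.map (MulAut.conj r⁻¹)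
    rw [MulAut.conj_apply, MulAut.conj_apply, inv_inv, ← hrw] at h
    rwa [show r⁻¹ * (r * z * r⁻¹) * r = z by group] at h
  obtain ⟨b, hb, hbe⟩ := F.el_surj hrz
  have hrM := B.sub_odd hr
  have hgy : r⁻¹ * g * F.el 256 * (r⁻¹ * g)⁻¹ = F.el b := by rw [hbe, ← hy]; group
  have hbev : ev b = true := (B.mem b hb).1 (hgy ▸ B.normal.conj_mem _ hxM _)
  have hb3 : powc b 3 = 0 := by
    refine F.el_inj (Kern.el_pow F hb 3).1 (by norm_num) ?_
    rw [(Kern.el_pow F hb 3).2, ← hgy, conj_pow, hx3, F.el_zero]; group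
  have hb0 : b ≠ 0 := fun h0 => by
    rw [h0, F.el_zero] at hgy
    have := F.el_inj (a := 256) (b := 0) (by norm_num) (by norm_num) ((conj_eq_one_iff.1 hgy).trans F.el_zero.symm)
    norm_num at this
  have hbe' : Commute (F.el b) e := by
    rw [hbe]
    exact ((Kern.coreA_comm_el F hr).inv_left.mul_left hYa).mul_left (Kern.coreA_comm_el F hr)
  have hb1 : cm 0 b 1 = true := (F.comm_iff hb (by norm_num)).1 hbe'
  -- the value at the point and at its conjugate agree
  have hval : ψ y = Multiplicative.ofAdd (lamOf b : ZMod 3) := by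
    have hc := Kern.coreA_conj F (inv_mem hr) hbe'
    refine hψ y _ (mul_mem hr hc) b hb ?_
    rw [← hY, show r * (F.el b * r⁻¹ * (F.el b)⁻¹) * F.el b = r * F.el b * r⁻¹ by group, hbe]
    group
  rw [hval]
  have h := List.all_eq_true.1 three_lam b (List.mem_range.2 hb)
  simp only [hbev, hb3, hb1, eqv, Nat.beq_refl, Bool.and_self, Bool.not_true, Bool.false_or, Bool.or_eq_true, Nat.beq_eq,
    hb0, false_or, List.any_eq_true, Bool.and_eq_true] at h
  obtain ⟨c, hc, hcev, h⟩ := h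
  have hc := List.mem_range.1 hc
  rcases h with h | h
  · have hl := congrArg lamOf h
    rw [B.lam_mul hc (by norm_num) hcev he256, B.lam_mul hb hc hbev hcev, hl256] at hl
    have hb' := List.all_eq_true.1 hlt b (List.mem_range.2 hb)
    rw [hbev, Bool.not_true, Bool.false_or, Nat.blt_eq] at hb'
    rw [show lamOf b = 1 by omega, Nat.cast_one]
  · exfalso
    have h22 : mulc 0 256 256 < 768 := F.mul_lt (by norm_num) (by norm_num)
    have hconj : F.el c * (F.el 256 * F.el 256) * (F.el c)⁻¹ = F.el b := by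
      rw [← F.el_mul (a := 256) (b := 256) (by norm_num) (by norm_num), ← F.el_mul hc h22, h, F.el_mul hb hc,
        mul_inv_cancel_right]
    refine B.no_inversion (h := (F.el c)⁻¹ * (r⁻¹ * g)) (mul_mem (inv_mem ((B.mem c hc).2 hcev))
      (mul_mem (inv_mem hrM) hg)) ?_
    rw [show (F.el c)⁻¹ * (r⁻¹ * g) * F.el 256 * ((F.el c)⁻¹ * (r⁻¹ * g))⁻¹ =
      (F.el c)⁻¹ * (r⁻¹ * g * F.el 256 * (r⁻¹ * g)⁻¹) * F.el c by group, hgy, ← hconj]
    rw [show (F.el c)⁻¹ * (F.el c * (F.el 256 * F.el 256) * (F.el c)⁻¹) * F.el c = F.el 256 * F.el 256 by group]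
    exact eq_inv_of_mul_eq_one_left (by rw [← hx3, pow_succ, pow_two])

theorem card_centX (B : Big F M) : Nat.card (centX F M) = 216 := by
  have h9 : (clsC z [F.el 1]).ncard = 9 := by
    have h := (B.toKern.equations (b := true) (iff_of_true rfl B.h160)).1
    rw [B.count] at h
    simp only [cond_true] at h
    nlinarith
  have h24 : (els.filter fun a => ev a && cm 0 a 1).length = 24 := by decide +kernel
  have hset : Nat.card {g : G // Commute g z ∧ g ∈ M ∧ Commute g (F.el 1)} = 24 := by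
    rw [← h24]
    refine F.card_eq _ _ (fun g hg => hg.1) fun a ha => ?_
    rw [Bool.and_eq_true, B.mem a ha, ← F.comm_iff ha (by norm_num : 1 < 768)]
    exact and_iff_right (F.el_comm ha)
  obtain ⟨hinv, -⟩ := Kern.coreA_inv F
  obtain ⟨j, hj⟩ := Kern.coreA_odd F
  have hrt : ∀ u ∈ clsC z [F.el 1], (u * z) ^ (j + 1) ∈ Kern.coreA F ∧
      (u * z) ^ (j + 1) * z * ((u * z) ^ (j + 1))⁻¹ = u := by
    rintro u ⟨hu, hua⟩
    have ht := Kern.coreA_class B.toKern hu (hua _ (List.mem_singleton_self _))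
    refine ⟨pow_mem ht _, ?_⟩
    set r := (u * z) ^ (j + 1)
    have h : z * r⁻¹ = r * z := by
      have := hinv _ (inv_mem (pow_mem ht (j + 1)))
      rw [inv_inv] at this
      calc z * r⁻¹ = z * r⁻¹ * z * z := by rw [mul_assoc (z * r⁻¹), F.z_sq, mul_one]
        _ = r * z := by rw [this]
    rw [mul_assoc, h, ← mul_assoc, ← pow_add, show j + 1 + (j + 1) = Nat.card (Kern.coreA F) + 1 by omega, pow_succ,
      show (u * z) ^ Nat.card (Kern.coreA F) = 1 from
        congrArg Subtype.val (pow_card_eq_one' (x := (⟨u * z, ht⟩ : Kern.coreA F))), one_mul, mul_assoc, F.z_sq, mul_one]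
  let f : ↥(clsC z [F.el 1]) × {g : G // Commute g z ∧ g ∈ M ∧ Commute g (F.el 1)} → centX F M := fun p =>
    ⟨⟨((p.1.1 * z) ^ (j + 1)) * p.2.1, mul_mem (B.sub_odd (hrt _ p.1.2).1) p.2.2.2.1⟩,
      Subgroup.mem_centralizer_singleton_iff.2 ((Kern.coreA_comm_el F (hrt _ p.1.2).1).mul_left p.2.2.2.2).eq⟩
  have hbij : Function.Bijective f := by
    refine ⟨?_, ?_⟩
    · rintro ⟨⟨u, hu⟩, ⟨c, hc⟩⟩ ⟨⟨u', hu'⟩, ⟨c', hc'⟩⟩ e
      have e' : (u * z) ^ (j + 1) * c = (u' * z) ^ (j + 1) * c' := congrArg (fun y : centX F M => ((y : M) : G)) e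
      obtain ⟨a, ha, rfl⟩ := F.el_surj hc.1
      obtain ⟨a', ha', rfl⟩ := F.el_surj hc'.1
      obtain ⟨e1, e2⟩ := B.comp_unique (hrt u hu).1 (hrt u' hu').1 ha ha' e'
      have : u = u' := by rw [← (hrt u hu).2, e1, (hrt u' hu').2]
      subst this; subst e2; rfl
    · rintro ⟨⟨x, hx⟩, hxa⟩
      obtain ⟨r, hr, a, ha, hev, hcm, rfl⟩ := B.comp hx (Subgroup.mem_centralizer_singleton_iff.1 hxa)
      have hu : r * z * r⁻¹ ∈ clsC z [F.el 1] := ⟨isConj_iff.2 ⟨r, rfl⟩, fun g hg => by
        rw [List.mem_singleton.1 hg]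
        exact ((Kern.coreA_comm_el F hr).mul_left (F.el_comm (by norm_num : 1 < 768)).symm).mul_left
          (Kern.coreA_comm_el F hr).inv_left⟩
      refine ⟨⟨⟨_, hu⟩, ⟨F.el a, F.el_comm ha, (B.mem a ha).2 hev, (F.comm_iff ha (by norm_num)).2 hcm⟩⟩,
        Subtype.ext (Subtype.ext ?_)⟩
      show (r * z * r⁻¹ * z) ^ (j + 1) * F.el a = r * F.el a
      congr 1
      have h := hinv _ (inv_mem hr)
      rw [inv_inv] at h
      rw [show r * z * r⁻¹ * z = r * (z * r⁻¹ * z) by simp only [mul_assoc], h, ← pow_two, ← pow_mul,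
        show 2 * (j + 1) = Nat.card (Kern.coreA F) + 1 by omega, pow_succ,
        show r ^ Nat.card (Kern.coreA F) = 1 from
          congrArg Subtype.val (pow_card_eq_one' (x := (⟨r, hr⟩ : Kern.coreA F))), one_mul]
  rw [← Nat.card_eq_of_bijective f hbij, Nat.card_prod, Nat.card_coe_set_eq, h9, hset]

/-- the transfer separates the element of order three from the class -/
theorem exists_three (B : Big F M) : ∃ V : M →* Multiplicative (ZMod 3),
    (∀ u : M, IsConj z (u : G) → V u = 1) ∧ V ⟨F.el 256, B.three_el.1⟩ ≠ 1 := by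
  classical
  obtain ⟨hxM, hxa, hx3⟩ := B.three_el
  obtain ⟨ψ, hψ⟩ := B.exists_sign
  haveI : (centX F M).FiniteIndex := Subgroup.finiteIndex_of_finite
  refine ⟨ψ.transfer, fun u hu => ?_, ?_⟩
  · have h2 : ψ.transfer u * ψ.transfer u = 1 := by
      rw [← map_mul, show u * u = 1 from Subtype.ext (B.toKern.cls_mem hu).2.1, map_one]
    revert h2
    generalize ψ.transfer u = t
    revert t
    decide
  · set x : M := ⟨F.el 256, hxM⟩
    haveI := Fintype.ofFinite (Quotient (MulAction.orbitRel (Subgroup.zpowers x) (M ⧸ centX F M)))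
    haveI := Fintype.ofFinite (M ⧸ centX F M)
    rw [MonoidHom.transfer_eq_prod_quotient_orbitRel_zpowers_quot]
    have hterm : ∀ q : Quotient (MulAction.orbitRel (Subgroup.zpowers x) (M ⧸ centX F M)),
        ψ ⟨q.out.out⁻¹ * x ^ Function.minimalPeriod (x • ·) q.out * q.out.out,
          QuotientGroup.out_conj_pow_minimalPeriod_mem (centX F M) x q.out⟩ =
        (Multiplicative.ofAdd (1 : ZMod 3)) ^ Function.minimalPeriod (x • ·) q.out := by
      intro q
      have hx3' : x ^ 3 = 1 := Subtype.ext (by rw [Subgroup.coe_pow]; exact hx3)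
      have hdvd : Function.minimalPeriod (x • ·) q.out ∣ 3 := by
        refine Function.IsPeriodicPt.minimalPeriod_dvd ?_
        show ((x • ·)^[3]) q.out = q.out
        rw [smul_iterate]
        show x ^ 3 • q.out = q.out
        rw [hx3', one_smul]
      have gen : ∀ (p : ℕ) (hp : q.out.out⁻¹ * x ^ p * q.out.out ∈ centX F M), (p = 1 ∨ p = 3) →
          ψ ⟨_, hp⟩ = Multiplicative.ofAdd (1 : ZMod 3) ^ p := by
        rintro p hp (rfl | rfl)
        · conv_rhs => rw [pow_one]
          refine B.sign_eq ψ hψ _ (inv_mem q.out.out.2) ?_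
          simp only [Subgroup.coe_mul, Subgroup.coe_inv, pow_one]
          rw [inv_inv]
        · have he : (⟨_, hp⟩ : centX F M) = 1 := Subtype.ext (by
            show q.out.out⁻¹ * x ^ 3 * q.out.out = 1
            rw [hx3', mul_one, inv_mul_cancel])
          rw [he, map_one]
          decide
      exact gen _ _ ((Nat.dvd_prime Nat.prime_three).1 hdvd)
    rw [Finset.prod_congr rfl fun q _ => hterm q, Finset.prod_pow_eq_pow_sum,
      ← Subgroup.index_eq_sum_minimalPeriod (centX F M) x]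
    have h := (centX F M).card_mul_index
    rw [B.card_centX, B.card_M] at h
    rw [show (centX F M).index = 280 by omega]
    decide

/-- the smallest normal subgroup does not contain the element of order three -/
theorem three_notMem (B : Big F M) {R : Subgroup G} (hR : R = Subgroup.normalClosure {z}) : F.el 256 ∉ R := by
  obtain ⟨V, hV, hx⟩ := B.exists_three
  intro h
  have hle : R ≤ V.ker.map M.subtype := by
    rw [hR]
    refine (Subgroup.closure_le _).2 fun u hu => ?_
    simp only [Group.conjugatesOfSet, Set.mem_iUnion, Set.mem_singleton_iff] at hu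
    obtain ⟨a, rfl, hu⟩ := hu
    exact ⟨⟨u, (B.toKern.cls_mem (show IsConj a u from hu)).1⟩, hV _ hu, rfl⟩
  obtain ⟨y, hy, hye⟩ := hle h
  refine hx ?_
  rw [show (⟨F.el 256, B.three_el.1⟩ : M) = y from Subtype.ext hye.symm]
  exact hy

end Big

end Cfsg.Agent.Spor.AutPSLFour
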