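import Cfsg.Agent.Lib.Spor.AutPSLFour.CountCheck

/-!
Checks on the two-subgroup of order 64 and on the sign of order three.
-/

set_option autoImplicit false
set_option maxRecDepth 100000

namespace Cfsg.Agent.Spor.AutPSLFour

/-- the two-subgroup generated by the class in the centraliser -/
def inU (x : ℕ) : Bool := ev x && inL [0, 5, 18, 23] (sOf x)

/-- the members of the class in the centraliser -/
def dList : List ℕ := els.filter fun x => ev x && sqOne x

/-- the homomorphism of even permutations onto the group of order three -/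
def lamOf (x : ℕ) : ℕ := Nat.land (Nat.shiftRight 0x4a4001a100 (Nat.mul 2 (sOf x))) 3

theorem u_ok : inU 0 = true ∧ (els.filter inU).length = 64 ∧
    (els.all fun x => !(ev x && sqOne x) || inU x) = true ∧
    (els.all fun x => !(inU x && sqOne x && (dList.all (cm 0 x))) || inL [15, 16, 31] x) = true ∧
    (els.all fun x => !(inU x) || eqv x 0 || inL dList x ||
      dList.any fun a => dList.any fun b => eqv (mulc 0 a b) x) = true ∧
    (∀ x ∈ ([15, 16, 31] : List ℕ), dList.all (cm 0 x) = true) ∧
    (∀ s < 24, ∀ t < 24, inL [0, 5, 18, 23] s = true → inL [0, 5, 18, 23] t = true →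
      inL [0, 5, 18, 23] (pmul s t) = true) := by decide +kernel

theorem three_rows : (els.all fun x => !(dList.all (cm 0 x)) || inL [0, 15, 16, 31] x) = true ∧
    (∀ p ∈ conjT.getD 0 [], p.1 = 160 → p.2.1 = 160) ∧
    (els.all fun x => !(ev x && sqOne x) || inL [15, 16, 31] x || hasRep x 160) = true := by decide +kernel

theorem lam_ok : (∀ s < 24, ∀ t < 24, Nat.land (Nat.shiftRight 0x707e0e s) 1 = 0 →
      Nat.land (Nat.shiftRight 0x707e0e t) 1 = 0 →
      Nat.land (Nat.shiftRight 0x4a4001a100 (Nat.mul 2 (pmul s t))) 3 =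
        (Nat.land (Nat.shiftRight 0x4a4001a100 (Nat.mul 2 s)) 3 + Nat.land (Nat.shiftRight 0x4a4001a100 (Nat.mul 2 t)) 3) % 3) ∧
    (els.all fun x => !(ev x) || Nat.blt (lamOf x) 3) = true ∧
    ev 256 = true ∧ cm 0 256 1 = true ∧ powc 256 3 = 0 ∧ lamOf 256 = 1 ∧
    (els.all fun x => !(ev x && inU x) || eqv (lamOf x) 0) = true ∧
    (els.all fun x => !(ev x && eqv (lamOf x) 0) || inU x) = true := by decide +kernel

theorem no_invert : (els.all fun y => !(ev y && eqv (powc y 3) 0 && !(eqv y 0)) ||
    els.all fun h => !(ev h) || !(eqv (mulc 0 h y) (mulc 0 (mulc 0 y y) h))) = true := by decide +kernel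

theorem three_lam : (els.all fun y => !(ev y && eqv (powc y 3) 0 && cm 0 y 1) || eqv y 0 ||
    els.any fun h => ev h && (eqv (mulc 0 h 256) (mulc 0 y h) || eqv (mulc 0 h (mulc 0 256 256)) (mulc 0 y h))) = true := by
  decide +kernel

end Cfsg.Agent.Spor.AutPSLFour
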