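import Cfsg.Agent.Lib.Spor.AutPSLFour.Classes
import Cfsg.Agent.S0111

/-!
The normal subgroup of index four, by three transfers.
-/

set_option autoImplicit false
set_option linter.style.haveILetI false
set_option maxRecDepth 100000

namespace Cfsg.Agent.Spor.AutPSLFour

attribute [local irreducible] mulc

variable {G : Type*} [Group G] {z : G}

theorem Fr.mul_parts (F : Fr G z 0) {a b : ℕ} (ha : a < 768) (hb : b < 768) :
    sOf (mulc 0 a b) = pmul (sOf a) (sOf b) ∧ wtOf (mulc 0 a b) = Nat.xor (wtOf a) (wtOf b) := by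
  obtain ⟨a1, a2, -⟩ := parts_lt a ha
  obtain ⟨b1, b2, -⟩ := parts_lt b hb
  have e1 := (act_ok _ a2 _ b1).1
  have e2 := (moOf_mul _ a1 _ e1).1
  have hf := (fbit_step 0 (by norm_num) _ a2 _ b2).1
  have h := code_parts _ e2 _ (pmul_lt _ a2 _ b2) _ hf
  have hmul : mulc 0 a b = Nat.add (Nat.xor (emul (eOf a) (eact (sOf a) (eOf b)))
      (Nat.shiftLeft (fbit 0 (sOf a) (sOf b)) 4)) (Nat.shiftLeft (pmul (sOf a) (sOf b)) 5) := by unfold mulc; rfl
  rw [← hmul] at h
  obtain ⟨w1, w2, w3⟩ := wt_ok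
  refine ⟨h.2.1, ?_⟩
  rw [(wt_eOf _ (F.mul_lt ha hb)).1, h.1, w3 _ e2 _ hf, w1 _ a1 _ e1, w2 _ a2 _ b1, ← (wt_eOf a ha).1, ← (wt_eOf b hb).1]

theorem Fr.sg_mul (F : Fr G z 0) {a b : ℕ} (ha : a < 768) (hb : b < 768) :
    sgOf (mulc 0 a b) = Nat.xor (sgOf a) (sgOf b) := by
  rw [sgOf, (F.mul_parts ha hb).1]
  exact (sg_ok _ (parts_lt a ha).2.1 _ (parts_lt b hb).2.1).1

theorem Fr.inT_mul (F : Fr G z 0) {a b : ℕ} (ha : a < 768) (hb : b < 768) (pa : inT a = true) (pb : inT b = true) :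
    inT (mulc 0 a b) = true := by
  rw [inT, (F.mul_parts ha hb).1]
  exact (sg_ok _ (parts_lt a ha).2.1 _ (parts_lt b hb).2.1).2 ⟨pa, pb⟩

theorem relIndex_card {H K : Subgroup G} (h : H ≤ K) : H.relIndex K * Nat.card H = Nat.card K := by
  rw [mul_comm, ← Nat.card_congr (Subgroup.subgroupOfEquivOfLe h).toEquiv]
  exact (H.subgroupOf K).card_mul_index

variable [Finite G]

/-- the Sylow two-subgroup -/
def Fr.sylG (F : Fr G z 0) : Subgroup G :=
  F.sub inT sylT_ok.1 fun _ ha _ hb => F.inT_mul ha hb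

theorem Fr.card_sylG (F : Fr G z 0) : Nat.card F.sylG = 2 ^ 8 := F.card_sub.trans sylT_ok.2.2.1

theorem Fr.sylG_full (F : Fr G z 0) (Q : Subgroup G) (hQ : IsPGroup 2 Q) :
    ∃ k : G, ∀ q ∈ Q, k * q * k⁻¹ ∈ F.sylG := by
  refine full_of_central (K := ⊤) 8 F.card_sylG le_top (fun g hg => F.sub_comm hg) ⟨16, by norm_num, sylT_ok.2.1, F.el_z⟩
    F.z_sq ⟨3, by decide, ?_⟩ ?_ Q le_top hQ
  · rw [F.card_eq (fun _ => true) _ (fun g hg => hg.2) fun a ha => by simp [F.el_comm ha]]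
    exact sylT_ok.2.2.2.2.2.2.2.2.2.2.2
  · rintro _ ⟨a, ha, pa, rfl⟩ ha2 hac hconj
    rw [← F.el_zero, F.sq_iff ha (by norm_num)] at ha2
    have h := List.all_eq_true.1 sylT_ok.2.2.2.1 a (List.mem_range.2 ha)
    simp only [Bool.or_eq_true, Bool.not_eq_true', Bool.and_eq_false_iff, List.any_eq_true, eqv, ha2, Nat.beq_refl, pa,
      Bool.true_eq_false, or_false, false_or] at h
    rcases h with (h | h) | ⟨b, hb, h⟩
    · rw [Nat.eq_of_beq_eq_true h, F.el_zero, isConj_one_left] at hconj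
      exact absurd hconj F.z_ne_one
    · rw [Nat.eq_of_beq_eq_true h, F.el_z]
    · simp only [Bool.and_eq_true, Bool.not_eq_true'] at h
      have hb := List.mem_range.1 hb
      rw [(F.comm_iff ha hb).1 (hac _ ⟨b, hb, h.1, rfl⟩)] at h
      exact Bool.noConfusion h.2

/-- the Sylow two-subgroup as such -/
def Fr.sylow (F : Fr G z 0) : Sylow 2 G where
  toSubgroup := F.sylG
  isPGroup' := by
    haveI : Fact (Nat.Prime 2) := ⟨Nat.prime_two⟩
    exact IsPGroup.of_card F.card_sylG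
  is_maximal' := by
    intro Q hQ hle
    obtain ⟨k, hk⟩ := F.sylG_full Q hQ
    refine (Subgroup.eq_of_le_of_card_ge hle ?_).symm
    exact Nat.card_le_card_of_injective (fun q : Q => (⟨MulAut.conj k q, hk q q.2⟩ : F.sylG))
      fun a b e => Subtype.ext ((MulAut.conj k).injective (congrArg Subtype.val e))

/-- an index-two normal subgroup avoiding a representative -/
theorem Fr.transfer (F : Fr G z 0) (χ : ℕ → ℕ) (u : ℕ) (hu : u < 768)
    (hm : ∀ {a b : ℕ}, a < 768 → b < 768 → χ (mulc 0 a b) = Nat.xor (χ a) (χ b))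
    (h0 : χ 0 = 0) (hhalf : (els.filter fun x => inT x && eqv (χ x) 0).length = 128)
    (huT : inT u = true) (hu1 : χ u = 1) (hu2 : mulc 0 u u = 0)
    (hno : ∀ r ∈ repsT.getD 0 [], χ r = 0 → ¬ IsConj (F.el u) (F.el r)) :
    ∃ M : Subgroup G, M.Normal ∧ M.index = 2 ∧ F.el u ∉ M := by
  have hQm : ∀ a < 768, ∀ b < 768, (inT a && eqv (χ a) 0) = true → (inT b && eqv (χ b) 0) = true →
      (inT (mulc 0 a b) && eqv (χ (mulc 0 a b)) 0) = true := by
    intro a ha b hb pa pb
    simp only [Bool.and_eq_true, eqv, Nat.beq_eq] at pa pb ⊢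
    exact ⟨F.inT_mul ha hb pa.1 pb.1, by rw [hm ha hb, pa.2, pb.2]; rfl⟩
  have h00 : (inT 0 && eqv (χ 0) 0) = true := by simp [sylT_ok.1, h0, eqv]
  set Q := F.sub (fun x => inT x && eqv (χ x) 0) h00 hQm with hQ
  have hle : Q ≤ F.sylG := by
    rintro _ ⟨a, ha, pa, rfl⟩
    simp only [Bool.and_eq_true] at pa
    exact ⟨a, ha, pa.1, rfl⟩
  have hrel : Q.relIndex (F.sylow : Subgroup G) = 2 := by
    show Q.relIndex F.sylG = 2
    have h := relIndex_card hle
    rw [F.card_sylG, F.card_sub, hhalf] at h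
    omega
  have huQ : F.el u ∉ Q := by
    rw [hQ, F.mem_sub hu]
    simp [eqv, hu1]
  have huo : orderOf (F.el u) = 2 := by
    haveI : Fact (Nat.Prime 2) := ⟨Nat.prime_two⟩
    refine orderOf_eq_prime (by rw [pow_two, ← F.el_mul hu hu, hu2, F.el_zero]) fun e => ?_
    rw [← F.el_zero] at e
    rw [F.el_inj hu (by norm_num) e, h0] at hu1
    simp at hu1
  refine (Cfsg.Agent.S0111.result F.sylow Q hle hrel (F.el u) huo ⟨u, hu, huT, rfl⟩ huQ).resolve_right ?_
  rintro ⟨g, a, ha, pa, hga⟩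
  simp only [Bool.and_eq_true, eqv, Nat.beq_eq] at pa
  have hconj : IsConj (F.el u) (F.el a) := isConj_iff.2 ⟨g, hga.symm⟩
  have ha2 : mulc 0 a a = 0 := by
    rw [← F.sq_iff ha (by norm_num), hga, F.el_zero,
      show g * F.el u * g⁻¹ * (g * F.el u * g⁻¹) = g * (F.el u * F.el u) * g⁻¹ by group,
      ← F.el_mul hu hu, hu2, F.el_zero]
    group
  have ha0 : a ≠ 0 := by
    rintro rfl
    rw [F.el_zero, isConj_one_left] at hconj
    rw [← orderOf_eq_one_iff, huo] at hconj
    norm_num at hconj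
  obtain ⟨p, -, hok, hr, c, hc, hce⟩ := F.exists_hit ha ha2 ha0
  have hrl := (F.rep_spec hr).1
  refine hno _ hr ?_ (hconj.trans (IsConj.symm (isConj_iff.2 ⟨c, hce⟩)))
  obtain ⟨d, hd, rfl⟩ := F.el_surj hc
  have he : mulc 0 d p.2.1 = mulc 0 a d := F.el_inj (F.mul_lt hd hrl) (F.mul_lt ha hd) (by
    rw [F.el_mul hd hrl, F.el_mul ha hd, ← hce, inv_mul_cancel_right])
  have hx := congrArg χ he
  rw [hm hd hrl, hm ha hd, pa.2] at hx
  refine Nat.xor_right_injective (x := χ d) ?_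
  show χ d ^^^ χ p.2.1 = χ d ^^^ 0
  rw [Nat.xor_zero]
  exact hx.trans (Nat.zero_xor _)

/-- the three transfers give a normal subgroup of index four -/
theorem Fr.exists_kernel (F : Fr G z 0) (hz15 : IsConj z (F.el 15))
    (hno : ∀ r ∈ repsT.getD 0 [], IsConj z (F.el r) → r = 15 ∨ r = 16 ∨ r = 160) :
    ∃ M : Subgroup G, M.Normal ∧ M.index = 4 ∧ (∀ a < 768, F.el a ∈ M ↔ ev a = true) := by
  have n1 : ¬ IsConj z (F.el 1) := fun h => absurd (hno 1 (by simp [repsT]) h) (by norm_num)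
  have n32 : ¬ IsConj z (F.el 32) := fun h => absurd (hno 32 (by simp [repsT]) h) (by norm_num)
  have n36 : ¬ IsConj z (F.el 36) := fun h => absurd (hno 36 (by simp [repsT]) h) (by norm_num)
  have nz : ∀ r ∈ [1, 32, 36], ∀ s ∈ [15, 16], ¬ IsConj (F.el r) (F.el s) := by
    intro r hr s hs hc
    have hzr : IsConj z (F.el r) := by
      simp only [List.mem_cons, List.not_mem_nil, or_false] at hs
      rcases hs with rfl | rfl
      · exact hz15.trans hc.symm
      · rw [F.el_z] at hc; exact hc.symm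
    simp only [List.mem_cons, List.not_mem_nil, or_false] at hr
    rcases hr with rfl | rfl | rfl <;> contradiction
  have nc := @Fr.not_conj _ _ _ _ F n1 n32 n36
  obtain ⟨-, hreps⟩ := coset_ok
  obtain ⟨-, -, -, -, hw, hs, h64, h192, t1, t32, t36, -⟩ := sylT_ok
  obtain ⟨A, hA, hA2, hAu⟩ := F.transfer wtOf 1 (by norm_num) (fun ha hb => (F.mul_parts ha hb).2) rfl hw t1 rfl
    (by decide +kernel) fun r hr h0 => by
      rcases (hreps r hr).1 h0 with rfl | rfl | rfl | rfl
      · exact nz 1 (by simp) 15 (by simp)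
      · exact nz 1 (by simp) 16 (by simp)
      · exact nc (by simp) (by simp) (by norm_num)
      · exact nc (by simp) (by simp) (by norm_num)
  obtain ⟨B, hB, hB2, hBu⟩ := F.transfer sgOf 32 (by norm_num) (fun ha hb => F.sg_mul ha hb) rfl hs t32 rfl
    (by decide +kernel) fun r hr h0 => by
      rcases (hreps r hr).2 h0 with rfl | rfl | rfl | rfl
      · exact nc (by simp) (by simp) (by norm_num)
      · exact nz 32 (by simp) 15 (by simp)
      · exact nz 32 (by simp) 16 (by simp)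
      · exact nc (by simp) (by simp) (by norm_num)
  obtain ⟨C, hC, hC2, hCu⟩ := F.transfer sgOf 36 (by norm_num) (fun ha hb => F.sg_mul ha hb) rfl hs t36 rfl
    (by decide +kernel) fun r hr h0 => by
      rcases (hreps r hr).2 h0 with rfl | rfl | rfl | rfl
      · exact nc (by simp) (by simp) (by norm_num)
      · exact nz 36 (by simp) 15 (by simp)
      · exact nz 36 (by simp) 16 (by simp)
      · exact nc (by simp) (by simp) (by norm_num)
  haveI := hA; haveI := hB; haveI := hC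
  have hsq : ∀ x : G, x * x ∈ A ⊓ B ⊓ C := fun x =>
    ⟨⟨Subgroup.mul_self_mem_of_index_two hA2 x, Subgroup.mul_self_mem_of_index_two hB2 x⟩,
      Subgroup.mul_self_mem_of_index_two hC2 x⟩
  have hev : ∀ a < 768, ev a = true → F.el a ∈ A ⊓ B ⊓ C := by
    intro a ha h
    have hh := List.all_eq_true.1 sq_ok a (List.mem_range.2 ha)
    simp only [h, Bool.not_true, Bool.false_or, List.any_eq_true, Bool.and_eq_true, eqv, Nat.beq_eq, Nat.blt_eq] at hh
    obtain ⟨⟨x, b, c⟩, -, ⟨⟨rfl, hb⟩, hc⟩, he⟩ := hh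
    rw [← he, F.el_mul (F.mul_lt hb hb) (F.mul_lt hc hc), F.el_mul hb hb, F.el_mul hc hc]
    exact mul_mem (hsq _) (hsq _)
  have hiff : ∀ a < 768, F.el a ∈ A ⊓ B ⊓ C ↔ ev a = true := by
    refine fun a ha => ⟨fun hin => ?_, hev a ha⟩
    have hh := List.all_eq_true.1 coset_ok.1 a (List.mem_range.2 ha)
    rw [Bool.or_eq_true, List.any_eq_true] at hh
    rcases hh with h | ⟨r, hr, h⟩
    · exact h
    · have hr768 : r < 768 := by
        simp only [List.mem_cons, List.not_mem_nil, or_false] at hr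
        rcases hr with rfl | rfl | rfl <;> norm_num
      have := hev _ (F.mul_lt ha hr768) h
      rw [F.el_mul ha hr768, Subgroup.mul_mem_cancel_left _ hin] at this
      simp only [List.mem_cons, List.not_mem_nil, or_false] at hr
      rcases hr with rfl | rfl | rfl
      exacts [absurd this.1.1 hAu, absurd this.1.2 hBu, absurd this.2 hCu]
  refine ⟨A ⊓ B ⊓ C, inferInstance, ?_, hiff⟩
  set M := A ⊓ B ⊓ C
  haveI : Fact (Nat.Prime 2) := ⟨Nat.prime_two⟩
  obtain ⟨i, hi⟩ := (IsPGroup.iff_card (p := 2) (G := G ⧸ M)).1 (fun q => by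
    obtain ⟨g, rfl⟩ := QuotientGroup.mk_surjective q
    refine ⟨1, ?_⟩
    rw [pow_one, pow_two, ← QuotientGroup.mk_mul, QuotientGroup.eq_one_iff]
    exact hsq g)
  rw [← Subgroup.index_eq_card] at hi
  set H := Subgroup.centralizer ({z} : Set G)
  have hH : Nat.card H = 768 := by
    refine (F.card_eq (fun _ => true) (· ∈ H) (fun g hg => Subgroup.mem_centralizer_singleton_iff.1 hg) fun a ha => ?_).trans
      sylT_ok.2.2.2.2.2.2.2.2.2.2.2
    simpa [H, Subgroup.mem_centralizer_singleton_iff] using (F.el_comm ha).eq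
  have hMH : Nat.card ↥(M ⊓ H) = 192 := by
    refine (F.card_eq ev (· ∈ M ⊓ H) (fun g hg => Subgroup.mem_centralizer_singleton_iff.1 hg.2) fun a ha => ?_).trans h192
    rw [Subgroup.mem_inf, hiff a ha]
    exact and_iff_left (Subgroup.mem_centralizer_singleton_iff.2 (F.el_comm ha).eq)
  have hge : 4 ∣ M.index := by
    have h1 := relIndex_card (inf_le_right : M ⊓ H ≤ H)
    rw [hMH, hH, Subgroup.inf_relIndex_right] at h1
    have h2 := Subgroup.relIndex_dvd_index_of_normal (H := M) (K := H)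
    rwa [show M.relIndex H = 4 by omega] at h2
  have h64' : 2 ^ 6 ∣ Nat.card M := by
    have hT : Nat.card ↥(M ⊓ F.sylG) = 2 ^ 6 := by
      refine (F.card_eq (fun x => inT x && ev x) (· ∈ M ⊓ F.sylG) (fun g hg => F.sub_comm hg.2) fun a ha => ?_).trans h64
      rw [Subgroup.mem_inf, hiff a ha, Fr.sylG, F.mem_sub ha, Bool.and_eq_true, and_comm]
    rw [← hT]
    exact Subgroup.card_dvd_of_le inf_le_left
  rcases Nat.lt_or_ge i 3 with h | h
  · interval_cases i <;> omega
  · exfalso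
    have h29 : 2 ^ 9 ∣ Nat.card G := by
      rw [← M.card_mul_index, hi]
      calc 2 ^ 9 ∣ 2 ^ 6 * 2 ^ i := by rw [← pow_add]; exact pow_dvd_pow 2 (by omega)
        _ ∣ _ := mul_dvd_mul h64' dvd_rfl
    obtain ⟨K, hK⟩ := Sylow.exists_subgroup_card_pow_prime 2 h29
    obtain ⟨k, hk⟩ := F.sylG_full K (IsPGroup.of_card hK)
    have := Nat.card_le_card_of_injective (fun q : K => (⟨MulAut.conj k q, hk q q.2⟩ : F.sylG))
      fun a b e => Subtype.ext ((MulAut.conj k).injective (congrArg Subtype.val e))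
    rw [hK, F.card_sylG] at this
    norm_num at this

end Cfsg.Agent.Spor.AutPSLFour
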