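import Cfsg.Agent.Lib.Spor.AutPSLFour.Cases
import Cfsg.Agent.Lib.Spor.AutPSLFour.Transfer
import Cfsg.Agent.Lib.Spor.AutPSLFour.MinCheck

/-!
The smallest normal subgroup: it is transitive on the class of the involution.
-/

set_option autoImplicit false
set_option linter.style.haveILetI false
set_option maxRecDepth 100000

namespace Cfsg.Agent.Spor.AutPSLFour

attribute [local irreducible] mulc

variable {G : Type*} [Group G] [Finite G] {z : G} {F : Fr G z 0} {M : Subgroup G}

/-- the situation in the group that is not solvable -/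
structure Big (F : Fr G z 0) (M : Subgroup G) : Prop extends Kern F M where
  index4 : M.index = 4
  h160 : IsConj z (F.el 160)
  count : (clsC z []).ncard = 315

theorem Fr.card_H (F : Fr G z 0) : Nat.card (Subgroup.centralizer ({z} : Set G)) = 768 := by
  refine (F.card_eq (fun _ => true) (· ∈ Subgroup.centralizer ({z} : Set G))
    (fun g hg => Subgroup.mem_centralizer_singleton_iff.1 hg) fun a ha => ?_).trans sylT_ok.2.2.2.2.2.2.2.2.2.2.2
  simpa [Subgroup.mem_centralizer_singleton_iff] using (F.el_comm ha).eq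

theorem sub_mem_ev {a : ℕ} (h : inU a = true) : ev a = true := by
  simp only [inU, Bool.and_eq_true] at h; exact h.1

/-- the two-subgroup of order 64 -/
def Fr.subU (F : Fr G z 0) : Subgroup G :=
  F.sub inU u_ok.1 fun a ha b hb pa pb => by
    simp only [inU, ev, Bool.and_eq_true, eqv, Nat.beq_eq] at pa pb ⊢
    obtain ⟨-, -, -, -, -, -, hs⟩ := u_ok
    obtain ⟨e1, e2⟩ := F.mul_parts ha hb
    refine ⟨⟨by rw [e2, pa.1.1, pb.1.1]; rfl, by rw [F.sg_mul ha hb, pa.1.2, pb.1.2]; rfl⟩, ?_⟩
    rw [e1]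
    exact hs _ (parts_lt a ha).2.1 _ (parts_lt b hb).2.1 pa.2 pb.2

theorem Fr.card_subU (F : Fr G z 0) : Nat.card F.subU = 2 ^ 6 := F.card_sub.trans u_ok.2.1

namespace Big

theorem card_G (B : Big F M) : Nat.card G = 241920 := by
  rw [card_class_mul z, B.count, F.card_H]

theorem card_M (B : Big F M) : Nat.card M = 60480 := by
  have h := M.card_mul_index
  rw [B.index4, B.card_G] at h
  omega

theorem dH_el (B : Big F M) {a : ℕ} (ha : a < 768) : IsConj z (F.el a) ↔ a ∈ dList := by
  rw [B.toKern.dH_iff (b := true) (iff_of_true rfl B.h160) ha, dList, List.mem_filter, els, List.mem_range]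
  exact (and_iff_right ha).symm

/-- every involution of the kernel is in the class -/
theorem invol_mem (B : Big F M) {x : G} (hx : x ∈ M) (h2 : x * x = 1) (h1 : x ≠ 1) : IsConj z x := by
  haveI : Fact (Nat.Prime 2) := ⟨Nat.prime_two⟩
  obtain ⟨k, hk⟩ := F.sylG_full (Subgroup.zpowers x) (by
    refine IsPGroup.of_card (n := 1) ?_
    rw [Nat.card_zpowers, pow_one]
    exact orderOf_eq_prime ((pow_two x).trans h2) h1)
  obtain ⟨a, ha, -, hae⟩ := hk x (Subgroup.mem_zpowers x)
  have h : IsConj z (F.el a) := by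
    rw [B.toKern.dH_iff (b := true) (iff_of_true rfl B.h160) ha]
    show (ev a && sqOne a) = true
    simp only [sqOne, Bool.and_eq_true, Bool.not_eq_true', eqv, Nat.beq_eq, Bool.eq_false_iff, ne_eq]
    refine ⟨(B.mem a ha).1 (hae ▸ B.normal.conj_mem x hx k), ?_, ?_⟩
    · rw [← F.sq_iff ha (by norm_num), hae, F.el_zero,
        show k * x * k⁻¹ * (k * x * k⁻¹) = k * (x * x) * k⁻¹ by group, h2]; group
    · intro e
      rw [e, F.el_zero] at hae
      exact h1 (conj_eq_one_iff.1 hae.symm)
  exact h.trans (IsConj.symm (isConj_iff.2 ⟨k, hae.symm⟩))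

theorem core_bot (B : Big F M) (hfix : ∀ x ∈ Cfsg.oddCore G, Commute x z → x = 1) : Cfsg.oddCore G = ⊥ := by
  rw [Subgroup.eq_bot_iff_forall]
  intro x hx
  have inv : ∀ u, IsConj z u → u * x * u = x⁻¹ := by
    intro u hu
    obtain ⟨g, rfl⟩ := isConj_iff.1 hu
    have hy : g⁻¹ * x * g ∈ Cfsg.oddCore G := by
      simpa using (inferInstance : (Cfsg.oddCore G).Normal).conj_mem x hx g⁻¹
    have h := core_inverted z F.z_sq hfix hy
    calc g * z * g⁻¹ * x * (g * z * g⁻¹) = g * (z * (g⁻¹ * x * g) * z) * g⁻¹ := by simp only [mul_assoc]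
      _ = g * (g⁻¹ * x * g)⁻¹ * g⁻¹ := by rw [h]
      _ = _ := by group
  have h15 := inv _ (B.toKern.inv3 (x := 15) (by simp))
  have h31 := inv _ (B.toKern.inv3 (x := 31) (by simp))
  have hz := inv _ (IsConj.refl z)
  have e31 : F.el 31 = F.el 15 * z := by
    rw [show (31 : ℕ) = mulc 0 15 16 by decide +kernel, F.el_mul (by norm_num) (by norm_num), F.el_z]
  have hxi : x = x⁻¹ := by
    have hzv : z * F.el 15 = F.el 15 * z := (F.el_comm (by norm_num : 15 < 768)).symm.eq
    have h := h31
    rw [e31] at h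
    have h' : F.el 15 * z * x * (F.el 15 * z) = x := by
      conv_lhs => enter [2]; rw [← hzv]
      calc F.el 15 * z * x * (z * F.el 15) = F.el 15 * (z * x * z) * F.el 15 := by simp only [mul_assoc]
        _ = (F.el 15 * x * F.el 15)⁻¹ := by
          rw [hz]
          have hvi : (F.el 15)⁻¹ = F.el 15 := inv_eq_of_mul_eq_one_right (B.toKern.cls_mem B.fused).2.1
          rw [mul_inv_rev, mul_inv_rev, hvi, mul_assoc]
        _ = x := by rw [h15, inv_inv]
    exact h'.symm.trans h
  by_contra hx1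
  obtain ⟨j, hj⟩ := Char.card_oddCore_odd G
  have hpow : x ^ (2 * j + 1) = 1 := by
    rw [← hj]; exact congrArg Subtype.val (pow_card_eq_one' (x := (⟨x, hx⟩ : Cfsg.oddCore G)))
  rw [pow_succ, pow_mul, pow_two, mul_eq_one_iff_eq_inv.2 hxi, one_pow, one_mul] at hpow
  exact hx1 hpow

theorem cls_centralizer (B : Big F M) {x : G} (hx : ∀ u, IsConj z u → Commute x u) : x = 1 := by
  obtain ⟨a, ha, rfl⟩ := F.el_surj (hx z (IsConj.refl z))
  have h := List.all_eq_true.1 three_rows.1 a (List.mem_range.2 ha)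
  have hall : dList.all (cm 0 a) = true := List.all_eq_true.2 fun b hb => by
    have hb' := List.mem_range.1 (List.mem_filter.1 hb).1
    exact (F.comm_iff ha hb').1 (hx _ ((B.dH_el hb').2 hb))
  rw [hall, Bool.not_true, Bool.false_or, inL_iff] at h
  by_contra h1
  have hD : IsConj z (F.el a) := B.toKern.inv3 (by
    simp only [List.mem_cons, List.not_mem_nil, or_false] at h ⊢
    rcases h with rfl | h
    · exact absurd F.el_zero h1
    · exact h)
  obtain ⟨g, hg⟩ := isConj_iff.1 hD.symm
  obtain ⟨-, -, -, -, -, -, h160, h163, hnc, -⟩ := class_ok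
  have hzc : ∀ u, IsConj z u → Commute z u := fun u hu => by
    have hu' : IsConj z (g⁻¹ * u * g) := hu.trans (isConj_iff.2 ⟨g⁻¹, by group⟩)
    have := (hx _ hu').map (MulAut.conj g)
    rwa [MulAut.conj_apply, MulAut.conj_apply, hg, show g * (g⁻¹ * u * g) * g⁻¹ = u by group] at this
  have h163' : IsConj z (F.el 163) := (B.toKern.dH_iff (b := true) (iff_of_true rfl B.h160) (by norm_num)).2 h163
  obtain ⟨k, hk⟩ := isConj_iff.1 B.h160.symm
  have := hzc _ (h163'.trans (isConj_iff.2 ⟨k, rfl⟩))
  replace this : Commute (k * F.el 160 * k⁻¹) (k * F.el 163 * k⁻¹) :=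
    (congrArg (fun y => Commute y (k * F.el 163 * k⁻¹)) hk).symm.mp this
  have hcm := (F.comm_iff (by norm_num) (by norm_num)).1
    (this.map (MulAut.conj k⁻¹) |> fun h => by
      rwa [MulAut.conj_apply, MulAut.conj_apply,
        show k⁻¹ * (k * F.el 160 * k⁻¹) * k⁻¹⁻¹ = F.el 160 by group,
        show k⁻¹ * (k * F.el 163 * k⁻¹) * k⁻¹⁻¹ = F.el 163 by group] at h :
      Commute (F.el 160) (F.el 163))
  rw [hnc] at hcm
  exact Bool.noConfusion hcm

theorem cls_le (_B : Big F M) {R : Subgroup G} (hR : R.Normal) (hzR : z ∈ R) {u : G} (hu : IsConj z u) : u ∈ R := by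
  obtain ⟨g, rfl⟩ := isConj_iff.1 hu
  exact hR.conj_mem z hzR g

theorem normal_le (B : Big F M) (hO : Cfsg.oddCore G = ⊥) (L : Subgroup G) (hL : L.Normal) (hne : L ≠ ⊥) : z ∈ L := by
  haveI := hL
  haveI := B.normal
  obtain ⟨l, hl, hl1⟩ := (Subgroup.bot_or_exists_ne_one L).resolve_left hne
  obtain ⟨u, hu, hnc⟩ : ∃ u, IsConj z u ∧ ¬ Commute l u := by
    by_contra h
    simp only [not_exists, not_and, not_not] at h
    exact hl1 (B.cls_centralizer h)
  obtain ⟨huM, -, -⟩ := B.toKern.cls_mem hu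
  set K := L ⊓ M
  have hKne : K ≠ ⊥ := by
    intro e
    refine hnc ?_
    have hc : l * u * l⁻¹ * u⁻¹ ∈ K := Subgroup.mem_inf.2 ⟨by
      rw [mul_assoc l u, mul_assoc l]
      exact mul_mem hl (by simpa [mul_assoc] using hL.conj_mem _ (inv_mem hl) u),
      mul_mem (B.normal.conj_mem u huM l) (inv_mem huM)⟩
    rw [e, Subgroup.mem_bot, mul_inv_eq_one, mul_inv_eq_iff_eq_mul] at hc
    exact hc
  have hev : Even (Nat.card K) := by
    rw [← Nat.not_odd_iff_even]
    intro hodd
    refine hKne (le_bot_iff.1 (hO ▸ ?_))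
    exact le_sSup ⟨inferInstance, Nat.coprime_two_left.2 hodd |>.symm⟩
  haveI : Fact (Nat.Prime 2) := ⟨Nat.prime_two⟩
  obtain ⟨x, hx⟩ := exists_prime_orderOf_dvd_card' (G := K) 2 hev.two_dvd
  have hx2 : (x : G) * x = 1 := by rw [← pow_two, ← hx, ← Subgroup.orderOf_coe x, pow_orderOf_eq_one]
  have hx1 : (x : G) ≠ 1 := fun e => by
    rw [← Subgroup.orderOf_coe x, e, orderOf_one] at hx; norm_num at hx
  obtain ⟨g, hg⟩ := isConj_iff.1 (B.invol_mem x.2.2 hx2 hx1).symm
  exact hg ▸ hL.conj_mem _ x.2.1 g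

theorem subU_le (B : Big F M) {R : Subgroup G} (hR : R.Normal) (hzR : z ∈ R) : F.subU ≤ R := by
  rintro _ ⟨a, ha, pa, rfl⟩
  have h := List.all_eq_true.1 u_ok.2.2.2.2.1 a (List.mem_range.2 ha)
  rw [pa] at h
  simp only [Bool.not_true, Bool.false_or, Bool.or_eq_true, List.any_eq_true, inL_iff, eqv, Nat.beq_eq] at h
  have hd : ∀ b, b ∈ dList → F.el b ∈ R := fun b hb =>
    B.cls_le hR hzR ((B.dH_el (List.mem_range.1 (List.mem_filter.1 hb).1)).2 hb)
  rcases h with (h | h) | ⟨b, hb, c, hc, he⟩
  · rw [h, F.el_zero]; exact one_mem R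
  · exact hd a h
  · rw [← he, F.el_mul (List.mem_range.1 (List.mem_filter.1 hb).1) (List.mem_range.1 (List.mem_filter.1 hc).1)]
    exact mul_mem (hd b hb) (hd c hc)

/-- conjugacy under a subgroup -/
def RConj (R : Subgroup G) (x y : G) : Prop := ∃ r ∈ R, r * x * r⁻¹ = y

theorem to_three (B : Big F M) {R : Subgroup G} (hR : R.Normal) (hzR : z ∈ R) (hRM : R ≤ M) {u : G} (hu : IsConj z u) :
    ∃ e ∈ ([15, 16, 31] : List ℕ), RConj R u (F.el e) := by
  haveI : Fact (Nat.Prime 2) := ⟨Nat.prime_two⟩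
  have hUR := B.subU_le hR hzR
  let P : Sylow 2 R :=
    { toSubgroup := F.subU.subgroupOf R
      isPGroup' := (IsPGroup.of_card (p := 2) (n := 6) F.card_subU).of_equiv
        (Subgroup.subgroupOfEquivOfLe hUR).symm
      is_maximal' := fun {Q} hQ hle => by
        obtain ⟨n, hn⟩ := hQ.exists_card_eq
        have hdvd : Nat.card Q ∣ 60480 := by
          rw [← B.card_M]
          exact (Subgroup.card_subgroup_dvd_card Q).trans (Subgroup.card_dvd_of_le hRM)
        rw [hn] at hdvd
        have hn6 : n ≤ 6 := by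
          by_contra h
          exact absurd ((pow_dvd_pow 2 (Nat.not_le.1 h)).trans hdvd) (by norm_num)
        refine (Subgroup.eq_of_le_of_card_ge hle ?_).symm
        rw [Nat.card_congr (Subgroup.subgroupOfEquivOfLe hUR).toEquiv, F.card_subU, hn]
        exact Nat.pow_le_pow_right (by norm_num) hn6 }
  obtain ⟨g, rfl⟩ := isConj_iff.1 hu
  set Q : Subgroup G := F.subU.map (MulAut.conj g).toMonoidHom with hQ
  have hQR : Q ≤ R := by
    rintro _ ⟨y, hy, rfl⟩
    exact hR.conj_mem y (hUR hy) g
  have hQ2 : IsPGroup 2 Q := (IsPGroup.of_card (p := 2) (n := 6) F.card_subU).map _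
  obtain ⟨P', hP'⟩ := (hQ2.of_equiv (Subgroup.subgroupOfEquivOfLe hQR).symm).exists_le_sylow
  obtain ⟨r, hr⟩ := MulAction.exists_smul_eq R P' P
  have hmap : ∀ y ∈ F.subU, MulAut.conj ((r : G) * g) y ∈ F.subU := by
    intro y hy
    have hm : (⟨MulAut.conj g y, hQR ⟨y, hy, rfl⟩⟩ : R) ∈ (P' : Subgroup R) := hP' ⟨y, hy, rfl⟩
    have h : r * (⟨MulAut.conj g y, hQR ⟨y, hy, rfl⟩⟩ : R) * r⁻¹ ∈ ((r • P' : Sylow 2 R) : Subgroup R) :=
      ⟨_, hm, rfl⟩
    rw [hr] at h
    rw [map_mul, MulAut.mul_apply]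
    exact h
  have hzU : z ∈ F.subU := ⟨16, by norm_num, by decide +kernel, F.el_z⟩
  obtain ⟨a, ha, pa, hae⟩ := hmap z hzU
  refine ⟨a, inL_iff.1 ?_, r, r.2, ?_⟩
  · have h := List.all_eq_true.1 u_ok.2.2.2.1 a (List.mem_range.2 ha)
    have hz1 : IsConj z (F.el a) := by rw [hae]; exact isConj_iff.2 ⟨_, rfl⟩
    have hd : a ∈ dList := (B.dH_el ha).1 hz1
    have hsq : sqOne a = true := by
      have := (List.mem_filter.1 hd).2
      simp only [Bool.and_eq_true] at this
      exact this.2
    have hcomm : dList.all (cm 0 a) = true := List.all_eq_true.2 fun b hb => by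
      have hb' := List.mem_range.1 (List.mem_filter.1 hb).1
      have hbU : F.el b ∈ F.subU := ⟨b, hb', by
        have hh := List.all_eq_true.1 u_ok.2.2.1 b (List.mem_range.2 hb')
        rw [(List.mem_filter.1 hb).2, Bool.not_true, Bool.false_or] at hh
        exact hh, rfl⟩
      -- conjugation is onto the two-subgroup
      have hsurj : F.subU.map (MulAut.conj ((r : G) * g)).toMonoidHom = F.subU := by
        refine Subgroup.eq_of_le_of_card_ge (by rintro _ ⟨y, hy, rfl⟩; exact hmap y hy) ?_
        rw [Nat.card_congr (F.subU.equivMapOfInjective _ (MulAut.conj ((r : G) * g)).injective).symm.toEquiv]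
      rw [← hsurj] at hbU
      obtain ⟨y, hy, hye⟩ := hbU
      refine (F.comm_iff ha hb').1 ?_
      rw [hae, ← hye]
      exact (F.sub_comm hy).symm.map _
    rw [pa, hsq, hcomm, Bool.and_self, Bool.and_self, Bool.not_true, Bool.false_or] at h
    exact h
  · rw [hae, map_mul, MulAut.mul_apply, MulAut.conj_apply, MulAut.conj_apply]

theorem rconj_conj {R : Subgroup G} (hR : R.Normal) (g : G) {x y : G} (h : RConj R x y) :
    RConj R (g * x * g⁻¹) (g * y * g⁻¹) := by
  obtain ⟨r, hr, rfl⟩ := h
  exact ⟨g * r * g⁻¹, hR.conj_mem r hr g, by group⟩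

theorem rconj_symm {R : Subgroup G} {x y : G} (h : RConj R x y) : RConj R y x := by
  obtain ⟨r, hr, rfl⟩ := h
  exact ⟨r⁻¹, inv_mem hr, by group⟩

theorem rconj_trans {R : Subgroup G} {x y w : G} (h : RConj R x y) (h' : RConj R y w) : RConj R x w := by
  obtain ⟨r, hr, rfl⟩ := h
  obtain ⟨s, hs, rfl⟩ := h'
  exact ⟨s * r, mul_mem hs hr, by group⟩

/-- transitivity on the class -/
theorem trans_R (B : Big F M) {R : Subgroup G} (hR : R.Normal) (hzR : z ∈ R) (hRM : R ≤ M) {u : G} (hu : IsConj z u) :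
    RConj R u z := by
  classical
  obtain ⟨e, he, hue⟩ := B.to_three hR hzR hRM hu
  suffices h15 : RConj R (F.el 15) z by
    have h31 : RConj R (F.el 31) z := by
      have h := rconj_conj hR (F.el 1) h15
      have e1 : F.el 1 * F.el 15 * (F.el 1)⁻¹ = F.el 31 := by
        rw [← F.el_mul (by norm_num) (by norm_num), class_ok.2.2.1, F.el_mul (by norm_num) (by norm_num),
          mul_inv_cancel_right]
      have e2 : F.el 1 * z * (F.el 1)⁻¹ = z := by
        rw [(F.el_comm (by norm_num : 1 < 768)).eq, mul_inv_cancel_right]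
      rwa [e1, e2] at h
    refine rconj_trans hue ?_
    simp only [List.mem_cons, List.not_mem_nil, or_false] at he
    rcases he with rfl | rfl | rfl
    exacts [h15, ⟨1, one_mem R, by rw [F.el_z]; group⟩, h31]
  by_contra hn
  -- the members sharing an orbit with their centre
  let A : G → Set G := fun w => {d | IsConj z d ∧ Commute d w ∧ RConj R d w}
  have hAc : ∀ w g : G, (A (g * w * g⁻¹)).ncard = (A w).ncard := by
    intro w g
    rw [← Set.ncard_image_of_injective (A w) (MulAut.conj g).injective]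
    congr 1
    ext d
    simp only [A, Set.mem_ofPred_eq, Set.mem_image, MulAut.conj_apply]
    constructor
    · rintro ⟨h1, h2, h3⟩
      refine ⟨g⁻¹ * d * g, ⟨h1.trans (isConj_iff.2 ⟨g⁻¹, by group⟩), ?_, ?_⟩, by group⟩
      · have := h2.map (MulAut.conj g⁻¹)
        rwa [MulAut.conj_apply, MulAut.conj_apply, show g⁻¹ * (g * w * g⁻¹) * g⁻¹⁻¹ = w by group, inv_inv] at this
      · have := rconj_conj hR g⁻¹ h3
        rwa [show g⁻¹ * (g * w * g⁻¹) * g⁻¹⁻¹ = w by group, inv_inv] at this
    · rintro ⟨y, ⟨h1, h2, h3⟩, rfl⟩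
      exact ⟨h1.trans (isConj_iff.2 ⟨g, rfl⟩), h2.map (MulAut.conj g), rconj_conj hR g h3⟩
  have hAeq : ∀ w, IsConj z w → (A w).ncard = (A z).ncard := fun w hw => by
    obtain ⟨g, rfl⟩ := isConj_iff.1 hw
    exact hAc z g
  -- orbit-mates of the representative
  have h160c : ∀ e ∈ ([15, 16, 31] : List ℕ), Commute (F.el 160) (F.el e) := fun e he =>
    ((F.comm_iff (by simp only [List.mem_cons, List.not_mem_nil, or_false] at he; omega) (by norm_num)).2
      (List.all_eq_true.1 (u_ok.2.2.2.2.2.1 e he) 160 ((B.dH_el (by norm_num)).1 B.h160))).symm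
  obtain ⟨e', he', h160⟩ := B.to_three hR hzR hRM B.h160
  have hne : 2 ≤ (A (F.el e')).ncard := by
    have hz' := B.toKern.inv3 he'
    refine (Set.one_lt_ncard (Set.toFinite _)).2 ⟨F.el 160, ⟨B.h160, h160c e' he', h160⟩, F.el e',
      ⟨hz', Commute.refl _, 1, one_mem R, by group⟩, fun h => ?_⟩
    have := F.el_inj (by norm_num) (by simp only [List.mem_cons, List.not_mem_nil, or_false] at he'; omega) h
    simp only [List.mem_cons, List.not_mem_nil, or_false] at he'
    omega
  rw [hAeq _ (B.toKern.inv3 he'), ← hAeq _ B.fused] at hne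
  by_cases hz160 : RConj R (F.el 160) z
  · -- the centre of 160 is z, so its whole orbit under the centraliser
    have hall : ∀ p : ℕ, p < 768 → hasRep p 160 = true → mulc 0 p p = 0 → p ≠ 0 → RConj R (F.el p) z := by
      intro p hp hrep hp2 hp0
      obtain ⟨q, hq, hok, -, c, hcz, hce⟩ := F.exists_hit hp hp2 hp0
      simp only [hitOK, Bool.and_eq_true, eqv, Nat.beq_eq] at hok
      have hq1 : q.1 = p := hok.1.1.1
      have hdec : ∀ q ∈ conjT.getD 0 [], ∀ q' ∈ conjT.getD 0 [], q.1 = q'.1 → q.2.1 = q'.2.1 := by decide +kernel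
      simp only [hasRep, List.any_eq_true, Bool.and_eq_true, eqv, Nat.beq_eq] at hrep
      obtain ⟨q', hq', h1, h2⟩ := hrep
      rw [hdec q hq q' hq' (hq1.trans h1.symm), h2] at hce
      rw [← hce]
      have := rconj_conj hR c hz160
      rwa [hcz.eq, mul_inv_cancel_right] at this
    have hsub : A (F.el 15) ⊆ {F.el 15, F.el 31} := by
      rintro d ⟨hd, hdc, hdR⟩
      have hv : IsConj z (F.el 15) := B.fused
      -- d commutes with z as well
      have hdz : Commute d z := by
        have hsub : clsC z [z] ⊆ clsC z [F.el 15] := by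
          rintro y ⟨hy, hyc⟩
          obtain ⟨b, hb, rfl⟩ := F.el_surj (hyc z (List.mem_singleton_self z))
          refine ⟨hy, fun g hg => ?_⟩
          rw [List.mem_singleton.1 hg]
          exact ((F.comm_iff (by norm_num) hb).2
            (List.all_eq_true.1 (u_ok.2.2.2.2.2.1 15 (by simp)) b ((B.dH_el hb).1 hy))).symm
        obtain ⟨k, hk⟩ := isConj_iff.1 hv
        have he : clsC z [z] = clsC z [F.el 15] := by
          refine Set.eq_of_subset_of_ncard_le hsub (le_of_eq ?_) (Set.toFinite _)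
          rw [← hk, ← card_clsC_conj z [z] k]
          simp
        have : d ∈ clsC z [F.el 15] := ⟨hd, fun g hg => by rw [List.mem_singleton.1 hg]; exact hdc⟩
        rw [← he] at this
        exact this.2 z (List.mem_singleton_self z)
      obtain ⟨b, hb, rfl⟩ := F.el_surj hdz
      have hbd := (B.dH_el hb).1 hd
      have h := List.all_eq_true.1 three_rows.2.2 b (List.mem_range.2 hb)
      rw [(List.mem_filter.1 hbd).2, Bool.not_true, Bool.false_or, Bool.or_eq_true, inL_iff] at h
      rcases h with h | h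
      · simp only [List.mem_cons, List.not_mem_nil, or_false] at h
        rcases h with rfl | rfl | rfl
        · simp
        · exact absurd (rconj_trans (rconj_symm hdR) ⟨1, one_mem R, by rw [F.el_z]; group⟩) hn
        · simp
      · have hb2 := (List.mem_filter.1 hbd).2
        simp only [sqOne, Bool.and_eq_true, Bool.not_eq_true', eqv, Nat.beq_eq, Bool.eq_false_iff, ne_eq] at hb2
        exact absurd (rconj_trans (rconj_symm hdR) (hall b hb h hb2.2.1 hb2.2.2)) hn
    -- but the set at z is large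
    have hbig : 2 < (A z).ncard := by
      refine (Set.two_lt_ncard (Set.toFinite _)).2 ⟨z, ⟨IsConj.refl z, Commute.refl z, 1, one_mem R, by group⟩,
        F.el 160, ⟨B.h160, F.el_comm (by norm_num), hz160⟩, F.el 163,
        ⟨(B.dH_el (by norm_num)).2 (by decide +kernel), F.el_comm (by norm_num),
          hall 163 (by norm_num) (by decide +kernel) (by decide +kernel) (by norm_num)⟩, ?_, ?_, ?_⟩
      · exact fun h => absurd (F.el_inj (a := 16) (b := 160) (by norm_num) (by norm_num) (F.el_z.trans h)) (by norm_num)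
      · exact fun h => absurd (F.el_inj (a := 16) (b := 163) (by norm_num) (by norm_num) (F.el_z.trans h)) (by norm_num)
      · exact fun h => absurd (F.el_inj (by norm_num) (by norm_num) h) (by norm_num)
    have hle := (Set.ncard_le_ncard hsub (Set.toFinite _)).trans (Set.ncard_insert_le _ _)
    rw [Set.ncard_singleton, hAeq _ B.fused] at hle
    omega
  · -- the centre of 160 is not z, so the orbit of z meets the centraliser once
    have hsub : A z ⊆ {z} := by
      rintro d ⟨hd, hdz, hdR⟩
      obtain ⟨b, hb, rfl⟩ := F.el_surj hdz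
      have hbd := (B.dH_el hb).1 hd
      have h := List.all_eq_true.1 three_rows.2.2 b (List.mem_range.2 hb)
      rw [(List.mem_filter.1 hbd).2, Bool.not_true, Bool.false_or, Bool.or_eq_true, inL_iff] at h
      rcases h with h | h
      · simp only [List.mem_cons, List.not_mem_nil, or_false] at h
        rcases h with rfl | rfl | rfl
        · exact absurd hdR hn
        · simp [F.el_z]
        · refine absurd ?_ hn
          have h := rconj_conj hR (F.el 1) hdR
          have e1 : F.el 1 * F.el 31 * (F.el 1)⁻¹ = F.el 15 := by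
            have : mulc 0 1 31 = mulc 0 15 1 := by decide +kernel
            rw [← F.el_mul (by norm_num) (by norm_num), this, F.el_mul (by norm_num) (by norm_num),
              mul_inv_cancel_right]
          rwa [e1, (F.el_comm (by norm_num : 1 < 768)).eq, mul_inv_cancel_right] at h
      · exfalso
        have hb2 := (List.mem_filter.1 hbd).2
        simp only [sqOne, Bool.and_eq_true, Bool.not_eq_true', eqv, Nat.beq_eq, Bool.eq_false_iff, ne_eq] at hb2
        obtain ⟨q, hq, hok, -, c, hcz, hce⟩ := F.exists_hit hb hb2.2.1 hb2.2.2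
        simp only [hitOK, Bool.and_eq_true, eqv, Nat.beq_eq] at hok
        simp only [hasRep, List.any_eq_true, Bool.and_eq_true, eqv, Nat.beq_eq] at h
        obtain ⟨q', hq', h1, h2⟩ := h
        have hdec : ∀ q ∈ conjT.getD 0 [], ∀ q' ∈ conjT.getD 0 [], q.1 = q'.1 → q.2.1 = q'.2.1 := by decide +kernel
        rw [hdec q hq q' hq' (hok.1.1.1.trans h1.symm), h2] at hce
        rw [← hce] at hdR
        have := rconj_conj hR c⁻¹ hdR
        rw [inv_inv, show c⁻¹ * (c * F.el 160 * c⁻¹) * c = F.el 160 by group, mul_assoc, ← hcz.eq,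
          inv_mul_cancel_left] at this
        exact hz160 this
    have hle := Set.ncard_le_ncard hsub (Set.toFinite _)
    rw [Set.ncard_singleton, ← hAeq _ B.fused] at hle
    omega

end Big

end Cfsg.Agent.Spor.AutPSLFour
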