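import Cfsg.Agent.Lib.Spor.AutPSLFour.IndexThree
import Cfsg.Agent.S0348
import Cfsg.Agent.Lib.Classical.Dickson.Tools
import Cfsg.Agent.Lib.Small.TwentyOneSixty

/-!
The smallest normal subgroup is the special linear group in dimension three over four elements.
-/

set_option autoImplicit false
set_option linter.style.haveILetI false
set_option maxRecDepth 100000

namespace Cfsg.Agent.Spor.AutPSLFour

attribute [local irreducible] mulc

variable {G : Type*} [Group G] [Finite G] {z : G} {F : Fr G z 0} {M : Subgroup G}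

namespace Big

theorem closure_le_M (B : Big F M) : Subgroup.normalClosure ({z} : Set G) ≤ M := by
  haveI := B.normal
  exact Subgroup.normalClosure_le_normal (Set.singleton_subset_iff.2 (B.toKern.cls_mem (IsConj.refl z)).1)

theorem z_mem_closure (_B : Big F M) : z ∈ Subgroup.normalClosure ({z} : Set G) :=
  Subgroup.subset_normalClosure (Set.mem_singleton z)

theorem R_inf (B : Big F M) {x : G} (hx : x ∈ Subgroup.normalClosure ({z} : Set G)) :
    Commute x z ↔ x ∈ F.subU := by
  refine ⟨fun hxz => ?_, fun h => F.sub_comm h⟩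
  obtain ⟨a, ha, rfl⟩ := F.el_surj hxz
  have hev : ev a = true := (B.mem a ha).1 (B.closure_le_M hx)
  rw [Fr.subU, F.mem_sub ha]
  have hUR := B.subU_le Subgroup.normalClosure_normal B.z_mem_closure
  obtain ⟨-, hlt, he256, -, -, hl256, -, hu0⟩ := lam_ok
  have hl : lamOf a < 3 := by
    have h := List.all_eq_true.1 hlt a (List.mem_range.2 ha)
    rw [hev, Bool.not_true, Bool.false_or, Nat.blt_eq] at h
    exact h
  have h0 : ∀ b < 768, ev b = true → lamOf b = 0 → inU b = true := fun b hb hbe h0 => by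
    have h := List.all_eq_true.1 hu0 b (List.mem_range.2 hb)
    rw [hbe, h0] at h
    simpa [eqv] using h
  by_contra hu
  have hne : lamOf a ≠ 0 := fun e => hu (h0 a ha hev e)
  have hevm : ∀ {b c : ℕ}, b < 768 → c < 768 → ev b = true → ev c = true → ev (mulc 0 b c) = true := by
    intro b c hb hc eb ec
    refine (B.mem _ (F.mul_lt hb hc)).1 ?_
    rw [F.el_mul hb hc]
    exact mul_mem ((B.mem b hb).2 eb) ((B.mem c hc).2 ec)
  have key : ∀ c < 768, ev c = true → F.el c ∈ Subgroup.normalClosure ({z} : Set G) → (1 + lamOf c) % 3 = 0 → False := by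
    intro c hc hce hcR hl
    have h1 : inU (mulc 0 256 c) = true :=
      h0 _ (F.mul_lt (by norm_num) hc) (hevm (by norm_num) hc he256 hce) (by rw [B.lam_mul (by norm_num) hc he256 hce, hl256, hl])
    have h2 : F.el (mulc 0 256 c) ∈ Subgroup.normalClosure ({z} : Set G) :=
      hUR ⟨_, F.mul_lt (by norm_num) hc, h1, rfl⟩
    rw [F.el_mul (by norm_num) hc, Subgroup.mul_mem_cancel_right _ hcR] at h2
    exact B.three_notMem rfl h2
  rcases (show lamOf a = 1 ∨ lamOf a = 2 by omega) with h | h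
  · refine key (mulc 0 a a) (F.mul_lt ha ha) (hevm ha ha hev hev) (by rw [F.el_mul ha ha]; exact mul_mem hx hx) ?_
    rw [B.lam_mul ha ha hev hev, h]
  · exact key a ha hev hx (by rw [h])

theorem R_cls (B : Big F M) :
    (clsC (⟨z, B.z_mem_closure⟩ : ↥(Subgroup.normalClosure ({z} : Set G))) []).ncard = 315 := by
  rw [← Set.ncard_image_of_injective _ Subtype.val_injective, ← B.count]
  congr 1
  ext u
  simp only [clsC, Set.mem_image, Set.mem_ofPred_eq, List.not_mem_nil, IsEmpty.forall_iff, implies_true, and_true]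
  constructor
  · rintro ⟨y, hy, rfl⟩
    exact (Subgroup.normalClosure ({z} : Set G)).subtype.map_isConj hy
  · intro hu
    obtain ⟨r, hr, hre⟩ := rconj_symm (B.trans_R Subgroup.normalClosure_normal B.z_mem_closure B.closure_le_M hu)
    exact ⟨⟨u, B.cls_le Subgroup.normalClosure_normal B.z_mem_closure hu⟩,
      isConj_iff.2 ⟨⟨r, hr⟩, Subtype.ext hre⟩, rfl⟩

theorem R_centralizer (B : Big F M) :
    Nat.card (Subgroup.centralizer ({(⟨z, B.z_mem_closure⟩ : ↥(Subgroup.normalClosure ({z} : Set G)))} :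
      Set ↥(Subgroup.normalClosure ({z} : Set G)))) = 2 ^ 6 := by
  rw [← F.card_subU]
  refine Nat.card_eq_of_bijective (fun x => (⟨(x.1 : G), (B.R_inf x.1.2).1
    (congrArg Subtype.val (Subgroup.mem_centralizer_singleton_iff.1 x.2))⟩ : F.subU)) ⟨?_, ?_⟩
  · intro a b e
    have e' := congrArg Subtype.val e
    exact Subtype.ext (Subtype.ext e')
  · rintro ⟨u, hu⟩
    have huR := B.subU_le Subgroup.normalClosure_normal B.z_mem_closure hu
    exact ⟨⟨⟨u, huR⟩, Subgroup.mem_centralizer_singleton_iff.2 (Subtype.ext (F.sub_comm hu).eq)⟩, rfl⟩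

theorem card_R (B : Big F M) : Nat.card ↥(Subgroup.normalClosure ({z} : Set G)) = 20160 := by
  rw [card_class_mul (⟨z, B.z_mem_closure⟩ : ↥(Subgroup.normalClosure ({z} : Set G))), B.R_cls, B.R_centralizer]
  norm_num

theorem R_simple (B : Big F M) : IsSimpleGroup ↥(Subgroup.normalClosure ({z} : Set G)) := by
  set R := Subgroup.normalClosure ({z} : Set G) with hR
  have hzR : z ∈ R := B.z_mem_closure
  haveI : Nontrivial R := ⟨⟨⟨z, hzR⟩, 1, fun e => F.z_ne_one (congrArg Subtype.val e)⟩⟩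
  refine ⟨fun L hL => ?_⟩
  by_cases hne : L = ⊥
  · exact Or.inl hne
  refine Or.inr (eq_top_iff.2 ?_)
  have hconj : ∀ u, ∀ hu : IsConj z u, ∃ r : R, r * ⟨z, hzR⟩ * r⁻¹ = ⟨u, B.cls_le Subgroup.normalClosure_normal hzR hu⟩ := by
    intro u hu
    obtain ⟨r, hr, hre⟩ := rconj_symm (B.trans_R Subgroup.normalClosure_normal hzR B.closure_le_M hu)
    exact ⟨⟨r, hr⟩, Subtype.ext hre⟩
  by_cases hev : Even (Nat.card L)
  · haveI : Fact (Nat.Prime 2) := ⟨Nat.prime_two⟩
    obtain ⟨x, hx⟩ := exists_prime_orderOf_dvd_card' (G := L) 2 hev.two_dvd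
    have hx2 : ((x : R) : G) * ((x : R) : G) = 1 := by
      have h := pow_orderOf_eq_one x
      rw [hx, pow_two] at h
      exact congrArg (fun y : L => ((y : R) : G)) h
    have hx1 : ((x : R) : G) ≠ 1 := fun e => by
      rw [show x = 1 from Subtype.ext (Subtype.ext e), orderOf_one] at hx; norm_num at hx
    obtain ⟨r, hr⟩ := hconj _ (B.invol_mem (B.closure_le_M x.1.2) hx2 hx1)
    have hzL : (⟨z, hzR⟩ : R) ∈ L := by
      have h := hL.conj_mem (x : R) x.2 r⁻¹
      rwa [show r⁻¹ * (x : R) * r⁻¹⁻¹ = ⟨z, hzR⟩ by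
        rw [show (x : R) = r * ⟨z, hzR⟩ * r⁻¹ from Subtype.ext (congrArg Subtype.val hr).symm]; group] at h
    intro y _
    have hle : R ≤ L.map R.subtype := by
      refine le_trans (le_of_eq hR) ?_
      refine (Subgroup.closure_le _).2 fun u hu => ?_
      simp only [Group.conjugatesOfSet, Set.mem_iUnion, Set.mem_singleton_iff] at hu
      obtain ⟨a, rfl, hu⟩ := hu
      obtain ⟨r, hr⟩ := hconj u hu
      exact ⟨r * ⟨a, hzR⟩ * r⁻¹, hL.conj_mem _ hzL r, congrArg Subtype.val hr⟩
    obtain ⟨w, hw, hwe⟩ := hle y.2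
    rwa [show y = w from Subtype.ext hwe.symm]
  · exfalso
    obtain ⟨j, hj⟩ := Nat.not_even_iff_odd.1 hev
    have hfix : ∀ u : R, IsConj z (u : G) → ∀ l ∈ L, u * l * u = l⁻¹ := by
      intro u hu l hl
      obtain ⟨r, hr⟩ := hconj _ hu
      have hru : r * ⟨z, hzR⟩ * r⁻¹ = u := hr
      have hz2 : (⟨z, hzR⟩ : R) * ⟨z, hzR⟩ = 1 := Subtype.ext F.z_sq
      have hff : MonoidHom.FixedPointFree ((MulAut.conjNormal (⟨z, hzR⟩ : R) : MulAut L) : L → L) := by
        intro g hg
        have hc : Commute ((g : R) : G) z := by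
          have h := congrArg (fun y : L => ((y : R) : G)) hg
          simp only [MulAut.conjNormal_apply, Subgroup.coe_mul, Subgroup.coe_inv] at h
          exact (mul_inv_eq_iff_eq_mul.1 h).symm
        obtain ⟨b, hb, hbU, hbe⟩ := (B.R_inf g.1.2).1 hc
        have h64 : ((g : R) : G) ^ 64 = 1 := by
          have h := pow_card_eq_one' (x := (⟨F.el b, ⟨b, hb, hbU, rfl⟩⟩ : F.subU))
          rw [F.card_subU] at h
          rw [← hbe]; exact congrArg Subtype.val h
        have hodd : ((g : R) : G) ^ (2 * j + 1) = 1 := by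
          rw [← hj]
          exact congrArg (fun y : L => ((y : R) : G)) (pow_card_eq_one' (x := g))
        have hg1 := (pow_gcd_eq_one (a := ((g : R) : G)) (m := 64) (n := 2 * j + 1)).2 ⟨h64, hodd⟩
        rw [show Nat.gcd 64 (2 * j + 1) = 1 from
          (Nat.Coprime.pow_left 6 (Nat.coprime_two_left.2 ⟨j, rfl⟩) : Nat.Coprime (2 ^ 6) (2 * j + 1)), pow_one] at hg1
        exact Subtype.ext (Subtype.ext hg1)
      have hinv : Function.Involutive ((MulAut.conjNormal (⟨z, hzR⟩ : R) : MulAut L) : L → L) := fun g => by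
        rw [← MulAut.mul_apply, ← map_mul, hz2, map_one, MulAut.one_apply]
      have hl' : r⁻¹ * l * r ∈ L := by simpa using hL.conj_mem l hl r⁻¹
      have h := congrArg Subtype.val (congrFun (MonoidHom.FixedPointFree.coe_eq_inv_of_involutive hff hinv) ⟨_, hl'⟩)
      rw [MulAut.conjNormal_apply, inv_eq_of_mul_eq_one_right hz2] at h
      rw [← hru]
      calc r * ⟨z, hzR⟩ * r⁻¹ * l * (r * ⟨z, hzR⟩ * r⁻¹) = r * ((⟨z, hzR⟩ : R) * (r⁻¹ * l * r) * ⟨z, hzR⟩) * r⁻¹ := by
            simp only [mul_assoc]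
        _ = r * (r⁻¹ * l * r)⁻¹ * r⁻¹ := by rw [h]; rfl
        _ = _ := by group
    obtain ⟨l, hl, hl1⟩ := (Subgroup.bot_or_exists_ne_one L).resolve_left hne
    have h15D := B.toKern.inv3 (x := 15) (by simp)
    have h31D := B.toKern.inv3 (x := 31) (by simp)
    set v : R := ⟨F.el 15, B.cls_le Subgroup.normalClosure_normal hzR h15D⟩
    set zR : R := ⟨z, hzR⟩
    have h15 := hfix v h15D l hl
    have h31 := hfix ⟨F.el 31, B.cls_le Subgroup.normalClosure_normal hzR h31D⟩ h31D l hl
    have hz := hfix zR (IsConj.refl z) l hl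
    have e31 : (⟨F.el 31, B.cls_le Subgroup.normalClosure_normal hzR h31D⟩ : R) = v * zR := Subtype.ext (by
      show F.el 31 = F.el 15 * z
      rw [show (31 : ℕ) = mulc 0 15 16 by decide +kernel, F.el_mul (by norm_num) (by norm_num), F.el_z])
    have hzv : zR * v = v * zR := Subtype.ext (F.el_comm (by norm_num : 15 < 768)).symm.eq
    have hvi : v⁻¹ = v := inv_eq_of_mul_eq_one_right (Subtype.ext (B.toKern.cls_mem h15D).2.1)
    rw [e31] at h31
    have hli : l = l⁻¹ := by
      have h' : v * zR * l * (v * zR) = l := by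
        conv_lhs => enter [2]; rw [← hzv]
        calc v * zR * l * (zR * v) = v * (zR * l * zR) * v := by simp only [mul_assoc]
          _ = (v * l * v)⁻¹ := by rw [hz, mul_inv_rev, mul_inv_rev, hvi, mul_assoc]
          _ = l := by rw [h15, inv_inv]
      exact h'.symm.trans h31
    have hpow : l ^ (2 * j + 1) = 1 := by
      rw [← hj]; exact congrArg Subtype.val (pow_card_eq_one' (x := (⟨l, hl⟩ : L)))
    rw [pow_succ, pow_mul, pow_two, mul_eq_one_iff_eq_inv.2 hli, one_pow, one_mul] at hpow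
    exact hl1 hpow

theorem R_nonabelian (B : Big F M) :
    ∃ a b : ↥(Subgroup.normalClosure ({z} : Set G)), a * b ≠ b * a := by
  obtain ⟨-, -, -, -, -, -, h160, h163, hnc, -⟩ := class_ok
  have m : ∀ a, a < 768 → dH true a = true → F.el a ∈ Subgroup.normalClosure ({z} : Set G) := fun a ha h =>
    B.cls_le Subgroup.normalClosure_normal B.z_mem_closure ((B.toKern.dH_iff (iff_of_true rfl B.h160) ha).2 h)
  refine ⟨⟨_, m 160 (by norm_num) h160⟩, ⟨_, m 163 (by norm_num) h163⟩, fun e => ?_⟩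
  have := (F.comm_iff (by norm_num) (by norm_num)).1 (congrArg Subtype.val e : F.el 160 * F.el 163 = F.el 163 * F.el 160)
  rw [hnc] at this
  exact Bool.noConfusion this

theorem R_cit (B : Big F M) (t : ↥(Subgroup.normalClosure ({z} : Set G))) (ht : orderOf t = 2) :
    IsPGroup 2 (Subgroup.centralizer ({t} : Set ↥(Subgroup.normalClosure ({z} : Set G)))) := by
  haveI : Fact (Nat.Prime 2) := ⟨Nat.prime_two⟩
  have h2 : (t : G) * t = 1 := congrArg Subtype.val (by rw [← pow_two, ← ht, pow_orderOf_eq_one] : t * t = 1)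
  have h1 : (t : G) ≠ 1 := fun e => by rw [show t = 1 from Subtype.ext e, orderOf_one] at ht; norm_num at ht
  have hcls : clsC (⟨z, B.z_mem_closure⟩ : ↥(Subgroup.normalClosure ({z} : Set G))) [] =
      clsC t [] := by
    have hc : IsConj (⟨z, B.z_mem_closure⟩ : ↥(Subgroup.normalClosure ({z} : Set G))) t := by
      obtain ⟨r, hr, hre⟩ := rconj_symm (B.trans_R Subgroup.normalClosure_normal B.z_mem_closure B.closure_le_M
        (B.invol_mem (B.closure_le_M t.2) h2 h1))
      exact isConj_iff.2 ⟨⟨r, hr⟩, Subtype.ext hre⟩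
    ext u
    exact and_congr ⟨fun h => hc.symm.trans h, fun h => hc.trans h⟩ Iff.rfl
  refine IsPGroup.of_card (n := 6) ?_
  have h := card_class_mul t
  rw [← hcls, B.R_cls, B.card_R] at h
  omega

theorem R_iso (B : Big F M) : ∃ (K : Type) (_ : Field K) (_ : Fintype K), Fintype.card K = 4 ∧
    Nonempty (↥(Subgroup.normalClosure ({z} : Set G)) ≃* Matrix.ProjectiveSpecialLinearGroup (Fin 3) K) := by
  haveI := B.R_simple
  rcases Cfsg.Agent.S0348.result B.R_nonabelian B.R_cit with ⟨K, iF, iT, hq, ⟨e⟩⟩ | h | ⟨-, m, hm, hS⟩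
  · exfalso
    have h := Classical.Dickson.card_psl K
    rw [← Nat.card_congr e.toEquiv, B.card_R] at h
    set q := Fintype.card K with hqdef
    have hg : Nat.gcd 2 (q - 1) = 1 ∨ Nat.gcd 2 (q - 1) = 2 := (Nat.dvd_prime Nat.prime_two).1 (Nat.gcd_dvd_left ..)
    have hq2 : 2 ≤ q := Fintype.one_lt_card
    have hub : q ≤ 35 := by
      by_contra hlt
      have h1 : 36 * (36 ^ 2 - 1) ≤ q * (q ^ 2 - 1) :=
        Nat.mul_le_mul (by omega) (Nat.sub_le_sub_right (Nat.pow_le_pow_left (by omega) 2) 1)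
      rcases hg with g | g <;> rw [g] at h <;> omega
    rcases hg with g | g <;> rw [g] at h <;> interval_cases q <;> omega
  · exact h
  · exfalso
    rw [B.card_R] at hS
    have h8 : 8 ≤ 2 ^ (2 * m + 1) := by
      calc 8 = 2 ^ 3 := by norm_num
        _ ≤ _ := Nat.pow_le_pow_right (by norm_num) (by omega)
    set q := 2 ^ (2 * m + 1)
    have h1 : 8 ^ 2 * (8 ^ 2 + 1) * 7 ≤ q ^ 2 * (q ^ 2 + 1) * (q - 1) :=
      Nat.mul_le_mul (Nat.mul_le_mul (Nat.pow_le_pow_left h8 2) (Nat.add_le_add_right (Nat.pow_le_pow_left h8 2) 1)) (by omega)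
    omega

/-- the group acts faithfully on the smallest normal subgroup -/
theorem faithful (B : Big F M) : Function.Injective
    (MulAut.conjNormal : G →* MulAut ↥(Subgroup.normalClosure ({z} : Set G))) := by
  rw [← MonoidHom.ker_eq_bot_iff, Subgroup.eq_bot_iff_forall]
  intro x hx
  refine B.cls_centralizer fun u hu => ?_
  have h := congrArg Subtype.val (DFunLike.congr_fun (MonoidHom.mem_ker.1 hx)
    (⟨u, B.cls_le Subgroup.normalClosure_normal B.z_mem_closure hu⟩ : ↥(Subgroup.normalClosure ({z} : Set G))))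
  rw [MulAut.conjNormal_apply, MulAut.one_apply] at h
  exact mul_inv_eq_iff_eq_mul.1 h

end Big

end Cfsg.Agent.Spor.AutPSLFour
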