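import Cfsg.Agent.Lib.Spor.AutPSLFour.Facts

/-!
Subgroups of the centraliser given by codes, and the criterion for containing all two-subgroups.
-/

set_option autoImplicit false
set_option linter.style.haveILetI false
set_option maxRecDepth 100000

namespace Cfsg.Agent.Spor.AutPSLFour

attribute [local irreducible] mulc

variable {G : Type*} [Group G] [Finite G] {z : G}

/-- the subgroup of a closed set of codes -/
def Fr.sub (F : Fr G z 0) (p : ℕ → Bool) (h0 : p 0 = true)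
    (hm : ∀ a < 768, ∀ b < 768, p a = true → p b = true → p (mulc 0 a b) = true) : Subgroup G where
  carrier := {g | ∃ a < 768, p a = true ∧ F.el a = g}
  one_mem' := ⟨0, by norm_num, h0, F.el_zero⟩
  mul_mem' := by
    rintro _ _ ⟨a, ha, pa, rfl⟩ ⟨b, hb, pb, rfl⟩
    exact ⟨_, F.mul_lt ha hb, hm a ha b hb pa pb, F.el_mul ha hb⟩
  inv_mem' := by
    rintro _ ⟨a, ha, pa, rfl⟩
    have h : ∀ n : ℕ, ∃ b < 768, p b = true ∧ F.el b = F.el a ^ n := by
      intro n
      induction n with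
      | zero => exact ⟨0, by norm_num, h0, by rw [pow_zero, F.el_zero]⟩
      | succ n ih =>
        obtain ⟨b, hb, pb, e⟩ := ih
        exact ⟨_, F.mul_lt hb ha, hm b hb a ha pb pa, by rw [F.el_mul hb ha, e, pow_succ]⟩
    obtain ⟨n, hn⟩ := (isOfFinOrder_of_finite (F.el a)).mem_powers_iff_mem_zpowers.2
      (inv_mem (Subgroup.mem_zpowers (F.el a)))
    obtain ⟨b, hb, pb, e⟩ := h n
    exact ⟨b, hb, pb, e.trans hn⟩

theorem Fr.mem_sub (F : Fr G z 0) {p : ℕ → Bool} {h0 : p 0 = true}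
    {hm : ∀ a < 768, ∀ b < 768, p a = true → p b = true → p (mulc 0 a b) = true} {a : ℕ} (ha : a < 768) :
    F.el a ∈ F.sub p h0 hm ↔ p a = true :=
  ⟨fun ⟨b, hb, pb, e⟩ => F.el_inj hb ha e ▸ pb, fun h => ⟨a, ha, h, rfl⟩⟩

theorem Fr.sub_comm (F : Fr G z 0) {p : ℕ → Bool} {h0 : p 0 = true}
    {hm : ∀ a < 768, ∀ b < 768, p a = true → p b = true → p (mulc 0 a b) = true} {g : G}
    (hg : g ∈ F.sub p h0 hm) : Commute g z := by
  obtain ⟨a, ha, -, rfl⟩ := hg
  exact F.el_comm ha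

theorem Fr.card_sub (F : Fr G z 0) {p : ℕ → Bool} {h0 : p 0 = true}
    {hm : ∀ a < 768, ∀ b < 768, p a = true → p b = true → p (mulc 0 a b) = true} :
    Nat.card (F.sub p h0 hm) = (els.filter p).length :=
  F.card_eq p (· ∈ F.sub p h0 hm) (fun _ => F.sub_comm) (fun _ => F.mem_sub)

/-- a two-subgroup all of whose central conjugates of the involution are trivial absorbs the two-subgroups -/
theorem full_of_central {S K : Subgroup G} (n : ℕ) (hS : Nat.card S = 2 ^ n) (hSK : S ≤ K)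
    (hSH : ∀ x ∈ S, Commute x z) (hzS : z ∈ S) (hz2 : z * z = 1)
    (hc : ∃ k, Odd k ∧ Nat.card {g : G // g ∈ K ∧ Commute g z} = k * 2 ^ n)
    (hD : ∀ x ∈ S, x * x = 1 → (∀ y ∈ S, Commute x y) → IsConj z x → x = z)
    (Q : Subgroup G) (hQK : Q ≤ K) (hQ : IsPGroup 2 Q) :
    ∃ k : G, ∀ q ∈ Q, k * q * k⁻¹ ∈ S := by
  haveI : Fact (Nat.Prime 2) := ⟨Nat.prime_two⟩
  obtain ⟨P, hP⟩ := (IsPGroup.of_card (p := 2) (n := n)
    ((Nat.card_congr (Subgroup.subgroupOfEquivOfLe hSK).toEquiv).trans hS)).exists_le_sylow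
  set A : Subgroup G := (P : Subgroup K).map K.subtype with hA
  have hA2 : IsPGroup 2 A := P.isPGroup'.map K.subtype
  have hSA : S ≤ A := fun s hs => ⟨⟨s, hSK hs⟩, hP hs, rfl⟩
  have hAK : A ≤ K := Subgroup.map_subtype_le _
  have hAS : A ≤ S := by
    by_contra hne
    haveI : Group.IsNilpotent A := hA2.isNilpotent
    have hlt : S.subgroupOf A < ⊤ := lt_top_iff_ne_top.2 fun e => hne (Subgroup.subgroupOf_eq_top.1 e)
    obtain ⟨g, hg, hgS⟩ := SetLike.exists_of_lt (Group.normalizerCondition_of_isNilpotent (G := A) _ hlt)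
    rw [Subgroup.mem_normalizer_iff] at hg
    have hsmall : ∀ y : G, y ∈ S → (g : G) * y * (g : G)⁻¹ ∈ S := fun y hy =>
      (hg ⟨y, hSA hy⟩).1 hy
    have hsmall' : ∀ y : G, y ∈ S → (g : G)⁻¹ * y * g ∈ S := fun y hy => by
      have h := (hg (g⁻¹ * ⟨y, hSA hy⟩ * g)).2 (by
        rw [show g * (g⁻¹ * ⟨y, hSA hy⟩ * g) * g⁻¹ = (⟨y, hSA hy⟩ : A) by group]
        exact hy)
      exact h
    have hgz : (g : G) * z * (g : G)⁻¹ = z := by
      refine hD _ (hsmall z hzS) ?_ (fun y hy => ?_) (isConj_iff.2 ⟨g, rfl⟩)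
      · rw [show (g : G) * z * (g : G)⁻¹ * ((g : G) * z * (g : G)⁻¹) = g * (z * z) * (g : G)⁻¹ by group, hz2]
        group
      · have h := (hSH _ (hsmall' y hy)).symm.map (MulAut.conj (g : G))
        rwa [MulAut.conj_apply, MulAut.conj_apply,
          show (g : G) * ((g : G)⁻¹ * y * g) * (g : G)⁻¹ = y by group] at h
    let L : Subgroup G := A ⊓ Subgroup.centralizer {z}
    have hSL : S ≤ L := fun s hs => ⟨hSA hs, Subgroup.mem_centralizer_singleton_iff.2 (hSH s hs).eq⟩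
    have hgL : (g : G) ∈ L :=
      ⟨g.2, Subgroup.mem_centralizer_singleton_iff.2 (mul_inv_eq_iff_eq_mul.1 hgz)⟩
    obtain ⟨m, hm⟩ := (hA2.to_le (inf_le_left : L ≤ A)).exists_card_eq
    obtain ⟨k, hk, hck⟩ := hc
    have hdvd : Nat.card L ∣ k * 2 ^ n := by
      rw [← hck]
      refine (Subgroup.card_dvd_of_le (K := K ⊓ Subgroup.centralizer {z}) (inf_le_inf_right _ hAK)).trans ?_
      refine dvd_of_eq (Nat.card_congr (Equiv.subtypeEquivRight fun x => ?_))
      rw [Subgroup.mem_inf, Subgroup.mem_centralizer_singleton_iff]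
      exact Iff.rfl
    rw [hm] at hdvd
    have h2 := ((Nat.coprime_two_left.2 hk).pow_left m).dvd_of_dvd_mul_left hdvd
    have he := Subgroup.eq_of_le_of_card_ge hSL (by rw [hm, hS]; exact Nat.le_of_dvd (by positivity) h2)
    exact hgS (show (g : G) ∈ S from he ▸ hgL)
  obtain ⟨R, hR⟩ := ((hQ.of_equiv (Subgroup.subgroupOfEquivOfLe hQK).symm)).exists_le_sylow
  obtain ⟨k, rfl⟩ := MulAction.exists_smul_eq K R P
  refine ⟨k, fun q hq => hAS ⟨k * ⟨q, hQK hq⟩ * k⁻¹, ?_, rfl⟩⟩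
  exact ⟨⟨q, hQK hq⟩, hR hq, rfl⟩

end Cfsg.Agent.Spor.AutPSLFour
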